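import Cfsg.Agent.SpFourOdd.PairFacts

/-!
# Field automorphisms in `C(z)`

The hypotheses `CentF`, `Cent0` on the centralizer of `z` (allowing diagonal field automorphisms of odd order), and
their consequences: `Weak D`; elements centralising a root group lie in `L₁ L₂`.
-/

set_option autoImplicit false

namespace Cfsg.Agent.SpFourOdd.Closing

open Matrix

section

variable {G F : Type*} [Group G] [Field F]

/-- `C(z)` acts on `φ₁`, `φ₂` by inner automorphisms and a common field automorphism of odd order, up to `w` -/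
def CentF (D : Pair G F) : Prop :=
  ∀ c, c * D.z = D.z * c → ∃ (d : G) (σ : F ≃+* F) (a b : SL2 F), (c = d ∨ c = d * D.w) ∧ Odd (orderOf σ) ∧
    (∀ x, d * D.φ₁ x * d⁻¹ = D.φ₁ (a * SpecialLinearGroup.map (σ : F →+* F) x * a⁻¹)) ∧
    (∀ x, d * D.φ₂ x * d⁻¹ = D.φ₂ (b * SpecialLinearGroup.map (σ : F →+* F) x * b⁻¹))

/-- the centralizer of `L₁ L₂` is `⟨z⟩` -/
def Cent0 (D : Pair G F) : Prop :=
  ∀ c, (∀ x, c * D.φ₁ x = D.φ₁ x * c) → (∀ x, c * D.φ₂ x = D.φ₂ x * c) → c = 1 ∨ c = D.z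

theorem ent_map (σ : F →+* F) (x : SL2 F) (i j : Fin 2) : ent (SpecialLinearGroup.map σ x) i j = σ (ent x i j) := rfl

theorem ent_ux (t : F) : ent (ux t) 0 0 = 1 ∧ ent (ux t) 0 1 = t ∧ ent (ux t) 1 0 = 0 ∧ ent (ux t) 1 1 = 1 :=
  ⟨rfl, rfl, rfl, rfl⟩

theorem ent_lx (t : F) : ent (lx t) 0 0 = 1 ∧ ent (lx t) 0 1 = 0 ∧ ent (lx t) 1 0 = t ∧ ent (lx t) 1 1 = 1 :=
  ⟨rfl, rfl, rfl, rfl⟩

theorem map_ux (σ : F →+* F) (t : F) : SpecialLinearGroup.map σ (ux t) = ux (σ t) := by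
  apply ent_ext
  · rw [ent_map, (ent_ux _).1, (ent_ux _).1, map_one]
  · rw [ent_map, (ent_ux _).2.1, (ent_ux _).2.1]
  · rw [ent_map, (ent_ux _).2.2.1, (ent_ux _).2.2.1, map_zero]
  · rw [ent_map, (ent_ux _).2.2.2, (ent_ux _).2.2.2, map_one]

theorem map_lx (σ : F →+* F) (t : F) : SpecialLinearGroup.map σ (lx t) = lx (σ t) := by
  apply ent_ext
  · rw [ent_map, (ent_lx _).1, (ent_lx _).1, map_one]
  · rw [ent_map, (ent_lx _).2.1, (ent_lx _).2.1, map_zero]
  · rw [ent_map, (ent_lx _).2.2.1, (ent_lx _).2.2.1]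
  · rw [ent_map, (ent_lx _).2.2.2, (ent_lx _).2.2.2, map_one]

/-- `a (ux (σ t)) a⁻¹ = ux t` for all `t` implies `σ = 1` and `a = ± ux s` -/
theorem fix_ux {σ : F ≃+* F} {a : SL2 F} (h : ∀ t, a * ux (σ t) * a⁻¹ = ux t) :
    σ = RingEquiv.refl F ∧ ∃ s, a = ux s ∨ a = - ux s := by
  have h' : ∀ t, a * ux (σ t) = ux t * a := by
    intro t
    rw [← h t]
    group
  have hd := ent_det a
  obtain ⟨p, hp⟩ : ∃ p, ent a 0 0 = p := ⟨_, rfl⟩
  obtain ⟨q, hq⟩ : ∃ p, ent a 0 1 = p := ⟨_, rfl⟩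
  obtain ⟨r, hr⟩ : ∃ p, ent a 1 0 = p := ⟨_, rfl⟩
  obtain ⟨s, hs⟩ : ∃ p, ent a 1 1 = p := ⟨_, rfl⟩
  have e00 : ∀ t, p = p + t * r := by
    intro t
    have := congrArg (fun A : SL2 F => ent A 0 0) (h' t)
    simp only [ent_mul, (ent_ux _).1, (ent_ux _).2.1, (ent_ux _).2.2.1, hp, hr] at this
    linear_combination this
  have e01 : ∀ t, p * σ t = t * s := by
    intro t
    have := congrArg (fun A : SL2 F => ent A 0 1) (h' t)
    simp only [ent_mul, (ent_ux _).1, (ent_ux _).2.1, (ent_ux _).2.2.2, hp, hq, hs] at this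
    linear_combination this
  have hr0 : r = 0 := by
    have := e00 1
    linear_combination -this
  have hps : p = s := by
    have := e01 1
    rw [map_one] at this
    linear_combination this
  have hpp : p * p = 1 := by
    simp only [hp, hq, hr, hs] at hd
    rw [hr0, ← hps] at hd
    linear_combination hd
  have hp0 : p ≠ 0 := by
    rintro rfl
    simp at hpp
  refine ⟨?_, ?_⟩
  · ext t
    have := e01 t
    rw [← hps, mul_comm t] at this
    exact mul_left_cancel₀ hp0 this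
  · have h3 : (p - 1) * (p + 1) = 0 := by linear_combination hpp
    rcases mul_eq_zero.mp h3 with h4 | h4
    · have hp1 : p = 1 := sub_eq_zero.mp h4
      refine ⟨q, Or.inl ?_⟩
      apply ent_ext
      · rw [hp, hp1]; rfl
      · rw [hq]; rfl
      · rw [hr, hr0]; rfl
      · rw [hs, ← hps, hp1]; rfl
    · have hp1 : p = -1 := by linear_combination h4
      refine ⟨-q, Or.inr ?_⟩
      apply ent_ext
      · rw [ent_neg, hp, hp1]; rfl
      · rw [ent_neg, hq, (ent_ux _).2.1, neg_neg]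
      · rw [ent_neg, hr, hr0, (ent_ux _).2.2.1, neg_zero]
      · rw [ent_neg, hs, ← hps, hp1]; rfl

/-- an inner automorphism times a field automorphism is trivial only if the field automorphism is -/
theorem field_inner {σ : F ≃+* F} {c : SL2 F} (h : ∀ x, c * SpecialLinearGroup.map (σ : F →+* F) x * c⁻¹ = x) :
    σ = RingEquiv.refl F := by
  refine (fix_ux (a := c) ?_).1
  intro t
  have := h (ux t)
  rw [map_ux] at this
  exact this

theorem sq_eq_one {σ : F ≃+* F} (hodd : Odd (orderOf σ)) (h : σ.trans σ = RingEquiv.refl F) :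
    σ = RingEquiv.refl F := by
  have h1 : σ * σ = 1 := h
  have h3 : orderOf σ ∣ 2 := orderOf_dvd_of_pow_eq_one (by rw [pow_two, h1])
  rcases (Nat.dvd_prime Nat.prime_two).mp h3 with h4 | h4
  · exact orderOf_eq_one_iff.mp h4
  · rw [h4] at hodd
    exact absurd hodd (by decide)

theorem map_map' (σ τ : F ≃+* F) (x : SL2 F) : SpecialLinearGroup.map (τ : F →+* F)
    (SpecialLinearGroup.map (σ : F →+* F) x) = SpecialLinearGroup.map ((σ.trans τ : F ≃+* F) : F →+* F) x := by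
  apply ent_ext <;> rfl

theorem map_refl (x : SL2 F) : SpecialLinearGroup.map ((RingEquiv.refl F : F ≃+* F) : F →+* F) x = x := by
  apply ent_ext <;> rfl

theorem map_conj' (σ : F ≃+* F) (a x : SL2 F) : SpecialLinearGroup.map (σ : F →+* F) (a * x * a⁻¹) =
    SpecialLinearGroup.map (σ : F →+* F) a * SpecialLinearGroup.map (σ : F →+* F) x *
      (SpecialLinearGroup.map (σ : F →+* F) a)⁻¹ := by
  rw [map_mul, map_mul, map_inv]

variable {D : Pair G F}

/-- an element acting on `φ₁`, `φ₂` by inner automorphisms lies in `L₁ L₂` -/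
theorem inner_mem (h0 : Cent0 D) {d : G} {a b : SL2 F} (h₁ : ∀ x, d * D.φ₁ x * d⁻¹ = D.φ₁ (a * x * a⁻¹))
    (h₂ : ∀ x, d * D.φ₂ x * d⁻¹ = D.φ₂ (b * x * b⁻¹)) :
    d = D.φ₁ a * D.φ₂ b ∨ d = D.φ₁ (-a) * D.φ₂ b := by
  have e1 : ∀ x, d * D.φ₁ x = D.φ₁ (a * x * a⁻¹) * d := fun x => by rw [← h₁ x]; group
  have e2 : ∀ x, d * D.φ₂ x = D.φ₂ (b * x * b⁻¹) * d := fun x => by rw [← h₂ x]; group
  have h3 : (D.φ₁ a * D.φ₂ b)⁻¹ * d = 1 ∨ (D.φ₁ a * D.φ₂ b)⁻¹ * d = D.z := by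
    apply h0
    · intro x
      rw [mul_assoc, e1, ← mul_assoc, inv_form]
      have h4 : D.φ₁ a⁻¹ * D.φ₂ b⁻¹ * D.φ₁ (a * x * a⁻¹) = D.φ₁ x * (D.φ₁ a⁻¹ * D.φ₂ b⁻¹) := by
        have i1 : D.φ₁ (a * x * a⁻¹) = D.φ₁ (a * x * a⁻¹) * D.φ₂ 1 := by rw [map_one, mul_one]
        have i2 : D.φ₁ x = D.φ₁ x * D.φ₂ 1 := by rw [map_one, mul_one]
        rw [i1, i2, mul_form, mul_form, one_mul, mul_one]
        congr 2
        group
      rw [h4, mul_assoc]
    · intro x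
      rw [mul_assoc, e2, ← mul_assoc, inv_form]
      have h4 : D.φ₁ a⁻¹ * D.φ₂ b⁻¹ * D.φ₂ (b * x * b⁻¹) = D.φ₂ x * (D.φ₁ a⁻¹ * D.φ₂ b⁻¹) := by
        have i1 : D.φ₂ (b * x * b⁻¹) = D.φ₁ 1 * D.φ₂ (b * x * b⁻¹) := by rw [map_one, one_mul]
        have i2 : D.φ₂ x = D.φ₁ 1 * D.φ₂ x := by rw [map_one, one_mul]
        rw [i1, i2, mul_form, mul_form, one_mul, mul_one]
        congr 2
        group
      rw [h4, mul_assoc]
  rcases h3 with h4 | h4
  · left
    exact (inv_mul_eq_one.mp h4).symm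
  · right
    rw [inv_mul_eq_iff_eq_mul] at h4
    rw [h4, neg₁, ← z_form, mul_assoc]

/-- the consequences for involutions -/
theorem weak_of_field (hc : CentF D) (h0 : Cent0 D) (zu : ¬ IsConj D.z (D.z * D.w))
    (zk : ∀ a b, a * a = -1 → b * b = -1 → ¬ IsConj D.z (D.φ₁ a * D.φ₂ b)) : Weak D where
  inv := by
    intro c hcz hcc
    obtain ⟨d, σ, a, b, hcd, hodd, h₁, h₂⟩ := hc c hcz
    -- `σ = 1`
    have hσ : σ = RingEquiv.refl F := by
      apply sq_eq_one hodd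
      rcases hcd with rfl | rfl
      · apply field_inner (c := a * SpecialLinearGroup.map (σ : F →+* F) a)
        intro x
        apply inj₁ D
        have e : c * (c * D.φ₁ x * c⁻¹) * c⁻¹ = D.φ₁ x := by
          have : c * (c * D.φ₁ x * c⁻¹) * c⁻¹ = (c * c) * D.φ₁ x * (c * c)⁻¹ := by group
          rw [this, hcc]
          group
        rw [h₁, h₁] at e
        rw [← e, ← map_map', map_conj']
        congr 1
        group
      · apply field_inner (c := a * SpecialLinearGroup.map (σ : F →+* F) b)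
        intro x
        apply inj₁ D
        have hww : D.w⁻¹ = D.w := w_inv D
        have e : d * (D.w * (d * (D.w * D.φ₁ x * D.w⁻¹) * d⁻¹) * D.w⁻¹) * d⁻¹ = D.φ₁ x := by
          have : d * (D.w * (d * (D.w * D.φ₁ x * D.w⁻¹) * d⁻¹) * D.w⁻¹) * d⁻¹ =
            (d * D.w * (d * D.w)) * D.φ₁ x * (d * D.w * (d * D.w))⁻¹ := by group
          rw [this, hcc]
          group
        rw [w₁, mul_inv_cancel_right, h₂, w₂, mul_inv_cancel_right, h₁] at e
        rw [← e, ← map_map', map_conj']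
        congr 1
        group
    subst hσ
    simp only [map_refl] at h₁ h₂
    rcases inner_mem h0 h₁ h₂ with h | h
    · refine ⟨a, b, ?_⟩
      rcases hcd with h3 | h3
      · exact Or.inl (h3.trans h)
      · exact Or.inr (by rw [h3, h])
    · refine ⟨-a, b, ?_⟩
      rcases hcd with h3 | h3
      · exact Or.inl (h3.trans h)
      · exact Or.inr (by rw [h3, h])
  nrm := by
    intro c hcz x
    obtain ⟨d, σ, a, b, hcd, hodd, h₁, h₂⟩ := hc c hcz
    rcases hcd with rfl | rfl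
    · exact ⟨_, Or.inl (h₁ x)⟩
    · refine ⟨b * SpecialLinearGroup.map (σ : F →+* F) x * b⁻¹, Or.inr ?_⟩
      rw [← h₂ x, _root_.mul_inv_rev]
      have : d * D.w * D.φ₁ x * (D.w⁻¹ * d⁻¹) = d * (D.w * D.φ₁ x * D.w⁻¹) * d⁻¹ := by group
      rw [this, w₁, mul_inv_cancel_right]
  zu := zu
  zk := zk

/-- an element of `C(z)` centralising `φ₁ (ux t)` for all `t` lies in `X₁ L₂` -/
theorem cent_X₁ (hc : CentF D) (h0 : Cent0 D) {c : G} (hcz : c * D.z = D.z * c)
    (h : ∀ t, c * D.φ₁ (ux t) = D.φ₁ (ux t) * c) : ∃ s b, c = D.φ₁ (ux s) * D.φ₂ b := by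
  obtain ⟨d, σ, a, b, hcd, hodd, h₁, h₂⟩ := hc c hcz
  have h' : ∀ t, c * D.φ₁ (ux t) * c⁻¹ = D.φ₁ (ux t) := fun t => by rw [h t, mul_inv_cancel_right]
  rcases hcd with rfl | rfl
  · have h3 : ∀ t, a * ux (σ t) * a⁻¹ = ux t := by
      intro t
      apply inj₁ D
      rw [← h' t, h₁, map_ux]
      rfl
    obtain ⟨hσ, s, hs⟩ := fix_ux h3
    subst hσ
    simp only [map_refl] at h₁ h₂
    rcases inner_mem h0 h₁ h₂ with h4 | h4 <;> rcases hs with h5 | h5
    · exact ⟨s, b, by rw [h4, h5]⟩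
    · refine ⟨s, -b, ?_⟩
      rw [h4, h5]
      exact (eq_iff D _ _ _ _).mpr (Or.inr ⟨rfl, by rw [neg_neg]⟩)
    · refine ⟨s, -b, ?_⟩
      rw [h4, h5]
      exact (eq_iff D _ _ _ _).mpr (Or.inr ⟨rfl, by rw [neg_neg]⟩)
    · exact ⟨s, b, by rw [h4, h5, neg_neg]⟩
  · exfalso
    have h3 := h' 1
    have e : d * D.w * D.φ₁ (ux 1) * (d * D.w)⁻¹ = d * (D.w * D.φ₁ (ux 1) * D.w⁻¹) * d⁻¹ := by group
    rw [e, w₁, mul_inv_cancel_right, h₂] at h3
    have hu1 : (ux 1 : SL2 F) ≠ 1 := by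
      intro h
      have := congrArg (fun A : SL2 F => ent A 0 1) h
      exact one_ne_zero this
    have hu2 : (ux 1 : SL2 F) ≠ -1 := by
      intro h
      have := congrArg (fun A : SL2 F => ent A 0 1) h
      simp only [ent_neg, one01, neg_zero] at this
      exact one_ne_zero this
    rcases eq₁₂ D h3.symm with h4 | h4
    · exact hu1 h4.1
    · exact hu2 h4.1

theorem ux_ne_neg (h2 : (2 : F) ≠ 0) {a : SL2 F} {s t : F} (h : a * ux s * a⁻¹ = -ux t) : False := by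
  have h' : a * ux s = -(ux t * a) := by
    rw [← neg_mul, ← h]
    group
  have hd := ent_det a
  have e00 := congrArg (fun A : SL2 F => ent A 0 0) h'
  have e10 := congrArg (fun A : SL2 F => ent A 1 0) h'
  simp only [ent_neg, ent_mul, (ent_ux _).1, (ent_ux _).2.1, (ent_ux _).2.2.1, (ent_ux _).2.2.2] at e00 e10
  have h10 : ent a 1 0 = 0 := by
    have : (2 : F) * ent a 1 0 = 0 := by linear_combination e10
    exact (mul_eq_zero.mp this).resolve_left h2
  have h00 : ent a 0 0 = 0 := by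
    rw [h10] at e00
    have : (2 : F) * ent a 0 0 = 0 := by linear_combination e00
    exact (mul_eq_zero.mp this).resolve_left h2
  rw [h10, h00] at hd
  simp at hd

/-- an element of `C(z)` centralising `φ₁ (ux t) φ₂ (ux t)` for all `t` lies in `X₁ X₂ ⟨z, w⟩` -/
theorem cent_P (h2 : (2 : F) ≠ 0) (hc : CentF D) (h0 : Cent0 D) {c : G} (hcz : c * D.z = D.z * c)
    (h : ∀ t, c * (D.φ₁ (ux t) * D.φ₂ (ux t)) = (D.φ₁ (ux t) * D.φ₂ (ux t)) * c) :
    ∃ s r v, (v = 1 ∨ v = D.z ∨ v = D.w ∨ v = D.z * D.w) ∧ c = D.φ₁ (ux s) * D.φ₂ (ux r) * v := by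
  obtain ⟨d, σ, a, b, hcd, hodd, h₁, h₂⟩ := hc c hcz
  -- `d` centralises `P`
  have hd : ∀ t, d * (D.φ₁ (ux t) * D.φ₂ (ux t)) * d⁻¹ = D.φ₁ (ux t) * D.φ₂ (ux t) := by
    intro t
    rcases hcd with rfl | rfl
    · rw [h t, mul_inv_cancel_right]
    · have e := h t
      have e2 : d * D.w * (D.φ₁ (ux t) * D.φ₂ (ux t)) = d * (D.w * (D.φ₁ (ux t) * D.φ₂ (ux t))) := by group
      rw [e2, w_form] at e
      have e3 : d * (D.φ₁ (ux t) * D.φ₂ (ux t) * D.w) = d * (D.φ₁ (ux t) * D.φ₂ (ux t)) * D.w := by group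
      rw [e3, ← mul_assoc (_ * _) d, mul_left_inj] at e
      rw [e, mul_inv_cancel_right]
  have hab : ∀ t, a * ux (σ t) * a⁻¹ = ux t ∧ b * ux (σ t) * b⁻¹ = ux t := by
    intro t
    have e := hd t
    have e2 : d * (D.φ₁ (ux t) * D.φ₂ (ux t)) * d⁻¹ = (d * D.φ₁ (ux t) * d⁻¹) * (d * D.φ₂ (ux t) * d⁻¹) := by group
    rw [e2, h₁, h₂, map_ux] at e
    rcases (eq_iff D _ _ _ _).mp e with h3 | h3
    · exact h3
    · exact (ux_ne_neg h2 h3.1).elim
  obtain ⟨hσ, s, hs⟩ := fix_ux (fun t => (hab t).1)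
  obtain ⟨-, r, hr⟩ := fix_ux (fun t => (hab t).2)
  subst hσ
  simp only [map_refl] at h₁ h₂
  have hform : ∃ v, (v = 1 ∨ v = D.z) ∧ d = D.φ₁ (ux s) * D.φ₂ (ux r) * v := by
    have key : ∀ a' b' : SL2 F, (a' = ux s ∨ a' = -ux s) → (b' = ux r ∨ b' = -ux r) →
        ∃ v, (v = 1 ∨ v = D.z) ∧ D.φ₁ a' * D.φ₂ b' = D.φ₁ (ux s) * D.φ₂ (ux r) * v := by
      rintro a' b' (rfl | rfl) (rfl | rfl)
      · exact ⟨1, Or.inl rfl, by rw [mul_one]⟩
      · exact ⟨D.z, Or.inr rfl, by rw [neg₂, z_comm₂, mul_assoc]⟩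
      · exact ⟨D.z, Or.inr rfl, by rw [neg₁, ← z_form, mul_assoc]⟩
      · refine ⟨1, Or.inl rfl, ?_⟩
        rw [mul_one]
        exact (eq_iff D _ _ _ _).mpr (Or.inr ⟨rfl, rfl⟩)
    rcases inner_mem h0 h₁ h₂ with h4 | h4
    · obtain ⟨v, hv, h5⟩ := key a b hs hr
      exact ⟨v, hv, h4.trans h5⟩
    · obtain ⟨v, hv, h5⟩ := key (-a) b (by rcases hs with h6 | h6
                                           · right; rw [h6]
                                           · left; rw [h6, neg_neg]) hr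
      exact ⟨v, hv, h4.trans h5⟩
  obtain ⟨v, hv, h4⟩ := hform
  rcases hcd with h3 | h3
  · refine ⟨s, r, v, ?_, h3.trans h4⟩
    rcases hv with h5 | h5
    · exact Or.inl h5
    · exact Or.inr (Or.inl h5)
  · refine ⟨s, r, v * D.w, ?_, by rw [h3, h4, mul_assoc]⟩
    rcases hv with rfl | rfl
    · right; right; left; rw [one_mul]
    · right; right; right; rfl

end

end Cfsg.Agent.SpFourOdd.Closing
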