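import Cfsg.Agent.SpFourOdd.PairFacts
import Cfsg.Agent.S0058

/-!
# Four-groups acting on groups of odd order; involutions modulo groups of odd order
-/

set_option autoImplicit false

namespace Cfsg.Agent.SpFourOdd.Closing

section

variable {G : Type*} [Group G]

/-- an involution is conjugate into any subgroup of odd index -/
theorem exists_conj_mem [Finite G] (K : Subgroup G) (hK : Odd K.index) {y : G} (hy : y * y = 1) :
    ∃ g : G, g⁻¹ * y * g ∈ K := by
  classical
  have : Fact (Nat.Prime 2) := ⟨Nat.prime_two⟩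
  have hp : IsPGroup 2 (Subgroup.zpowers y) := by
    rw [IsPGroup.iff_card]
    rw [Nat.card_zpowers]
    have h1 : orderOf y ∣ 2 := orderOf_dvd_of_pow_eq_one (by rw [pow_two, hy])
    rcases (Nat.dvd_prime Nat.prime_two).mp h1 with h | h
    · exact ⟨0, by rw [h, pow_zero]⟩
    · exact ⟨1, by rw [h, pow_one]⟩
  have h1 := hp.card_modEq_card_fixedPoints (α := G ⧸ K)
  have h3 : Nat.card (G ⧸ K) = K.index := rfl
  rw [h3] at h1
  have h4 : Nat.card (MulAction.fixedPoints (Subgroup.zpowers y) (G ⧸ K)) ≠ 0 := by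
    intro h
    rw [h] at h1
    have : K.index % 2 = 0 := h1
    rw [Nat.odd_iff] at hK
    omega
  rw [Nat.card_ne_zero] at h4
  obtain ⟨⟨x, hx⟩⟩ := h4.1
  induction x using QuotientGroup.induction_on with
  | H g =>
    refine ⟨g, ?_⟩
    have h5 := hx ⟨y, Subgroup.mem_zpowers y⟩
    have h6 : ((y * g : G) : G ⧸ K) = (g : G ⧸ K) := h5
    rw [eq_comm, QuotientGroup.eq, ← mul_assoc] at h6
    exact h6

/-- If `O` is an odd order subgroup normalised by `K` then every involution of `K O` is conjugate in `K O` into `K`. -/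
theorem exists_conj_in [Finite G] (K O : Subgroup G) (hO : Odd (Nat.card O))
    (hnorm : ∀ k ∈ K, ∀ o ∈ O, k * o * k⁻¹ ∈ O) {y : G} (hy : y * y = 1) (hyKO : y ∈ K ⊔ O) :
    ∃ g ∈ K ⊔ O, g⁻¹ * y * g ∈ K := by
  classical
  set M := K ⊔ O with hM
  have hOn : (O.subgroupOf M).Normal := by
    have h1 : M ≤ Subgroup.normalizer (O : Set G) := by
      rw [hM, sup_le_iff]
      refine ⟨?_, Subgroup.le_normalizer⟩
      intro k hk
      rw [Subgroup.mem_normalizer_iff]
      intro o
      constructor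
      · exact hnorm k hk o
      · intro ho
        have := hnorm k⁻¹ (inv_mem hk) _ ho
        have h3 : k⁻¹ * (k * o * k⁻¹) * k⁻¹⁻¹ = o := by group
        rwa [h3] at this
    exact Subgroup.normal_subgroupOf_of_le_normalizer h1
  have hodd : Odd (K.subgroupOf M).index := by
    -- `|M| = |O| · [K : K ∩ O]`
    have hKO : (K.subgroupOf M) ⊔ (O.subgroupOf M) = ⊤ :=
      codisjoint_iff.mp (Subgroup.codisjoint_subgroupOf_sup K O)
    have h1 : (O.subgroupOf M).relIndex (K.subgroupOf M) = (O.subgroupOf M).index := by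
      rw [← Subgroup.relIndex_sup_right, hKO, Subgroup.relIndex_top_right]
    have h3 := (K.subgroupOf M).card_mul_index
    have h4 := (O.subgroupOf M).card_mul_index
    have h5 := ((O.subgroupOf M).subgroupOf (K.subgroupOf M)).card_mul_index
    change _ * (O.subgroupOf M).relIndex (K.subgroupOf M) = _ at h5
    rw [h1] at h5
    rw [← h5, ← h4] at h3
    have h6 : (O.subgroupOf M).index ≠ 0 := Subgroup.index_ne_zero_of_finite
    have h7 : Nat.card ((O.subgroupOf M).subgroupOf (K.subgroupOf M)) * (K.subgroupOf M).index =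
        Nat.card (O.subgroupOf M) := by
      apply Nat.eq_of_mul_eq_mul_right (Nat.pos_of_ne_zero h6)
      rw [← h3]
      ring
    have h8 : Nat.card (O.subgroupOf M) = Nat.card O :=
      Nat.card_congr (Subgroup.subgroupOfEquivOfLe le_sup_right).toEquiv
    rw [h8] at h7
    rw [← h7] at hO
    exact (Nat.odd_mul.mp hO).2
  obtain ⟨g, hg⟩ := exists_conj_mem (K.subgroupOf M) hodd (y := ⟨y, hyKO⟩) (Subtype.ext hy)
  exact ⟨g, g.2, hg⟩

theorem zpow_two_cases {x : G} (hx : x * x = 1) (m : ℤ) : x ^ m = 1 ∨ x ^ m = x := by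
  rcases Int.even_or_odd m with ⟨k, rfl⟩ | ⟨k, rfl⟩
  · left
    rw [zpow_add, ← (Commute.refl x).mul_zpow, hx, one_zpow]
  · right
    rw [zpow_add_one, two_mul, zpow_add, ← (Commute.refl x).mul_zpow, hx, one_zpow, one_mul]

/-- the four-group generated by two commuting involutions -/
def fours (x y : G) (hxy : Commute x y) : Subgroup G where
  carrier := {g | ∃ m n : ℤ, g = x ^ m * y ^ n}
  one_mem' := ⟨0, 0, by simp⟩
  mul_mem' := by
    rintro _ _ ⟨m, n, rfl⟩ ⟨m', n', rfl⟩
    refine ⟨m + m', n + n', ?_⟩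
    rw [zpow_add, zpow_add]
    have h : x ^ m * y ^ n * (x ^ m' * y ^ n') = x ^ m * (y ^ n * x ^ m') * y ^ n' := by group
    rw [h, ← (hxy.zpow_zpow m' n).eq]
    group
  inv_mem' := by
    rintro _ ⟨m, n, rfl⟩
    refine ⟨-m, -n, ?_⟩
    rw [mul_inv_rev, ← zpow_neg, ← zpow_neg]
    exact (hxy.zpow_zpow (-m) (-n)).eq.symm

/-- an odd order group normalised by a four-group is generated by the three centralizers -/
theorem le_of_fours [Finite G] {x y : G} (hxy : Commute x y) (hx : x * x = 1) (hy : y * y = 1) (hx1 : x ≠ 1)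
    (hy1 : y ≠ 1) (hne : x ≠ y) {O L : Subgroup G} (hO : Odd (Nat.card O)) (hxO : ∀ o ∈ O, x * o * x⁻¹ ∈ O)
    (hyO : ∀ o ∈ O, y * o * y⁻¹ ∈ O) (hLx : ∀ o ∈ O, o * x = x * o → o ∈ L) (hLy : ∀ o ∈ O, o * y = y * o → o ∈ L)
    (hLxy : ∀ o ∈ O, o * (x * y) = (x * y) * o → o ∈ L) : O ≤ L := by
  classical
  have : Fact (Nat.Prime 2) := ⟨Nat.prime_two⟩
  set A := fours x y hxy with hA
  have hxA : x ∈ A := ⟨1, 0, by simp⟩
  have hyA : y ∈ A := ⟨0, 1, by simp⟩
  have helt : ∀ a ∈ A, a = 1 ∨ a = x ∨ a = y ∨ a = x * y := by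
    rintro a ⟨m, n, rfl⟩
    rcases zpow_two_cases hx m with h1 | h1 <;> rcases zpow_two_cases hy n with h3 | h3 <;> rw [h1, h3]
    · left; rw [one_mul]
    · right; right; left; rw [one_mul]
    · right; left; rw [mul_one]
    · right; right; right; rfl
  have hcomm : IsMulCommutative A := by
    refine ⟨⟨?_⟩⟩
    rintro ⟨a, ha⟩ ⟨b, hb⟩
    apply Subtype.ext
    change a * b = b * a
    obtain ⟨m, n, rfl⟩ := ha
    obtain ⟨m', n', rfl⟩ := hb
    have c1 : Commute (x ^ m) (x ^ m' * y ^ n') :=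
      ((Commute.refl x).zpow_zpow m m').mul_right (hxy.zpow_zpow m n')
    have c2 : Commute (y ^ n) (x ^ m' * y ^ n') :=
      (hxy.symm.zpow_zpow n m').mul_right ((Commute.refl y).zpow_zpow n n')
    exact (c1.mul_left c2).eq
  have hsq : ∀ a ∈ A, a * a = 1 := by
    intro a ha
    rcases helt a ha with rfl | rfl | rfl | rfl
    · exact one_mul 1
    · exact hx
    · exact hy
    · have : x * y * (x * y) = x * (y * x) * y := by group
      rw [this, ← hxy.eq]
      have : x * (x * y) * y = (x * x) * (y * y) := by group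
      rw [this, hx, hy, one_mul]
  have hncyc : ¬ IsCyclic A := by
    intro h
    obtain ⟨⟨g, hg⟩, hgen⟩ := h.exists_generator
    obtain ⟨m, hm⟩ := hgen ⟨x, hxA⟩
    obtain ⟨n, hn⟩ := hgen ⟨y, hyA⟩
    have hm' : g ^ m = x := congrArg Subtype.val hm
    have hn' : g ^ n = y := congrArg Subtype.val hn
    rcases zpow_two_cases (hsq g hg) m with h1 | h1
    · exact hx1 (hm'.symm.trans h1)
    · rcases zpow_two_cases (hsq g hg) n with h3 | h3
      · exact hy1 (hn'.symm.trans h3)
      · exact hne (hm'.symm.trans (h1.trans (h3.symm.trans hn')))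
  have hpA : IsPGroup 2 A := by
    rintro ⟨a, ha⟩
    refine ⟨1, ?_⟩
    apply Subtype.ext
    change a ^ (2 ^ 1) = 1
    rw [pow_one, pow_two, hsq a ha]
  have hcop : (Nat.card A).Coprime (Nat.card O) := by
    obtain ⟨n, hn⟩ := hpA.exists_card_eq
    rw [hn]
    exact Nat.Coprime.pow_left n (Nat.coprime_two_left.mpr hO)
  have hnorm : A ≤ Subgroup.normalizer (O : Set G) := by
    have key : ∀ g : G, (∀ o ∈ O, g * o * g⁻¹ ∈ O) → g * g = 1 → g ∈ Subgroup.normalizer (O : Set G) := by
      intro g hg hgg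
      have hginv : g⁻¹ = g := inv_eq_of_mul_eq_one_left hgg
      rw [Subgroup.mem_normalizer_iff]
      intro o
      constructor
      · exact hg o
      · intro ho
        have := hg _ ho
        have h3 : g * (g * o * g⁻¹) * g⁻¹ = o := by
          rw [hginv]
          have : g * (g * o * g) * g = (g * g) * o * (g * g) := by group
          rw [this, hgg, one_mul, mul_one]
        rwa [h3] at this
    have kx := key x hxO hx
    have ky := key y hyO hy
    rintro a ⟨m, n, rfl⟩
    exact mul_mem (zpow_mem kx m) (zpow_mem ky n)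
  have h0 := S0058.result A O hncyc hnorm hcop
  rw [← h0]
  refine iSup₂_le ?_
  rintro a ⟨ha, ha1⟩ o ho
  obtain ⟨hoO, hoc⟩ := Subgroup.mem_inf.mp ho
  rw [Subgroup.mem_centralizer_singleton_iff] at hoc
  rcases helt a ha with rfl | rfl | rfl | rfl
  · exact absurd rfl ha1
  · exact hLx o hoO hoc
  · exact hLy o hoO hoc
  · exact hLxy o hoO hoc

end

end Cfsg.Agent.SpFourOdd.Closing
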