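import Cfsg.Agent.SpFourOdd.Defs
import Cfsg.Agent.Ree.PSLTori

/-!
# Elementary facts on `SL₂(F)`, `F` finite of odd characteristic
-/

set_option autoImplicit false
set_option linter.all false

namespace Cfsg.Agent.SpFourOdd.LnSL

open Matrix Cfsg.Agent.SpFourOdd

variable {F : Type*} [Field F]

theorem ext2 {a b : SL2 F} (h00 : a 0 0 = b 0 0) (h01 : a 0 1 = b 0 1) (h10 : a 1 0 = b 1 0)
    (h11 : a 1 1 = b 1 1) : a = b := by
  ext i j
  fin_cases i <;> fin_cases j <;> assumption

theorem det_eq (a : SL2 F) : a 0 0 * a 1 1 - a 0 1 * a 1 0 = 1 := by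
  have := a.2
  rw [Matrix.det_fin_two] at this
  exact this

theorem mul00 (a b : SL2 F) : (a * b) 0 0 = a 0 0 * b 0 0 + a 0 1 * b 1 0 := by
  rw [Matrix.SpecialLinearGroup.coe_mul, Matrix.mul_apply, Fin.sum_univ_two]

theorem mul01 (a b : SL2 F) : (a * b) 0 1 = a 0 0 * b 0 1 + a 0 1 * b 1 1 := by
  rw [Matrix.SpecialLinearGroup.coe_mul, Matrix.mul_apply, Fin.sum_univ_two]

theorem mul10 (a b : SL2 F) : (a * b) 1 0 = a 1 0 * b 0 0 + a 1 1 * b 1 0 := by
  rw [Matrix.SpecialLinearGroup.coe_mul, Matrix.mul_apply, Fin.sum_univ_two]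

theorem mul11 (a b : SL2 F) : (a * b) 1 1 = a 1 0 * b 0 1 + a 1 1 * b 1 1 := by
  rw [Matrix.SpecialLinearGroup.coe_mul, Matrix.mul_apply, Fin.sum_univ_two]

theorem neg_ap (a : SL2 F) (i j : Fin 2) : (-a) i j = -(a i j) := by
  rw [Matrix.SpecialLinearGroup.coe_neg]; rfl

theorem one00 : (1 : SL2 F) 0 0 = 1 := by simp [Matrix.SpecialLinearGroup.coe_one]
theorem one01 : (1 : SL2 F) 0 1 = 0 := by simp [Matrix.SpecialLinearGroup.coe_one]
theorem one10 : (1 : SL2 F) 1 0 = 0 := by simp [Matrix.SpecialLinearGroup.coe_one]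
theorem one11 : (1 : SL2 F) 1 1 = 1 := by simp [Matrix.SpecialLinearGroup.coe_one]

theorem inv00 (a : SL2 F) : a⁻¹ 0 0 = a 1 1 := by
  rw [Matrix.SpecialLinearGroup.SL2_inv_expl]; rfl
theorem inv01 (a : SL2 F) : a⁻¹ 0 1 = -(a 0 1) := by
  rw [Matrix.SpecialLinearGroup.SL2_inv_expl]; rfl
theorem inv10 (a : SL2 F) : a⁻¹ 1 0 = -(a 1 0) := by
  rw [Matrix.SpecialLinearGroup.SL2_inv_expl]; rfl
theorem inv11 (a : SL2 F) : a⁻¹ 1 1 = a 0 0 := by
  rw [Matrix.SpecialLinearGroup.SL2_inv_expl]; rfl

@[simp] theorem ux00 (t : F) : (ux t) 0 0 = 1 := rfl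
@[simp] theorem ux01 (t : F) : (ux t) 0 1 = t := rfl
@[simp] theorem ux10 (t : F) : (ux t) 1 0 = 0 := rfl
@[simp] theorem ux11 (t : F) : (ux t) 1 1 = 1 := rfl
@[simp] theorem lx00 (t : F) : (lx t) 0 0 = 1 := rfl
@[simp] theorem lx01 (t : F) : (lx t) 0 1 = 0 := rfl
@[simp] theorem lx10 (t : F) : (lx t) 1 0 = t := rfl
@[simp] theorem lx11 (t : F) : (lx t) 1 1 = 1 := rfl
@[simp] theorem hx00 (b : Fˣ) : (hx b) 0 0 = b := rfl
@[simp] theorem hx01 (b : Fˣ) : (hx b) 0 1 = 0 := rfl
@[simp] theorem hx10 (b : Fˣ) : (hx b) 1 0 = 0 := rfl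
@[simp] theorem hx11 (b : Fˣ) : (hx b) 1 1 = ((b⁻¹ : Fˣ) : F) := rfl
@[simp] theorem nx00 : (nx : SL2 F) 0 0 = 0 := rfl
@[simp] theorem nx01 : (nx : SL2 F) 0 1 = 1 := rfl
@[simp] theorem nx10 : (nx : SL2 F) 1 0 = -1 := rfl
@[simp] theorem nx11 : (nx : SL2 F) 1 1 = 0 := rfl

theorem ux_add (s t : F) : ux (s + t) = ux s * ux t := by
  apply ext2
  · rw [mul00]; simp
  · rw [mul01]; simp [add_comm]
  · rw [mul10]; simp
  · rw [mul11]; simp

theorem ux_zero : (ux (0 : F)) = 1 := by
  apply ext2 <;> simp [one00, one01, one10, one11]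

theorem ux_neg (t : F) : ux (-t) = (ux t)⁻¹ := by
  rw [eq_inv_iff_mul_eq_one, ← ux_add, neg_add_cancel, ux_zero]

theorem ux_inj {s t : F} (h : ux s = ux t) : s = t := by
  have := congrArg (fun a : SL2 F => a 0 1) h
  simpa using this

theorem ux_pow (t : F) (n : ℕ) : (ux t) ^ n = ux (n * t) := by
  induction n with
  | zero => simp [ux_zero]
  | succ n ih => rw [pow_succ, ih, ← ux_add]; congr 1; push_cast; ring

theorem nx_sq : (nx : SL2 F) * nx = -1 := by
  apply ext2
  · rw [mul00, neg_ap, one00]; simp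
  · rw [mul01, neg_ap, one01]; simp
  · rw [mul10, neg_ap, one10]; simp
  · rw [mul11, neg_ap, one11]; simp

theorem neg_one_mul' (a : SL2 F) : (-1) * a = -a := by
  rw [neg_mul, one_mul]

theorem mul_neg_one' (a : SL2 F) : a * (-1) = -a := by
  rw [mul_neg, mul_one]

section odd

variable (h2 : (2 : F) ≠ 0)
include h2

theorem one_ne_neg_one : (1 : SL2 F) ≠ -1 := by
  intro h
  have := congrArg (fun a : SL2 F => a 0 0) h
  simp only [neg_ap, one00] at this
  apply h2
  linear_combination this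

theorem ne_neg (a : SL2 F) : a ≠ -a := by
  intro h
  apply one_ne_neg_one h2
  have : a * a⁻¹ = -a * a⁻¹ := congrArg (· * a⁻¹) h
  rw [neg_mul, mul_inv_cancel] at this
  exact this

theorem sq_eq_one {a : SL2 F} (h : a * a = 1) : a = 1 ∨ a = -1 := by
  have e00 := congrArg (fun a : SL2 F => a 0 0) h
  have e01 := congrArg (fun a : SL2 F => a 0 1) h
  have e10 := congrArg (fun a : SL2 F => a 1 0) h
  have e11 := congrArg (fun a : SL2 F => a 1 1) h
  simp only [mul00, mul01, mul10, mul11, one00, one01, one10, one11] at e00 e01 e10 e11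
  have hd := det_eq a
  -- a = a⁻¹, so a 0 0 = a 1 1 etc.
  have hinv : a = a⁻¹ := by rw [eq_inv_iff_mul_eq_one]; exact h
  have h01 : a 0 1 = 0 := by
    have : a 0 1 = -(a 0 1) := by conv_lhs => rw [hinv]; rw [inv01]
    have h3 : (2 : F) * a 0 1 = 0 := by linear_combination this
    exact (mul_eq_zero.1 h3).resolve_left h2
  have h10 : a 1 0 = 0 := by
    have : a 1 0 = -(a 1 0) := by conv_lhs => rw [hinv]; rw [inv10]
    have h3 : (2 : F) * a 1 0 = 0 := by linear_combination this
    exact (mul_eq_zero.1 h3).resolve_left h2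
  have hdd : a 0 0 = a 1 1 := by conv_lhs => rw [hinv]; rw [inv00]
  have hsq : a 0 0 * a 0 0 = 1 := by rw [h01, h10] at hd; rw [hdd] at hd ⊢; linear_combination hd
  rcases mul_self_eq_one_iff.1 hsq with h | h
  · left
    exact ext2 (by rw [h, one00]) (by rw [h01, one01]) (by rw [h10, one10]) (by rw [← hdd, h, one11])
  · right
    exact ext2 (by rw [h, neg_ap, one00]) (by rw [h01, neg_ap, one01, neg_zero])
      (by rw [h10, neg_ap, one10, neg_zero]) (by rw [← hdd, h, neg_ap, one11])

/-- `a² = -1` iff the trace is zero. -/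
theorem trace_of_sq {a : SL2 F} (h : a * a = -1) : a 1 1 = -(a 0 0) := by
  have hinv : a = -a⁻¹ := by
    have : a * a * a⁻¹ = (-1) * a⁻¹ := by rw [h]
    rwa [mul_inv_cancel_right, neg_one_mul'] at this
  have : a 1 1 = -(a⁻¹ 1 1) := by conv_lhs => rw [hinv]; rw [neg_ap]
  rw [inv11] at this
  exact this

theorem exists_anticomm [Finite F] : ∃ i j : SL2 F, i * i = -1 ∧ j * j = -1 ∧ i * j = -(j * i) := by
  classical
  have : Fintype F := Fintype.ofFinite F
  have hodd : Fintype.card F % 2 = 1 := by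
    rw [FiniteField.odd_card_of_char_ne_two]
    intro hc
    apply h2
    have := CharP.cast_eq_zero F (ringChar F)
    rw [hc] at this
    exact_mod_cast this
  obtain ⟨x, y, hxy⟩ : ∃ x y : F, x ^ 2 + y ^ 2 = -1 := by
    obtain ⟨p, n, hp, hn, hc⟩ : ∃ p n : ℕ, p.Prime ∧ 0 < n ∧ Fintype.card F = p ^ n := by
      obtain ⟨n, hp, hc⟩ := FiniteField.card F (ringChar F)
      exact ⟨ringChar F, n, hp, n.pos, hc⟩
    have := FiniteField.exists_root_sum_quadratic (R := F)
      (f := Polynomial.X ^ 2) (g := Polynomial.X ^ 2 + Polynomial.C 1)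
      (by rw [Polynomial.degree_X_pow]; rfl)
      (by rw [Polynomial.degree_X_pow_add_C (by norm_num)]; rfl) hodd
    obtain ⟨a, b, hab⟩ := this
    refine ⟨a, b, ?_⟩
    simp at hab
    linear_combination hab
  obtain ⟨i, i00, i01, i10, i11⟩ : ∃ i : SL2 F, i 0 0 = x ∧ i 0 1 = y ∧ i 1 0 = y ∧ i 1 1 = -x :=
    ⟨⟨!![x, y; y, -x], by rw [Matrix.det_fin_two_of]; linear_combination -hxy⟩, rfl, rfl, rfl, rfl⟩
  refine ⟨i, nx, ?_, nx_sq, ?_⟩
  · apply ext2
    · rw [mul00, neg_ap, one00, i00, i01, i10]; linear_combination hxy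
    · rw [mul01, neg_ap, one01, i00, i01, i11]; ring
    · rw [mul10, neg_ap, one10, i00, i10, i11]; ring
    · rw [mul11, neg_ap, one11, i01, i10, i11]; linear_combination hxy
  · apply ext2
    · rw [mul00, neg_ap, mul00, i00, i01, i10]; simp
    · rw [mul01, neg_ap, mul01, i00, i01, i11]; simp
    · rw [mul10, neg_ap, mul10, i00, i10, i11]; simp
    · rw [mul11, neg_ap, mul11, i01, i10, i11]; simp

theorem conj_of_sq [Finite F] {a b : SL2 F} (ha : a * a = -1) (hb : b * b = -1) : ∃ c, c * a * c⁻¹ = b := by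
  classical
  have : Fintype F := Fintype.ofFinite F
  apply Cfsg.Agent.Ree.PSLTori.exists_conj_of_tr h2
  · rw [Cfsg.Agent.Ree.PSLTori.tr, trace_of_sq h2 ha]
    intro h
    have h4 : (2 : F) * 2 = 0 := by
      have : (4 : F) = 0 := by rw [← h]; ring
      linear_combination this
    rcases mul_eq_zero.1 h4 with h | h <;> exact h2 h
  · rw [Cfsg.Agent.Ree.PSLTori.tr, Cfsg.Agent.Ree.PSLTori.tr, trace_of_sq h2 ha, trace_of_sq h2 hb]
    ring

/-- an element commuting or anticommuting with a nontrivial unipotent is `±` unipotent -/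
theorem comm_ux {a : SL2 F} {t : F} (ht : t ≠ 0) (h : a * ux t = ux t * a ∨ a * ux t = -(ux t * a)) :
    ∃ s, a = ux s ∨ a = -ux s := by
  rcases h with h | h
  · have e00 := congrArg (fun a : SL2 F => a 0 0) h
    have e01 := congrArg (fun a : SL2 F => a 0 1) h
    simp only [mul00, mul01, ux00, ux01, ux10, ux11] at e00 e01
    have h10 : a 1 0 = 0 := by
      have : t * a 1 0 = 0 := by linear_combination -e00
      exact (mul_eq_zero.1 this).resolve_left ht
    have h11 : a 1 1 = a 0 0 := by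
      have : t * (a 1 1 - a 0 0) = 0 := by linear_combination -e01
      have := (mul_eq_zero.1 this).resolve_left ht
      linear_combination this
    have hd := det_eq a
    have hsq : a 0 0 * a 0 0 = 1 := by rw [h10, h11] at hd; linear_combination hd
    rcases mul_self_eq_one_iff.1 hsq with h | h
    · exact ⟨a 0 1, Or.inl (ext2 (by simp [h]) (by simp) (by simp [h10]) (by simp [h11, h]))⟩
    · exact ⟨-(a 0 1), Or.inr (ext2 (by simp [h, neg_ap]) (by simp [neg_ap]) (by simp [h10, neg_ap])
        (by simp [h11, h, neg_ap]))⟩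
  · exfalso
    have e00 := congrArg (fun a : SL2 F => a 0 0) h
    have e01 := congrArg (fun a : SL2 F => a 0 1) h
    have e10 := congrArg (fun a : SL2 F => a 1 0) h
    have e11 := congrArg (fun a : SL2 F => a 1 1) h
    simp only [neg_ap, mul00, mul01, mul10, mul11, ux00, ux01, ux10, ux11] at e00 e01 e10 e11
    have h10 : a 1 0 = 0 := by
      have : (2 : F) * a 1 0 = 0 := by linear_combination e10
      exact (mul_eq_zero.1 this).resolve_left h2
    have h00 : a 0 0 = 0 := by
      rw [h10] at e00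
      have : (2 : F) * a 0 0 = 0 := by linear_combination e00
      exact (mul_eq_zero.1 this).resolve_left h2
    have hd := det_eq a
    rw [h10, h00] at hd
    simp at hd

/-- if `a` maps `ux 1` to `±` an upper unipotent element then `a` is upper triangular -/
theorem lower_zero {a : SL2 F} {s t : F} (ht : t ≠ 0)
    (h : a * ux t * a⁻¹ = ux s ∨ a * ux t * a⁻¹ = -ux s) : a 1 0 = 0 := by
  have h' : a * ux t = ux s * a ∨ a * ux t = -(ux s * a) := by
    rcases h with h | h
    · left; rw [← h]; group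
    · right; rw [← neg_mul, ← h]; group
  rcases h' with h | h
  · have e10 := congrArg (fun a : SL2 F => a 1 0) h
    have e11 := congrArg (fun a : SL2 F => a 1 1) h
    simp only [mul10, mul11, ux00, ux01, ux10, ux11] at e10 e11
    have : t * a 1 0 = 0 := by linear_combination e11
    exact (mul_eq_zero.1 this).resolve_left ht
  · have e10 := congrArg (fun a : SL2 F => a 1 0) h
    simp only [neg_ap, mul10, ux00, ux01, ux10, ux11] at e10
    have : (2 : F) * a 1 0 = 0 := by linear_combination e10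
    exact (mul_eq_zero.1 this).resolve_left h2

end odd

/-- an upper triangular element of `p`-power order is unipotent -/
theorem ux_of_pow {p : ℕ} [Fact p.Prime] [CharP F p] {a : SL2 F} (h10 : a 1 0 = 0) {k : ℕ}
    (h : a ^ (p ^ k) = 1) : ∃ s, a = ux s := by
  have key : ∀ n : ℕ, (a ^ n) 1 0 = 0 ∧ (a ^ n) 0 0 = (a 0 0) ^ n := by
    intro n
    induction n with
    | zero => simp [one10, one00]
    | succ n ih =>
      rw [pow_succ, mul10, mul00, ih.1, ih.2, h10]
      constructor
      · ring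
      · ring
  have h1 : (a 0 0) ^ (p ^ k) = 1 := by
    rw [← (key _).2, h, one00]
  have h2 : a 0 0 = 1 := by
    have : (a 0 0 - 1) ^ (p ^ k) = 0 := by
      rw [sub_pow_char_pow, h1, one_pow, sub_self]
    have := pow_eq_zero_iff (pow_ne_zero k (Fact.out : p.Prime).ne_zero) |>.1 this
    linear_combination this
  have hd := det_eq a
  rw [h10, h2] at hd
  refine ⟨a 0 1, ext2 (by simp [h2]) (by simp) (by simp [h10]) ?_⟩
  simp only [ux11]
  linear_combination hd

/-- the trace of a `p`-element is `2` -/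
theorem trace_of_pow {p : ℕ} [Fact p.Prime] [CharP F p] {c : SL2 F} {k : ℕ} (h : c ^ (p ^ k) = 1) :
    c 0 0 + c 1 1 = 2 := by
  set C : Matrix (Fin 2) (Fin 2) F := (c : Matrix (Fin 2) (Fin 2) F) with hC
  have hpow : C ^ (p ^ k) = 1 := by
    have := congrArg (fun x : SL2 F => (x : Matrix (Fin 2) (Fin 2) F)) h
    simpa [Matrix.SpecialLinearGroup.coe_pow] using this
  have hnil : (C - 1) ^ (p ^ k) = 0 := by
    have : CharP (Matrix (Fin 2) (Fin 2) F) p := inferInstance
    rw [sub_pow_char_pow_of_commute _ _ (Commute.one_right C), hpow, one_pow, sub_self]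
  have hN : IsNilpotent (C - 1) := ⟨_, hnil⟩
  have htr : (C - 1).trace = 0 := by
    have := Matrix.isNilpotent_trace_of_isNilpotent hN
    exact isNilpotent_iff_eq_zero.1 this
  rw [Matrix.trace_fin_two] at htr
  simp only [Matrix.sub_apply, Matrix.one_apply_eq] at htr
  have : (C 0 0 : F) = c 0 0 := rfl
  have : (C 1 1 : F) = c 1 1 := rfl
  linear_combination htr

theorem trace_of_pow' {p : ℕ} [Fact p.Prime] [CharP F p] (hp : Odd p) {c : SL2 F} {k : ℕ}
    (h : c ^ (p ^ k) = 1 ∨ c ^ (p ^ k) = -1) : c 0 0 + c 1 1 = 2 ∨ c 0 0 + c 1 1 = -2 := by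
  rcases h with h | h
  · exact Or.inl (trace_of_pow h)
  · right
    have h1 : (-c) ^ (p ^ k) = 1 := by rw [(hp.pow).neg_pow, h, neg_neg]
    have h3 := trace_of_pow h1
    rw [neg_ap, neg_ap] at h3
    linear_combination -h3

/-- an element of a `p`-group containing all `ux t` (modulo signs) -/
theorem ux_of_all {p : ℕ} [Fact p.Prime] [CharP F p] (hp : Odd p) (h2 : (2 : F) ≠ 0) {e : SL2 F}
    (h : ∀ t : F, ∃ k, (e * ux t) ^ (p ^ k) = 1 ∨ (e * ux t) ^ (p ^ k) = -1) : ∃ s, e = ux s ∨ e = -ux s := by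
  have h10 : e 1 0 = 0 := by
    by_contra h10
    obtain ⟨k, hk⟩ := h (-(e 0 0 + e 1 1) / e 1 0)
    have h1 := trace_of_pow' hp hk
    have h3 : (e * ux (-(e 0 0 + e 1 1) / e 1 0) : SL2 F) 0 0 + (e * ux (-(e 0 0 + e 1 1) / e 1 0) : SL2 F) 1 1 = 0 := by
      rw [mul00, mul11, ux00, ux10, ux01, ux11]
      field_simp
      ring
    rw [h3] at h1
    rcases h1 with h1 | h1
    · exact h2 h1.symm
    · exact h2 (by linear_combination h1)
  obtain ⟨k, hk⟩ := h 0
  rw [ux_zero, mul_one] at hk
  rcases hk with hk | hk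
  · obtain ⟨s, hs⟩ := ux_of_pow h10 hk
    exact ⟨s, Or.inl hs⟩
  · have h1 : (-e) ^ (p ^ k) = 1 := by rw [(hp.pow).neg_pow, hk, neg_neg]
    have h3 : (-e) 1 0 = 0 := by rw [neg_ap, h10, neg_zero]
    obtain ⟨s, hs⟩ := ux_of_pow h3 h1
    exact ⟨s, Or.inr (by rw [← hs, neg_neg])⟩

/-- a `p`-element commuting with an element of square `-1` is trivial -/
theorem eq_one_of_comm_sq (h2 : (2 : F) ≠ 0) {p : ℕ} [Fact p.Prime] [CharP F p] {a c : SL2 F} (ha : a * a = -1)
    (hc : c * a = a * c) {k : ℕ} (h : c ^ (p ^ k) = 1) : c = 1 := by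
  set C : Matrix (Fin 2) (Fin 2) F := (c : Matrix (Fin 2) (Fin 2) F) with hC
  set A : Matrix (Fin 2) (Fin 2) F := (a : Matrix (Fin 2) (Fin 2) F) with hA
  have hcomm : C * A = A * C := by
    have := congrArg (fun x : SL2 F => (x : Matrix (Fin 2) (Fin 2) F)) hc
    simpa [Matrix.SpecialLinearGroup.coe_mul] using this
  have hpow : C ^ (p ^ k) = 1 := by
    have := congrArg (fun x : SL2 F => (x : Matrix (Fin 2) (Fin 2) F)) h
    simpa [Matrix.SpecialLinearGroup.coe_pow] using this
  have hnil : (C - 1) ^ (p ^ k) = 0 := by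
    have : CharP (Matrix (Fin 2) (Fin 2) F) p := inferInstance
    rw [sub_pow_char_pow_of_commute _ _ (Commute.one_right C), hpow, one_pow, sub_self]
  have hN : IsNilpotent (C - 1) := ⟨_, hnil⟩
  have htr : (C - 1).trace = 0 := by
    have := Matrix.isNilpotent_trace_of_isNilpotent hN
    exact isNilpotent_iff_eq_zero.1 this
  have hdet : (C - 1).det = 0 := by
    obtain ⟨m, hm⟩ := hN
    have : (C - 1).det ^ m = 0 := by
      rw [← Matrix.det_pow, hm]
      rcases Nat.eq_zero_or_pos m with rfl | h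
      · exfalso
        rw [pow_zero] at hm
        exact one_ne_zero hm
      · exact Matrix.det_zero
    exact pow_eq_zero_iff (n := m) (by
      rintro rfl
      rw [pow_zero] at hm
      exact one_ne_zero hm) |>.1 this
  have e1 : c 0 0 + c 1 1 = 2 := by
    rw [Matrix.trace_fin_two] at htr
    simp only [Matrix.sub_apply, Matrix.one_apply_eq] at htr
    have : (C 0 0 : F) = c 0 0 := rfl
    have : (C 1 1 : F) = c 1 1 := rfl
    linear_combination htr
  have hta := trace_of_sq h2 ha
  have hda := det_eq a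
  have hdc := det_eq c
  have e00 := congrArg (fun x : SL2 F => x 0 0) hc
  have e01 := congrArg (fun x : SL2 F => x 0 1) hc
  have e10 := congrArg (fun x : SL2 F => x 1 0) hc
  simp only [mul00, mul01, mul10, mul11] at e00 e01 e10
  rw [hta] at hda e01 e10
  -- write n = c - 1: n00 = x, n11 = -x
  have h11 : c 1 1 = 2 - c 0 0 := by linear_combination e1
  rw [h11] at hdc e01 e10
  -- unknowns: x = c00 - 1, y = c01, r = c10 ; x² + y r = 0 ; with a = (α, β; γ, -α), α² + βγ = -1
  set x := c 0 0 - 1 with hx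
  set y := c 0 1
  set r := c 1 0
  set α := a 0 0
  set β := a 0 1
  set γ := a 1 0
  have f1 : x * x + y * r = 0 := by rw [hx]; linear_combination -hdc
  have f2 : β * r = y * γ := by linear_combination -e00
  have f3 : x * β = α * y := by
    have : (2 : F) * (x * β - α * y) = 0 := by rw [hx]; linear_combination e01
    have := (mul_eq_zero.1 this).resolve_left h2
    linear_combination this
  have f4 : x * γ = α * r := by
    have : (2 : F) * (x * γ - α * r) = 0 := by rw [hx]; linear_combination -e10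
    have := (mul_eq_zero.1 this).resolve_left h2
    linear_combination this
  have f5 : α * α + β * γ = -1 := by linear_combination -hda
  have gx : x * x = 0 := by
    -- x² (α²+βγ) = α² x² + α y α r = α² (x² + y r) = 0
    have : x * x * (α * α + β * γ) = 0 := by
      linear_combination (α * α) * f1 + (x * γ) * f3 + (α * y) * f4
    rw [f5] at this
    linear_combination -this
  have hx0 : x = 0 := mul_self_eq_zero.1 gx
  have hy0 : y = 0 := by
    have g : y * y = 0 := by
      -- y² (α²+βγ) = (αy)(αy) + β y (yγ) = ... 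
      have : y * y * (α * α + β * γ) = 0 := by
        rw [hx0] at f1 f3
        have h3 : α * y = 0 := by linear_combination -f3
        linear_combination (α * y) * h3 + (β * β) * f1 - (β * y) * f2
      rw [f5] at this
      linear_combination -this
    exact mul_self_eq_zero.1 g
  have hr0 : r = 0 := by
    have g : r * r = 0 := by
      have : r * r * (α * α + β * γ) = 0 := by
        rw [hx0] at f1 f4
        have h4 : α * r = 0 := by linear_combination -f4
        linear_combination (α * r) * h4 + (γ * γ) * f1 + (γ * r) * f2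
      rw [f5] at this
      linear_combination -this
    exact mul_self_eq_zero.1 g
  apply ext2
  · rw [one00]; linear_combination hx0
  · rw [one01]; exact hy0
  · rw [one10]; exact hr0
  · rw [one11, h11]; linear_combination -hx0

/-- `SL₂(F)` is generated by the upper unipotent elements and `nx`. -/
theorem closure_ux_nx : Subgroup.closure (Set.range (ux : F → SL2 F) ∪ {nx}) = ⊤ := by
  rw [eq_top_iff]
  intro a _
  set S := Subgroup.closure (Set.range (ux : F → SL2 F) ∪ {nx})
  have hu : ∀ t, ux t ∈ S := fun t => Subgroup.subset_closure (Or.inl ⟨t, rfl⟩)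
  have hn : (nx : SL2 F) ∈ S := Subgroup.subset_closure (Or.inr rfl)
  have hl : ∀ t, lx t ∈ S := by
    intro t
    have : lx t = nx * ux (-t) * nx⁻¹ := by
      apply ext2 <;> simp [mul00, mul01, mul10, mul11, inv00, inv01, inv10, inv11]
    rw [this]
    exact mul_mem (mul_mem hn (hu _)) (inv_mem hn)
  have key : ∀ a : SL2 F, a 1 0 ≠ 0 → a ∈ S := by
    intro a h
    have hd := det_eq a
    have e : a = ux ((a 0 0 - 1) / a 1 0) * lx (a 1 0) * ux ((a 1 1 - 1) / a 1 0) := by
      apply ext2
      · simp only [mul00, mul01, ux00, ux01, ux10, ux11, lx00, lx01, lx10, lx11]; field_simp; ring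
      · simp only [mul00, mul01, ux00, ux01, ux10, ux11, lx00, lx01, lx10, lx11]; field_simp
        linear_combination -hd
      · simp only [mul10, mul11, ux00, ux01, ux10, ux11, lx00, lx01, lx10, lx11]; ring
      · simp only [mul10, mul11, ux00, ux01, ux10, ux11, lx00, lx01, lx10, lx11]; field_simp; ring
    rw [e]
    exact mul_mem (mul_mem (hu _) (hl _)) (hu _)
  by_cases h : a 1 0 = 0
  · have h' : ((nx * a : SL2 F)) 1 0 ≠ 0 := by
      rw [mul10, nx10, nx11]
      have hd := det_eq a
      rw [h] at hd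
      intro h0
      have h00 : a 0 0 = 0 := by linear_combination -h0
      rw [h00] at hd
      simp at hd
    have := mul_mem (inv_mem hn) (key _ h')
    rwa [inv_mul_cancel_left] at this
  · exact key a h

end Cfsg.Agent.SpFourOdd.LnSL
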