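import Cfsg.Agent.SpFourOdd.Fusion
import Cfsg.Agent.SpFourOdd.Field
import Cfsg.Agent.SpFourOdd.Fours
import Cfsg.Agent.SpFourOdd.LnSL

/-!
# Recognition of `PSp₄(q)`, `q` odd: the group `O` and `p`-elements of `C(u)`

`CUData D O`: (i) `O ∩ C(z) = 1`, `z` inverts `O`; (ii) `O` is a `p'`-group; (iii) no `p`-elements acting trivially on
`K₀ O / O`; (iv) `z` centralises every `p`-subgroup of `C(u)` normalised by `z`.
-/

set_option autoImplicit false

namespace Cfsg.Agent.SpFourOdd.LnCore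

open Matrix Cfsg.Agent.SpFourOdd.Closing

section

variable {G F : Type*} [Group G] [Field F] {D : Pair G F}

theorem odd_no_invol [Finite G] {O : Subgroup G} (hO : Odd (Nat.card O)) {x : G} (hx : x ∈ O) (hxx : x * x = 1) :
    x = 1 := by
  by_contra h1
  have h3 : orderOf (⟨x, hx⟩ : O) = 2 :=
    orderOf_eq_prime (by rw [pow_two]; exact Subtype.ext hxx) (fun h => h1 (congrArg Subtype.val h))
  have h4 : orderOf (⟨x, hx⟩ : O) ∣ Nat.card O := orderOf_dvd_natCard _
  rw [h3] at h4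
  exact (Nat.not_even_iff_odd.2 hO) (even_iff_two_dvd.2 h4)

theorem odd_order [Finite G] {O : Subgroup G} (hO : Odd (Nat.card O)) {x : G} (hx : x ∈ O) : Odd (orderOf x) := by
  have h4 : orderOf (⟨x, hx⟩ : O) ∣ Nat.card O := orderOf_dvd_natCard _
  rw [Subgroup.orderOf_mk] at h4
  exact Odd.of_dvd_nat hO h4

theorem kk_sq {a : SL2 F} (ha : a * a = -1) : kk D a * kk D a = 1 := by
  rw [← kk_mul, ha, kk_neg, kk_one]

theorem kk_eq_one {a : SL2 F} (h : kk D a = 1) : a = 1 ∨ a = -1 := by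
  rcases D.ker _ _ h with h7 | h7
  · exact Or.inl h7.1
  · exact Or.inr h7.1

theorem kk_ne (h2 : (2 : F) ≠ 0) {a : SL2 F} (ha : a * a = -1) : kk D a ≠ 1 := by
  intro h
  rcases kk_eq_one h with rfl | rfl
  · rw [one_mul] at ha
    exact neg_one_ne_one h2 ha.symm
  · rw [neg_mul_neg, one_mul] at ha
    exact neg_one_ne_one h2 ha.symm

theorem kk_eq {a b : SL2 F} (h : kk D a = kk D b) : a = b ∨ a = -b := by
  rcases (eq_iff D _ _ _ _).mp h with h7 | h7
  · exact Or.inl h7.1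
  · exact Or.inr h7.1

/-- an element whose square commutes with `y` and which has odd order commutes with `y` -/
theorem comm_of_sq {H : Type*} [Group H] [Finite H] {x y : H} (ho : Odd (orderOf x)) (h : x * x * y = y * (x * x)) :
    x * y = y * x := by
  obtain ⟨m, hm⟩ := ho
  have hx : x = (x * x) ^ (m + 1) := by
    rw [← pow_two, ← pow_mul]
    have : 2 * (m + 1) = orderOf x + 1 := by omega
    rw [this, pow_succ, pow_orderOf_eq_one, one_mul]
  have hc : Commute (x * x) y := h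
  have := (hc.pow_left (m + 1)).eq
  rw [← hx] at this
  exact this

/-- the commutant of `nx` in `SL₂` -/
theorem commutant_nx {x : SL2 F} (h : x * nx = nx * x) : ent x 1 1 = ent x 0 0 ∧ ent x 1 0 = - ent x 0 1 := by
  have e00 := congrArg (fun A : SL2 F => ent A 0 0) h
  have e01 := congrArg (fun A : SL2 F => ent A 0 1) h
  simp only [ent_mul, nx00, nx01, nx10, nx11] at e00 e01
  constructor
  · linear_combination -e01
  · linear_combination -e00

/-- `n = kk x ∈ O` commuting with `kk nx` is trivial -/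
theorem kk_mem_comm [Finite G] [Finite F] (h2 : (2 : F) ≠ 0) {O : Subgroup G} (hO : Odd (Nat.card O))
    (hn : ∀ a, ∀ o ∈ O, kk D a * o * (kk D a)⁻¹ ∈ O) {x : SL2 F} (hx : kk D x ∈ O)
    (hc : kk D x * kk D nx = kk D nx * kk D x) : kk D x = 1 := by
  classical
  -- replace `x` by `± x` of odd order
  wlog hodd : Odd (orderOf x) generalizing x with Hw
  · have ho := odd_order hO hx
    set m := orderOf (kk D x) with hm
    have h1 : kk D (x ^ m) = 1 := by
      have : ∀ n : ℕ, kk D (x ^ n) = kk D x ^ n := by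
        intro n
        exact map_pow (kkHom D) x n
      rw [this, hm, pow_orderOf_eq_one]
    rcases kk_eq_one h1 with h3 | h3
    · exact absurd (Odd.of_dvd_nat ho (orderOf_dvd_of_pow_eq_one h3)) hodd
    · have h4 : (-x) ^ m = 1 := by
        rw [Odd.neg_pow ho, h3, neg_neg]
      rw [← kk_neg]
      refine Hw (x := -x) (by rwa [kk_neg]) (by rwa [kk_neg]) (Odd.of_dvd_nat ho (orderOf_dvd_of_pow_eq_one h4))
  -- `x` commutes with `nx`
  have hcx : x * nx = nx * x := by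
    rw [← kk_mul, ← kk_mul] at hc
    rcases kk_eq hc with h | h
    · exact h
    · apply comm_of_sq hodd
      have e1 : x * x * nx = x * (x * nx) := by group
      rw [e1, h]
      have e3 : x * -(nx * x) = -(x * nx * x) := by rw [mul_neg]; congr 1; group
      rw [e3, h, neg_mul, neg_neg]
      group
  obtain ⟨h11, h10⟩ := commutant_nx hcx
  have hd := ent_det x
  obtain ⟨α, hα⟩ : ∃ p, ent x 0 0 = p := ⟨_, rfl⟩
  obtain ⟨β, hβ⟩ : ∃ p, ent x 0 1 = p := ⟨_, rfl⟩
  rw [hα] at h11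
  rw [hβ] at h10
  rw [hα, hβ, h11, h10] at hd
  -- `α² + β² = 1`
  by_cases hβ0 : β = 0
  · have hx1 : x = 1 ∨ x = -1 := by
      have h3 : (α - 1) * (α + 1) = 0 := by rw [hβ0] at hd; linear_combination hd
      rcases mul_eq_zero.mp h3 with h4 | h4
      · left
        have h5 : α = 1 := sub_eq_zero.mp h4
        exact ent_ext (by rw [hα, h5]; rfl) (by rw [hβ, hβ0]; rfl) (by rw [h10, hβ0, neg_zero]; rfl)
          (by rw [h11, h5]; rfl)
      · right
        have h5 : α = -1 := by linear_combination h4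
        exact ent_ext (by rw [hα, h5, ent_neg]; rfl) (by rw [hβ, hβ0, ent_neg, one01, neg_zero])
          (by rw [h10, hβ0, neg_zero, ent_neg, one10, neg_zero]) (by rw [h11, h5, ent_neg]; rfl)
    rcases hx1 with rfl | rfl
    · exact kk_one
    · rw [kk_neg, kk_one]
  · exfalso
    -- find `i' = (p q; r -p)` with `i'² = -1` and `r - q = τ := 2α²/β²`
    set τ : F := 2 * α ^ 2 / β ^ 2 with hτ
    obtain ⟨p, v, hpv⟩ := exists_two_sq h2 (τ ^ 2 / 4 - 1)
    set q : F := v - τ / 2 with hq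
    set r : F := q + τ with hr
    have h4 : (4 : F) ≠ 0 := by
      intro h
      have : (2 : F) * 2 = 0 := by linear_combination h
      rcases mul_eq_zero.mp this with h' | h' <;> exact h2 h'
    have hdet : p * -p - q * r = 1 := by
      rw [hr, hq]
      field_simp at hpv ⊢
      linear_combination -hpv
    set i' : SL2 F := mk p q r (-p) hdet with hi'
    have hi'sq : i' * i' = -1 := by
      apply ent_ext
      · rw [ent_mul, ent_neg, one00, hi', mk00, mk01, mk10]; linear_combination -hdet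
      · rw [ent_mul, ent_neg, one01, hi', mk00, mk01, mk11]; ring
      · rw [ent_mul, ent_neg, one10, hi', mk00, mk10, mk11]; ring
      · rw [ent_mul, ent_neg, one11, hi', mk01, mk10, mk11]; linear_combination -hdet
    obtain ⟨c, hc'⟩ := Closing.conj_of_sq h2 (nx_sq (F := F)) hi'sq
    -- `x = α + β nx`, `c x c⁻¹ = α + β i'`
    set x' : SL2 F := c * x * c⁻¹ with hx'
    have hxO : kk D (x * x'⁻¹) ∈ O := by
      rw [kk_mul, hx', kk_inv, kk_mul, kk_mul, kk_inv]
      exact mul_mem hx (inv_mem (hn c _ hx))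
    -- entries of `x'`
    have hc1 : c * nx = i' * c := by rw [← hc']; group
    have ex' : ent x' 0 0 = α + β * p ∧ ent x' 0 1 = β * q ∧ ent x' 1 0 = β * r ∧ ent x' 1 1 = α - β * p := by
      have hx'c : x' * c = c * x := by rw [hx']; group
      have key : ∀ i j : Fin 2, ent (c * x) i j = α * ent c i j + β * ent (c * nx) i j := by
        intro i j
        rw [ent_mul, ent_mul]
        fin_cases j
        · change ent c i 0 * ent x 0 0 + ent c i 1 * ent x 1 0 = α * ent c i 0 + β * (ent c i 0 * 0 + ent c i 1 * (-1))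
          rw [hα, h10]
          ring
        · change ent c i 0 * ent x 0 1 + ent c i 1 * ent x 1 1 = α * ent c i 1 + β * (ent c i 0 * 1 + ent c i 1 * 0)
          rw [hβ, h11]
          ring
      set Y : SL2 F := c * x * c⁻¹ with hY
      -- `Y = (c x) c⁻¹`; use the explicit candidate
      have hdY : (α + β * p) * (α - β * p) - (β * q) * (β * r) = 1 := by
        linear_combination hd + β ^ 2 * hdet
      have hcand : mk (α + β * p) (β * q) (β * r) (α - β * p) hdY * c = c * x := by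
        apply ent_ext
        · rw [key, hc1, ent_mul, ent_mul, mk00, mk01, hi', mk00, mk01]; ring
        · rw [key, hc1, ent_mul, ent_mul, mk00, mk01, hi', mk00, mk01]; ring
        · rw [key, hc1, ent_mul, ent_mul, mk10, mk11, hi', mk10, mk11]; ring
        · rw [key, hc1, ent_mul, ent_mul, mk10, mk11, hi', mk10, mk11]; ring
      have : x' = mk (α + β * p) (β * q) (β * r) (α - β * p) hdY := by
        rw [← hx'c] at hcand
        exact (mul_right_cancel hcand).symm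
      rw [this]
      exact ⟨mk00 _, mk01 _, mk10 _, mk11 _⟩
    obtain ⟨x00, x01, x10, x11⟩ := ex'
    -- the inverse of `x'`
    have hinv : x'⁻¹ = mk (α - β * p) (-(β * q)) (-(β * r)) (α + β * p)
        (by linear_combination hd + β ^ 2 * hdet) := by
      rw [inv_eq_iff_mul_eq_one]
      apply ent_ext
      · rw [ent_mul, mk00, mk10, x00, x01, one00]; linear_combination hd + β ^ 2 * hdet
      · rw [ent_mul, mk01, mk11, x00, x01, one01]; ring
      · rw [ent_mul, mk00, mk10, x10, x11, one10]; ring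
      · rw [ent_mul, mk01, mk11, x10, x11, one11]; linear_combination hd + β ^ 2 * hdet
    set n : SL2 F := x * x'⁻¹ with hn'
    have htr : ent n 0 0 + ent n 1 1 = 0 := by
      rw [hn', hinv, ent_mul, ent_mul, mk00, mk01, mk10, mk11, hα, hβ, h10, h11]
      have hβτ : β ^ 2 * τ = 2 * α ^ 2 := by
        rw [hτ]
        field_simp
      have : r - q = τ := by rw [hr]; ring
      linear_combination (-1 : F) * β ^ 2 * this - hβτ
    have hnn : n * n = -1 := by
      have hdn := ent_det n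
      apply ent_ext
      · rw [ent_mul, ent_neg, one00]; linear_combination (ent n 0 0) * htr - hdn
      · rw [ent_mul, ent_neg, one01]; linear_combination (ent n 0 1) * htr
      · rw [ent_mul, ent_neg, one10]; linear_combination (ent n 1 0) * htr
      · rw [ent_mul, ent_neg, one11]; linear_combination (ent n 1 1) * htr - hdn
    exact kk_ne h2 hnn (odd_no_invol hO hxO (kk_sq hnn))

/-- the same for any `i` with `i² = -1` -/
theorem kk_mem_comm' [Finite G] [Finite F] (h2 : (2 : F) ≠ 0) {O : Subgroup G} (hO : Odd (Nat.card O))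
    (hn : ∀ a, ∀ o ∈ O, kk D a * o * (kk D a)⁻¹ ∈ O) {i : SL2 F} (hi : i * i = -1) {x : SL2 F} (hx : kk D x ∈ O)
    (hc : kk D x * kk D i = kk D i * kk D x) : kk D x = 1 := by
  obtain ⟨c, hci⟩ := Closing.conj_of_sq h2 hi (nx_sq (F := F))
  have h1 : kk D (c * x * c⁻¹) = 1 := by
    apply kk_mem_comm h2 hO hn
    · rw [kk_mul, kk_mul, kk_inv]
      exact hn c _ hx
    · rw [← hci]
      simp only [kk_mul, kk_inv]
      have e1 : kk D c * kk D x * (kk D c)⁻¹ * (kk D c * kk D i * (kk D c)⁻¹) =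
        kk D c * (kk D x * kk D i) * (kk D c)⁻¹ := by group
      rw [e1, hc]
      group
  rw [kk_mul, kk_mul, kk_inv] at h1
  have : kk D x = (kk D c)⁻¹ * (kk D c * kk D x * (kk D c)⁻¹) * kk D c := by group
  rw [this, h1]
  group

theorem anticomm_mul {i j : SL2 F} (hi : i * i = -1) (hj : j * j = -1) (hij : i * j = -(j * i)) :
    (i * j) * (i * j) = -1 := by
  have h4 : j * i = -(i * j) := by rw [hij, neg_neg]
  have h3 : (i * j) * (i * j) = i * (j * i) * j := by group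
  rw [h3, h4]
  have h5 : i * -(i * j) * j = -((i * i) * (j * j)) := by
    rw [mul_neg, neg_mul]
    congr 1
    group
  rw [h5, hi, hj, neg_mul_neg, one_mul]

/-- `O ∩ K₀ = 1` -/
theorem kk_mem [Finite G] [Finite F] (h2 : (2 : F) ≠ 0) {O : Subgroup G} (hO : Odd (Nat.card O))
    (hn : ∀ a, ∀ o ∈ O, kk D a * o * (kk D a)⁻¹ ∈ O) {x : SL2 F} (hx : kk D x ∈ O) : kk D x = 1 := by
  obtain ⟨i, j, hi, hj, hij⟩ := Closing.exists_pair h2
  have hijij := anticomm_mul hi hj hij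
  have hkij : kk D i * kk D j = kk D j * kk D i := by
    rw [← kk_mul, ← kk_mul, hij, kk_neg]
  have hne : kk D i ≠ kk D j := by
    intro h
    apply kk_ne h2 hijij (D := D)
    rw [kk_mul, h, kk_sq hj]
  set N : Subgroup G := O ⊓ (kkHom D).range with hN
  have hNodd : Odd (Nat.card N) := Odd.of_dvd_nat hO (Subgroup.card_dvd_of_le inf_le_left)
  have hNn : ∀ a, ∀ o ∈ N, kk D a * o * (kk D a)⁻¹ ∈ N := by
    rintro a _ ⟨ho, ⟨b, rfl⟩⟩
    refine ⟨hn a _ ho, ⟨a * b * a⁻¹, ?_⟩⟩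
    change kk D (a * b * a⁻¹) = kk D a * kk D b * (kk D a)⁻¹
    rw [kk_mul, kk_mul, kk_inv]
  have hle : N ≤ ⊥ := by
    refine le_of_fours (x := kk D i) (y := kk D j) hkij (kk_sq hi) (kk_sq hj) (kk_ne h2 hi) (kk_ne h2 hj) hne hNodd
      (hNn i) (hNn j) ?_ ?_ ?_
    · rintro _ ⟨ho, ⟨b, rfl⟩⟩ h
      exact kk_mem_comm' h2 hO hn hi ho h
    · rintro _ ⟨ho, ⟨b, rfl⟩⟩ h
      exact kk_mem_comm' h2 hO hn hj ho h
    · rintro _ ⟨ho, ⟨b, rfl⟩⟩ h
      rw [← kk_mul] at h
      exact kk_mem_comm' h2 hO hn hijij ho h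
  exact hle ⟨hx, ⟨x, rfl⟩⟩

theorem lx_ne_neg (h2 : (2 : F) ≠ 0) {a : SL2 F} {s t : F} (h : a * lx s * a⁻¹ = -lx t) : False := by
  have h' : a * lx s = -(lx t * a) := by
    rw [← neg_mul, ← h]
    group
  have hd := ent_det a
  have e01 := congrArg (fun A : SL2 F => ent A 0 1) h'
  have e11 := congrArg (fun A : SL2 F => ent A 1 1) h'
  simp only [ent_neg, ent_mul, (ent_lx _).1, (ent_lx _).2.1, (ent_lx _).2.2.1, (ent_lx _).2.2.2] at e01 e11
  have h01 : ent a 0 1 = 0 := by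
    have : (2 : F) * ent a 0 1 = 0 := by linear_combination e01
    exact (mul_eq_zero.mp this).resolve_left h2
  have h11 : ent a 1 1 = 0 := by
    rw [h01] at e11
    have : (2 : F) * ent a 1 1 = 0 := by linear_combination e11
    exact (mul_eq_zero.mp this).resolve_left h2
  rw [h01, h11] at hd
  simp at hd

/-- `a σ(x) a⁻¹ = ± x` for all `x` implies `σ = 1`, `a = ± 1` -/
theorem fix_all (h2 : (2 : F) ≠ 0) {σ : F ≃+* F} {a : SL2 F}
    (h : ∀ x, a * SpecialLinearGroup.map (σ : F →+* F) x * a⁻¹ = x ∨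
      a * SpecialLinearGroup.map (σ : F →+* F) x * a⁻¹ = -x) : σ = RingEquiv.refl F ∧ (a = 1 ∨ a = -1) := by
  have hu : ∀ t, a * ux (σ t) * a⁻¹ = ux t := by
    intro t
    rcases h (ux t) with h1 | h1
    · rw [map_ux] at h1
      exact h1
    · rw [map_ux] at h1
      exact (ux_ne_neg h2 h1).elim
  obtain ⟨hσ, s, hs⟩ := fix_ux hu
  refine ⟨hσ, ?_⟩
  subst hσ
  have hl : a * lx 1 * a⁻¹ = lx 1 := by
    rcases h (lx 1) with h1 | h1
    · rwa [map_refl] at h1
    · rw [map_refl] at h1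
      exact (lx_ne_neg h2 h1).elim
  have hl' : ux s * lx 1 = lx 1 * ux s := by
    have h3 : a * lx 1 = lx 1 * a := mul_inv_eq_iff_eq_mul.mp hl
    rcases hs with rfl | rfl
    · exact h3
    · rw [neg_mul, mul_neg] at h3
      exact neg_injective h3
  have hs0 : s = 0 := by
    have := congrArg (fun A : SL2 F => ent A 0 0) hl'
    simp only [ent_mul, (ent_ux _).1, (ent_ux _).2.1, (ent_ux _).2.2.1, (ent_lx _).1, (ent_lx _).2.1,
      (ent_lx _).2.2.1] at this
    linear_combination this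
  have hux0 : ux (0 : F) = 1 := by
    apply ent_ext <;> rfl
  rw [hs0, hux0] at hs
  exact hs

/-- an element of `C(z) ∩ C(w)` acts in the same way on both factors -/
theorem actV (H : Hyp D) {y : G} (hyz : y * D.z = D.z * y) (hyw : y * D.w = D.w * y) :
    ∃ (d : G) (σ : F ≃+* F) (a : SL2 F), (y = d ∨ y = d * D.w) ∧ Odd (orderOf σ) ∧
      (∀ x, d * D.φ₁ x * d⁻¹ = D.φ₁ (a * SpecialLinearGroup.map (σ : F →+* F) x * a⁻¹)) ∧
      (∀ x, d * D.φ₂ x * d⁻¹ = D.φ₂ (a * SpecialLinearGroup.map (σ : F →+* F) x * a⁻¹)) ∧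
      ∀ x, y * kk D x * y⁻¹ = kk D (a * SpecialLinearGroup.map (σ : F →+* F) x * a⁻¹) := by
  obtain ⟨d, σ, a, b, hyd, hodd, h₁, h₂⟩ := H.cent y hyz
  have hdw : d * D.w = D.w * d := by
    rcases hyd with rfl | rfl
    · exact hyw
    · rw [mul_assoc, D.ww, mul_one] at hyw
      have e : D.w * (d * D.w) * D.w = D.w * d * (D.w * D.w) := by group
      rw [← hyw, D.ww, mul_one] at e
      exact e
  have h₂' : ∀ x, d * D.φ₂ x * d⁻¹ = D.φ₂ (a * SpecialLinearGroup.map (σ : F →+* F) x * a⁻¹) := by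
    intro x
    rw [← D.conj, ← D.conj (a * _ * _), ← h₁]
    have e1 : d * (D.w * D.φ₁ x * D.w) * d⁻¹ = (d * D.w) * D.φ₁ x * (D.w * d⁻¹) := by group
    have e2 : D.w * d⁻¹ = d⁻¹ * D.w := by
      rw [eq_inv_mul_iff_mul_eq, ← mul_assoc, hdw, mul_inv_cancel_right]
    rw [e1, e2, hdw]
    group
  refine ⟨d, σ, a, hyd, hodd, h₁, h₂', ?_⟩
  intro x
  have hd : d * kk D x * d⁻¹ = kk D (a * SpecialLinearGroup.map (σ : F →+* F) x * a⁻¹) := by
    unfold kk
    rw [← h₁, ← h₂']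
    group
  rcases hyd with rfl | rfl
  · exact hd
  · rw [← hd]
    have e1 : d * D.w * kk D x * (d * D.w)⁻¹ = d * (D.w * kk D x) * D.w⁻¹ * d⁻¹ := by group
    rw [e1, kk_w]
    group

/-- elements of `C(z) ∩ C(w)` acting trivially on `K₀` modulo `O` -/
theorem mem_V [Finite G] [Finite F] (h2 : (2 : F) ≠ 0) (H : Hyp D) {O : Subgroup G} (hO : Odd (Nat.card O))
    (hn : ∀ a, ∀ o ∈ O, kk D a * o * (kk D a)⁻¹ ∈ O) {y : G} (hyz : y * D.z = D.z * y) (hyw : y * D.w = D.w * y)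
    (hy : ∀ x, y * kk D x * y⁻¹ * (kk D x)⁻¹ ∈ O) : y = 1 ∨ y = D.z ∨ y = D.w ∨ y = D.z * D.w := by
  obtain ⟨d, σ, a, hyd, hodd, h₁, h₂, hk⟩ := actV H hyz hyw
  have hall : ∀ x, a * SpecialLinearGroup.map (σ : F →+* F) x * a⁻¹ = x ∨
      a * SpecialLinearGroup.map (σ : F →+* F) x * a⁻¹ = -x := by
    intro x
    have h3 := hy x
    rw [hk, ← kk_inv, ← kk_mul] at h3
    have h4 := kk_mem h2 hO hn h3
    rw [kk_mul, kk_inv, mul_inv_eq_one] at h4
    exact kk_eq h4
  obtain ⟨hσ, ha⟩ := fix_all h2 hall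
  subst hσ
  simp only [map_refl] at h₁ h₂
  have haa : ∀ x, a * x * a⁻¹ = x := by
    intro x
    rcases ha with rfl | rfl
    · group
    · have h5 : (-1 : SL2 F)⁻¹ = -1 := by rw [inv_eq_iff_mul_eq_one, neg_mul_neg, mul_one]
      rw [h5, mul_neg_one, neg_one_mul, neg_neg]
  have hd : d = 1 ∨ d = D.z := by
    apply H.cent0
    · intro x
      have := h₁ x
      rw [haa] at this
      exact mul_inv_eq_iff_eq_mul.mp this
    · intro x
      have := h₂ x
      rw [haa] at this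
      exact mul_inv_eq_iff_eq_mul.mp this
  rcases hyd with rfl | rfl <;> rcases hd with rfl | rfl
  · exact Or.inl rfl
  · exact Or.inr (Or.inl rfl)
  · exact Or.inr (Or.inr (Or.inl (one_mul _)))
  · exact Or.inr (Or.inr (Or.inr rfl))

end

section main

variable {G F : Type*} [Group G] [Field F] {D : Pair G F}

theorem kk_u (a : SL2 F) : kk D a * (D.z * D.w) = D.z * D.w * kk D a := by
  rw [← mul_assoc, ← kk_z, mul_assoc, ← kk_w, mul_assoc]

theorem z_u : D.z * (D.z * D.w) = D.z * D.w * D.z := by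
  rw [mul_assoc, wz]

theorem w_u : D.w * (D.z * D.w) = D.z * D.w * D.w := by
  rw [← mul_assoc, wz]

/-- `u k = φ₁(i) w φ₁(i)⁻¹` for `k = kk i`, `i² = -1` -/
theorem u_kk {k : SL2 F} (hkk : k * k = -1) : D.z * D.w * kk D k = D.φ₁ k * D.w * (D.φ₁ k)⁻¹ := by
  have hkinv : k⁻¹ = -k := by
    rw [inv_eq_iff_mul_eq_one, mul_neg, hkk, neg_neg]
  rw [conj_w, hkinv, neg₂, mul_assoc D.z, kk_w]
  unfold kk
  have h3 : D.φ₁ k * (D.z * D.φ₂ k) * D.w = D.φ₁ k * D.z * (D.φ₂ k * D.w) := by group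
  rw [h3, ← z_comm₁]
  group

theorem u_sq : D.z * D.w * (D.z * D.w) = 1 := by
  have e : D.z * D.w * (D.z * D.w) = D.z * (D.w * D.z) * D.w := by group
  rw [e, wz]
  have e' : D.z * (D.z * D.w) * D.w = (D.z * D.z) * (D.w * D.w) := by group
  rw [e', zz, D.ww, mul_one]

variable [Finite G] [Finite F] (h2 : (2 : F) ≠ 0) (H : Hyp D) {O : Subgroup G} (hC : CUData D O)

omit [Finite G] [Finite F] in
include hC in
theorem kk_norm (a : SL2 F) : ∀ o ∈ O, kk D a * o * (kk D a)⁻¹ ∈ O := hC.norm _ (kk_u a)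

include h2 H hC

/-- (i) `O ∩ C(z) = 1` -/
theorem O_z {o : G} (ho : o ∈ O) (hz : o * D.z = D.z * o) : o = 1 := by
  have hw : o * D.w = D.w * o := by
    have h1 := hC.le o ho
    rw [← mul_assoc, hz, mul_assoc, mul_assoc] at h1
    exact mul_left_cancel h1
  have hy : ∀ x, o * kk D x * o⁻¹ * (kk D x)⁻¹ ∈ O := by
    intro x
    have e : o * kk D x * o⁻¹ * (kk D x)⁻¹ = o * (kk D x * o⁻¹ * (kk D x)⁻¹) := by group
    rw [e]
    exact mul_mem ho (kk_norm hC x _ (inv_mem ho))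
  apply odd_no_invol hC.odd ho
  rcases mem_V h2 H hC.odd (kk_norm hC) hz hw hy with h | h | h | h
  · rw [h, mul_one]
  · rw [h, zz]
  · rw [h, D.ww]
  · rw [h, u_sq]

/-- (i') `z` inverts `O`, and `O` is abelian -/
theorem O_inv : (∀ o ∈ O, D.z * o * D.z = o⁻¹) ∧ ∀ o ∈ O, ∀ o' ∈ O, o * o' = o' * o := by
  have hzinv := z_inv D
  let φ : O →* O := MonoidHom.mk' (fun o => ⟨D.z * o * D.z⁻¹, hC.norm _ z_u o o.2⟩) (by
    intro a b
    apply Subtype.ext
    change D.z * (a * b : G) * D.z⁻¹ = (D.z * a * D.z⁻¹) * (D.z * b * D.z⁻¹)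
    group)
  have hfp : MonoidHom.FixedPointFree φ := by
    intro g hg
    apply Subtype.ext
    apply O_z h2 H hC g.2
    have h1 : D.z * (g : G) * D.z⁻¹ = g := congrArg Subtype.val hg
    exact (mul_inv_eq_iff_eq_mul.mp h1).symm
  have hinv : Function.Involutive φ := by
    intro g
    apply Subtype.ext
    change D.z * (D.z * (g : G) * D.z⁻¹) * D.z⁻¹ = g
    have e : D.z * (D.z * (g : G) * D.z⁻¹) * D.z⁻¹ = (D.z * D.z) * g * (D.z * D.z)⁻¹ := by group
    rw [e, zz, inv_one, one_mul, mul_one]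
  constructor
  · intro o ho
    have h1 := congrFun (hfp.coe_eq_inv_of_involutive hinv) ⟨o, ho⟩
    have h3 : D.z * o * D.z⁻¹ = o⁻¹ := congrArg Subtype.val h1
    rwa [hzinv] at h3
  · intro o ho o' ho'
    exact congrArg Subtype.val (hfp.commute_all_of_involutive hinv ⟨o, ho⟩ ⟨o', ho'⟩).eq

omit h2 hC [Finite F] in
/-- an element of odd order of `C(z)` does not interchange `L₁`, `L₂` -/
theorem odd_cent {c : G} (hcz : c * D.z = D.z * c) (hodd : Odd (orderOf c)) :
    ∃ (σ : F ≃+* F) (a b : SL2 F), Odd (orderOf σ) ∧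
      (∀ x, c * D.φ₁ x * c⁻¹ = D.φ₁ (a * SpecialLinearGroup.map (σ : F →+* F) x * a⁻¹)) ∧
      (∀ x, c * D.φ₂ x * c⁻¹ = D.φ₂ (b * SpecialLinearGroup.map (σ : F →+* F) x * b⁻¹)) := by
  obtain ⟨d, σ, a, b, hyd, hσ, h₁, h₂⟩ := H.cent c hcz
  rcases hyd with rfl | rfl
  · exact ⟨σ, a, b, hσ, h₁, h₂⟩
  · exfalso
    have k₁ : ∀ x, d * D.w * D.φ₁ x * (d * D.w)⁻¹ = D.φ₂ (b * SpecialLinearGroup.map (σ : F →+* F) x * b⁻¹) := by
      intro x
      have e : d * D.w * D.φ₁ x * (d * D.w)⁻¹ = d * (D.w * D.φ₁ x) * D.w⁻¹ * d⁻¹ := by group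
      rw [e, w₁, ← h₂]
      group
    have k₂ : ∀ x, d * D.w * D.φ₂ x * (d * D.w)⁻¹ = D.φ₁ (a * SpecialLinearGroup.map (σ : F →+* F) x * a⁻¹) := by
      intro x
      have e : d * D.w * D.φ₂ x * (d * D.w)⁻¹ = d * (D.w * D.φ₂ x) * D.w⁻¹ * d⁻¹ := by group
      rw [e, w₂, ← h₁]
      group
    set c := d * D.w with hc
    set S : Subgroup G := Subgroup.normalizer (D.φ₁.range : Set G) with hS
    have h3 : c * c ∈ S := by
      apply Subgroup.mem_normalizer_fintype
      rintro _ ⟨x, rfl⟩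
      have e : c * c * D.φ₁ x * (c * c)⁻¹ = c * (c * D.φ₁ x * c⁻¹) * c⁻¹ := by group
      rw [e, k₁, k₂]
      exact ⟨_, rfl⟩
    have h4 : c ∈ S := by
      obtain ⟨m, hm⟩ := hodd
      have hx : c = (c * c) ^ (m + 1) := by
        rw [← pow_two, ← pow_mul]
        have : 2 * (m + 1) = orderOf c + 1 := by omega
        rw [this, pow_succ, pow_orderOf_eq_one, one_mul]
      rw [hx]
      exact pow_mem h3 _
    have h5 : c * D.φ₁ (ux 1) * c⁻¹ ∈ D.φ₁.range := by
      have := (Subgroup.mem_normalizer_iff.mp h4 (D.φ₁ (ux 1))).mp ⟨_, rfl⟩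
      exact this
    obtain ⟨y, hy⟩ := h5
    rw [k₁, map_ux] at hy
    have hu1 : (ux 1 : SL2 F) ≠ 1 := by
      intro h
      have := congrArg (fun A : SL2 F => ent A 0 1) h
      exact one_ne_zero this
    have hu2 : (ux 1 : SL2 F) ≠ -1 := by
      intro h
      have := congrArg (fun A : SL2 F => ent A 0 1) h
      simp only [ent_neg, one01, neg_zero] at this
      exact one_ne_zero this
    have hσ1 : (σ : F →+* F) 1 = 1 := map_one _
    rw [hσ1] at hy
    rcases eq₁₂ D hy with h6 | h6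
    · apply hu1
      have : ux 1 = b⁻¹ * (b * ux 1 * b⁻¹) * b := by group
      rw [this, h6.2]
      group
    · apply hu2
      have : ux 1 = b⁻¹ * (b * ux 1 * b⁻¹) * b := by group
      rw [this, h6.2, mul_neg_one, neg_mul, inv_mul_cancel]

/-- (ii) a `p`-element of `O` commuting with an involution of `K₀` is trivial -/
theorem O_p_kk {p : ℕ} [Fact p.Prime] [CharP F p] {i : SL2 F} (hi : i * i = -1) {x : G} (hx : x ∈ O)
    (hxi : x * kk D i = kk D i * x) {n : ℕ} (hxp : x ^ (p ^ n) = 1) : x = 1 := by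
  have hp2 : p ≠ 2 := by
    rintro rfl
    exact h2 (by exact_mod_cast CharP.cast_eq_zero F 2)
  have hpodd : Odd p := (Fact.out : p.Prime).odd_of_ne_two hp2
  have W := weak_of_field H.cent H.cent0 H.zu H.zk
  obtain ⟨g, hg1, hg2⟩ := exists_swap W h2 H.zw
  have hxinv := (O_inv h2 H hC).1 x hx
  have hxu := hC.le x hx
  -- `x' = φ₁(i)⁻¹ x φ₁(i)`
  set x' : G := (D.φ₁ i)⁻¹ * x * D.φ₁ i with hx'
  have hx'w : x' * D.w = D.w * x' := by
    have h1 : x * (D.z * D.w * kk D i) = (D.z * D.w * kk D i) * x := by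
      rw [← mul_assoc, hxu, mul_assoc, hxi, ← mul_assoc]
    rw [u_kk hi] at h1
    have e1 : x' * D.w = (D.φ₁ i)⁻¹ * (x * (D.φ₁ i * D.w * (D.φ₁ i)⁻¹)) * D.φ₁ i := by rw [hx']; group
    rw [e1, h1, hx']
    group
  have hx'i : x' * kk D i = kk D i * x' := by
    have h3 : D.φ₁ i * kk D i = kk D i * D.φ₁ i := by
      unfold kk
      rw [mul_assoc (D.φ₁ i) (D.φ₂ i), ← D.comm]
    have e1 : x' * kk D i = (D.φ₁ i)⁻¹ * x * (D.φ₁ i * kk D i) := by rw [hx']; group
    have e2 : (D.φ₁ i)⁻¹ * x * (kk D i * D.φ₁ i) = (D.φ₁ i)⁻¹ * (x * kk D i) * D.φ₁ i := by group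
    have e3 : (D.φ₁ i)⁻¹ * (kk D i * x) * D.φ₁ i = ((D.φ₁ i)⁻¹ * kk D i) * x * D.φ₁ i := by group
    have e4 : (D.φ₁ i)⁻¹ * kk D i = kk D i * (D.φ₁ i)⁻¹ := by
      rw [inv_mul_eq_iff_eq_mul, ← mul_assoc, h3, mul_inv_cancel_right]
    rw [e1, h3, e2, hxi, e3, e4, hx']
    group
  have hx'z : D.z * x' * D.z = x'⁻¹ := by
    have e1 : D.z * x' * D.z = (D.z * (D.φ₁ i)⁻¹) * x * (D.φ₁ i * D.z) := by rw [hx']; group
    have e2 : D.z * (D.φ₁ i)⁻¹ = (D.φ₁ i)⁻¹ * D.z := by rw [← map_inv, z_comm₁]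
    rw [e1, e2, ← z_comm₁]
    have e3 : (D.φ₁ i)⁻¹ * D.z * x * (D.z * D.φ₁ i) = (D.φ₁ i)⁻¹ * (D.z * x * D.z) * D.φ₁ i := by group
    rw [e3, hxinv, hx']
    group
  -- `x'' = g x' g⁻¹`
  set y : G := g * x' * g⁻¹ with hy
  have hyz : y * D.z = D.z * y := by
    rw [hy, ← hg2]
    have e : g * x' * g⁻¹ * (g * D.w * g⁻¹) = g * (x' * D.w) * g⁻¹ := by group
    rw [e, hx'w]
    group
  have hyw : D.w * y * D.w = y⁻¹ := by
    rw [hy, ← hg1]
    have e : g * D.z * g⁻¹ * (g * x' * g⁻¹) * (g * D.z * g⁻¹) = g * (D.z * x' * D.z) * g⁻¹ := by group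
    rw [e, hx'z]
    group
  obtain ⟨m, hm, hgm⟩ := swap_kk W h2 hg1 hg2 hi
  have hym : y * kk D m = kk D m * y := by
    rw [hy, ← hgm]
    have e : g * x' * g⁻¹ * (g * kk D i * g⁻¹) = g * (x' * kk D i) * g⁻¹ := by group
    rw [e, hx'i]
    group
  have hyp : y ^ (p ^ n) = 1 := by
    have h1 : x' ^ (p ^ n) = 1 := by
      have e : x' = (D.φ₁ i)⁻¹ * x * (D.φ₁ i)⁻¹⁻¹ := by rw [hx']; group
      rw [e, conj_pow, hxp, mul_one, mul_inv_cancel]
    rw [hy, conj_pow, h1, mul_one, mul_inv_cancel]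
  have hN : Odd (p ^ n) := hpodd.pow
  have hyodd : Odd (orderOf y) := Odd.of_dvd_nat hN (orderOf_dvd_of_pow_eq_one hyp)
  have key : y = 1 := by
    obtain ⟨σ, a, b, hσ, h₁, h₂⟩ := odd_cent H hyz hyodd
    -- `σ = 1`
    have hσ1 : σ = RingEquiv.refl F := by
      apply sq_eq_one hσ
      apply field_inner (c := a * SpecialLinearGroup.map (σ : F →+* F) b)
      intro x
      apply inj₁ D
      have e : y * (D.w * (y * (D.w * D.φ₁ x * D.w) * y⁻¹) * D.w) * y⁻¹ = D.φ₁ x := by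
        have e1 : y * (D.w * (y * (D.w * D.φ₁ x * D.w) * y⁻¹) * D.w) * y⁻¹ =
          y * (D.w * y * D.w) * D.φ₁ x * (D.w * y⁻¹ * D.w) * y⁻¹ := by group
        have e2 : D.w * y⁻¹ * D.w = y := by
          have := congrArg (fun t => t⁻¹) hyw
          simp only [_root_.mul_inv_rev, inv_inv, w_inv] at this
          rw [← mul_assoc] at this
          exact this
        rw [e1, hyw, e2]
        group
      rw [D.conj, h₂, w₂, mul_assoc (D.φ₁ _), D.ww, mul_one, h₁] at e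
      rw [← e, ← map_map', map_conj']
      congr 1
      group
    subst hσ1
    simp only [map_refl] at h₁ h₂
    obtain ⟨a, b, hab⟩ : ∃ a b, y = D.φ₁ a * D.φ₂ b := by
      rcases inner_mem H.cent0 h₁ h₂ with h | h
      · exact ⟨_, _, h⟩
      · exact ⟨_, _, h⟩
    -- wlog `a ^ N = b ^ N = 1`
    have hpow : D.φ₁ (a ^ (p ^ n)) * D.φ₂ (b ^ (p ^ n)) = 1 := by
      rw [map_pow, map_pow, ← Commute.mul_pow (D.comm a b), ← hab, hyp]
    obtain ⟨a, b, hab, haN, hbN⟩ : ∃ a b, y = D.φ₁ a * D.φ₂ b ∧ a ^ (p ^ n) = 1 ∧ b ^ (p ^ n) = 1 := by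
      rcases D.ker _ _ hpow with ⟨h3, h4⟩ | ⟨h3, h4⟩
      · exact ⟨a, b, hab, h3, h4⟩
      · refine ⟨-a, -b, ?_, ?_, ?_⟩
        · rw [hab]
          exact (eq_iff D _ _ _ _).mpr (Or.inr ⟨by rw [neg_neg], by rw [neg_neg]⟩)
        · rw [hN.neg_pow, h3, neg_neg]
        · rw [hN.neg_pow, h4, neg_neg]
    have hao : Odd (orderOf a) := Odd.of_dvd_nat hN (orderOf_dvd_of_pow_eq_one haN)
    have hbo : Odd (orderOf b) := Odd.of_dvd_nat hN (orderOf_dvd_of_pow_eq_one hbN)
    have hcomm : a * m = m * a ∧ b * m = m * b := by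
      rw [hab] at hym
      unfold kk at hym
      rw [mul_form, mul_form] at hym
      rcases (eq_iff D _ _ _ _).mp hym with h3 | ⟨h3, h4⟩
      · exact h3
      · have key : ∀ c : SL2 F, Odd (orderOf c) → c * m = -(m * c) → c * m = m * c := by
          intro c hco hc
          apply comm_of_sq hco
          have e1 : c * c * m = c * (c * m) := by group
          rw [e1, hc]
          have e3 : c * -(m * c) = -(c * m * c) := by rw [mul_neg]; congr 1; group
          rw [e3, hc, neg_mul, neg_neg]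
          group
        exact ⟨key a hao h3, key b hbo h4⟩
    have ha1 := LnSL.eq_one_of_comm_sq h2 hm hcomm.1 haN
    have hb1 := LnSL.eq_one_of_comm_sq h2 hm hcomm.2 hbN
    rw [hab, ha1, hb1, map_one, map_one, mul_one]
  have h3 : x' = 1 := by
    have : x' = g⁻¹ * y * g := by rw [hy]; group
    rw [this, key]
    group
  have : x = D.φ₁ i * x' * (D.φ₁ i)⁻¹ := by rw [hx']; group
  rw [this, h3]
  group

/-- (ii) `O` is a `p'`-group -/
theorem O_p {p : ℕ} [Fact p.Prime] [CharP F p] {x : G} (hx : x ∈ O) {n : ℕ} (hxp : x ^ (p ^ n) = 1) : x = 1 := by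
  obtain ⟨i, j, hi, hj, hij⟩ := Closing.exists_pair h2
  have hijij := anticomm_mul hi hj hij
  have hkij : kk D i * kk D j = kk D j * kk D i := by
    rw [← kk_mul, ← kk_mul, hij, kk_neg]
  have hne : kk D i ≠ kk D j := by
    intro h
    apply kk_ne h2 hijij (D := D)
    rw [kk_mul, h, kk_sq hj]
  have habel := (O_inv h2 H hC).2
  let N : Subgroup G :=
    { carrier := {x | x ∈ O ∧ ∃ n : ℕ, x ^ (p ^ n) = 1}
      one_mem' := ⟨one_mem _, 0, one_pow _⟩
      mul_mem' := by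
        rintro a b ⟨ha, n, hn⟩ ⟨hb, m, hm⟩
        refine ⟨mul_mem ha hb, n + m, ?_⟩
        have hab : Commute a b := habel a ha b hb
        rw [hab.mul_pow, pow_add, pow_mul, hn, one_pow, mul_comm, pow_mul, hm, one_pow, one_mul]
      inv_mem' := by
        rintro a ⟨ha, n, hn⟩
        exact ⟨inv_mem ha, n, by rw [inv_pow, hn, inv_one]⟩ }
  have hNle : N ≤ O := fun x hx => hx.1
  have hNodd : Odd (Nat.card N) := Odd.of_dvd_nat hC.odd (Subgroup.card_dvd_of_le hNle)
  have hNn : ∀ a, ∀ o ∈ N, kk D a * o * (kk D a)⁻¹ ∈ N := by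
    rintro a o ⟨ho, n, hn⟩
    exact ⟨kk_norm hC a o ho, n, by rw [conj_pow, hn, mul_one, mul_inv_cancel]⟩
  have hle : N ≤ ⊥ := by
    refine le_of_fours (x := kk D i) (y := kk D j) hkij (kk_sq hi) (kk_sq hj) (kk_ne h2 hi) (kk_ne h2 hj) hne hNodd
      (hNn i) (hNn j) ?_ ?_ ?_
    · rintro o ⟨ho, n, hn⟩ h
      exact O_p_kk h2 H hC hi ho h hn
    · rintro o ⟨ho, n, hn⟩ h
      exact O_p_kk h2 H hC hj ho h hn
    · rintro o ⟨ho, n, hn⟩ h
      rw [← kk_mul] at h
      exact O_p_kk h2 H hC hijij ho h hn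
  exact hle ⟨hx, n, hxp⟩

/-- (iv) `z` centralises every `p`-subgroup of `C(u)` normalised by `z` -/
theorem zinv {p : ℕ} [Fact p.Prime] [CharP F p] (A : Subgroup G) (hA : IsPGroup p A)
    (hAu : ∀ a ∈ A, a * (D.z * D.w) = (D.z * D.w) * a) (hAz : ∀ a ∈ A, D.z * a * D.z ∈ A) {a : G} (ha : a ∈ A) :
    a * D.z = D.z * a := by
  have hp2 : p ≠ 2 := by
    rintro rfl
    exact h2 (by exact_mod_cast CharP.cast_eq_zero F 2)
  have hpodd : Odd p := (Fact.out : p.Prime).odd_of_ne_two hp2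
  have hpow : ∀ b ∈ A, ∃ n : ℕ, b ^ (p ^ n) = 1 := by
    intro b hb
    obtain ⟨n, hn⟩ := hA ⟨b, hb⟩
    exact ⟨n, congrArg Subtype.val hn⟩
  obtain ⟨n, hn⟩ := hpow a ha
  have hodd : Odd (orderOf a) := Odd.of_dvd_nat (hpodd.pow (n := n)) (orderOf_dvd_of_pow_eq_one hn)
  have h1 := hC.star a (hAu a ha) hodd
  have h3 : a * D.z * a⁻¹ * D.z⁻¹ ∈ A := by
    rw [z_inv]
    have e : a * D.z * a⁻¹ * D.z = a * (D.z * a⁻¹ * D.z) := by group
    rw [e]
    exact mul_mem ha (hAz _ (inv_mem ha))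
  obtain ⟨k, hk⟩ := hpow _ h3
  have h4 := O_p h2 H hC h1 hk
  rw [mul_inv_eq_one, mul_inv_eq_iff_eq_mul] at h4
  exact h4

/-- (iii) no `p`-element of `C(u)` acts trivially on `K₀ O / O` -/
theorem D_p {p : ℕ} [Fact p.Prime] [CharP F p] {c : G} (hcu : c * (D.z * D.w) = (D.z * D.w) * c) {n : ℕ}
    (hcp : c ^ (p ^ n) = 1) (hck : ∀ a, c * kk D a * c⁻¹ * (kk D a)⁻¹ ∈ O) : c = 1 := by
  have hp2 : p ≠ 2 := by
    rintro rfl
    exact h2 (by exact_mod_cast CharP.cast_eq_zero F 2)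
  have hpodd : Odd p := (Fact.out : p.Prime).odd_of_ne_two hp2
  have hN : Odd (p ^ n) := hpodd.pow
  have hodd : Odd (orderOf c) := Odd.of_dvd_nat hN (orderOf_dvd_of_pow_eq_one hcp)
  obtain ⟨hzinv, habel⟩ := O_inv h2 H hC
  have hstar := hC.star c hcu hodd
  -- `o = c z c⁻¹ z⁻¹`, `r² = o`
  set o := c * D.z * c⁻¹ * D.z⁻¹ with ho
  obtain ⟨r, hr, hrr⟩ : ∃ r ∈ O, r * r = o := by
    obtain ⟨m, hm⟩ := odd_order hC.odd hstar
    refine ⟨o ^ (m + 1), pow_mem hstar _, ?_⟩
    rw [← pow_add]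
    have : m + 1 + (m + 1) = orderOf o + 1 := by omega
    rw [this, pow_succ, pow_orderOf_eq_one, one_mul]
  -- `y = r⁻¹ c` commutes with `z`
  set y := r⁻¹ * c with hy
  have hyz : y * D.z = D.z * y := by
    -- `c z = o z c`, `z r⁻¹ = r z`
    have e1 : c * D.z = o * D.z * c := by rw [ho]; group
    have e2 : D.z * r⁻¹ = r * D.z := by
      have := hzinv r hr
      rw [← this]
      have e : D.z * (D.z * r * D.z) = (D.z * D.z) * r * D.z := by group
      rw [e, zz, one_mul]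
    have e3 : y * D.z = r⁻¹ * (c * D.z) := by rw [hy]; group
    have e4 : D.z * y = (D.z * r⁻¹) * c := by rw [hy]; group
    rw [e3, e4, e1, e2, ← hrr]
    group
  have hyu : y * (D.z * D.w) = (D.z * D.w) * y := by
    have h1 := hC.le r⁻¹ (inv_mem hr)
    rw [hy, mul_assoc, hcu, ← mul_assoc, h1, mul_assoc]
  have hyw : y * D.w = D.w * y := by
    apply mul_left_cancel (a := D.z)
    calc D.z * (y * D.w) = (D.z * y) * D.w := (mul_assoc _ _ _).symm
      _ = (y * D.z) * D.w := by rw [hyz]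
      _ = y * (D.z * D.w) := mul_assoc _ _ _
      _ = (D.z * D.w) * y := hyu
      _ = D.z * (D.w * y) := mul_assoc _ _ _
  have hyk : ∀ x, y * kk D x * y⁻¹ * (kk D x)⁻¹ ∈ O := by
    intro x
    have e : y * kk D x * y⁻¹ * (kk D x)⁻¹ =
      r⁻¹ * (c * kk D x * c⁻¹ * (kk D x)⁻¹) * (kk D x * r * (kk D x)⁻¹) := by rw [hy]; group
    rw [e]
    exact mul_mem (mul_mem (inv_mem hr) (hck x)) (kk_norm hC x _ hr)
  have hV := mem_V h2 H hC.odd (kk_norm hC) hyz hyw hyk
  have hc : c = r * y := by rw [hy]; group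
  have sq_case : c * c = 1 → c = 1 := by
    intro h
    obtain ⟨m, hm⟩ := hN
    rw [hm, pow_add, pow_mul, pow_two, h, one_pow, one_mul, pow_one] at hcp
    exact hcp
  rcases hV with h | h | h | h
  · rw [h, mul_one] at hc
    rw [hc] at hcp ⊢
    exact O_p h2 H hC hr hcp
  · apply sq_case
    rw [hc, h]
    have e : r * D.z * (r * D.z) = r * (D.z * r * D.z) := by group
    rw [e, hzinv r hr, mul_inv_cancel]
  · apply sq_case
    rw [hc, h]
    -- `w = z u`
    have e1 : D.w * r * D.w = r⁻¹ := by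
      have h3 := hC.le r hr
      have e2 : D.w = D.z * (D.z * D.w) := by rw [← mul_assoc, zz, one_mul]
      have e3 : D.w = D.z * D.w * D.z := by rw [mul_assoc, wz, ← mul_assoc, zz, one_mul]
      calc D.w * r * D.w = D.z * (D.z * D.w) * r * (D.z * D.w * D.z) := by rw [← e2, ← e3]
        _ = D.z * ((D.z * D.w) * r) * (D.z * D.w) * D.z := by group
        _ = D.z * (r * (D.z * D.w)) * (D.z * D.w) * D.z := by rw [h3]
        _ = D.z * r * ((D.z * D.w) * (D.z * D.w)) * D.z := by group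
        _ = r⁻¹ := by rw [u_sq, mul_one, hzinv r hr]
    have e : r * D.w * (r * D.w) = r * (D.w * r * D.w) := by group
    rw [e, e1, mul_inv_cancel]
  · exfalso
    -- `c = r u`, `c ^ N = r ^ N u`
    have hcomm : Commute r (D.z * D.w) := hC.le r hr
    rw [hc, h, hcomm.mul_pow] at hcp
    have hu : (D.z * D.w) ^ (p ^ n) = D.z * D.w := by
      obtain ⟨m, hm⟩ := hN
      rw [hm, pow_add, pow_mul, pow_two, u_sq, one_pow, one_mul, pow_one]
    rw [hu] at hcp
    have h3 : D.z * D.w ∈ O := by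
      have : D.z * D.w = (r ^ (p ^ n))⁻¹ := eq_inv_of_mul_eq_one_right hcp
      rw [this]
      exact inv_mem (pow_mem hr _)
    have h4 := odd_no_invol hC.odd h3 u_sq
    apply w_ne_z D h2
    have : D.w = D.z * (D.z * D.w) := by rw [← mul_assoc, zz, one_mul]
    rw [this, h4, mul_one]

end main

end Cfsg.Agent.SpFourOdd.LnCore
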