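import Cfsg.Agent.SpFourOdd.LineDefs

/-!
# The point part, I: matrices and the centralizer of `z`
-/

set_option autoImplicit false

namespace Cfsg.Agent.SpFourOdd.Pt

open Matrix

section Mat

variable {F : Type*} [Field F]

theorem ux_zero : ux (0 : F) = 1 := by
  ext i j
  fin_cases i <;> fin_cases j <;> simp [ux]

theorem ux_add (s t : F) : ux (s + t) = ux s * ux t := by
  ext i j
  rw [Matrix.SpecialLinearGroup.coe_mul]
  fin_cases i <;> fin_cases j <;> simp [ux, Matrix.mul_apply, Fin.sum_univ_two, add_comm]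

theorem ux_injective : Function.Injective (ux (F := F)) := by
  intro s t h
  have := congrArg (fun g : SL2 F => g.1 0 1) h
  simpa [ux] using this

theorem ux_neg (t : F) : ux (-t) = (ux t)⁻¹ := by
  rw [eq_inv_iff_mul_eq_one, ← ux_add, neg_add_cancel, ux_zero]

theorem ux_pow (t : F) (n : ℕ) : (ux t) ^ n = ux (n * t) := by
  induction n with
  | zero => simp [ux_zero]
  | succ n ih => rw [pow_succ, ih, ← ux_add]; congr 1; push_cast; ring

theorem nx_mul_ux (t : F) : nx * ux t = lx (-t) * nx := by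
  ext i j
  rw [Matrix.SpecialLinearGroup.coe_mul, Matrix.SpecialLinearGroup.coe_mul]
  fin_cases i <;> fin_cases j <;> simp [ux, lx, nx, Matrix.mul_apply, Fin.sum_univ_two]

theorem nx_mul_lx (t : F) : nx * lx t = ux (-t) * nx := by
  ext i j
  rw [Matrix.SpecialLinearGroup.coe_mul, Matrix.SpecialLinearGroup.coe_mul]
  fin_cases i <;> fin_cases j <;> simp [ux, lx, nx, Matrix.mul_apply, Fin.sum_univ_two]

theorem nx_mul_nx : nx * nx = (-1 : SL2 F) := by
  ext i j
  rw [Matrix.SpecialLinearGroup.coe_mul]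
  fin_cases i <;> fin_cases j <;> simp [nx, Matrix.mul_apply, Fin.sum_univ_two]

theorem hx_mul (a b : Fˣ) : hx (a * b) = hx a * hx b := by
  ext i j
  rw [Matrix.SpecialLinearGroup.coe_mul]
  fin_cases i <;> fin_cases j <;> simp [hx, Matrix.mul_apply, Fin.sum_univ_two, mul_comm]

theorem hx_one : hx (1 : Fˣ) = 1 := by
  ext i j
  fin_cases i <;> fin_cases j <;> simp [hx]

theorem hx_inv (a : Fˣ) : hx a⁻¹ = (hx a)⁻¹ := by
  rw [eq_inv_iff_mul_eq_one, ← hx_mul, inv_mul_cancel, hx_one]

theorem hx_neg_one : hx (-1 : Fˣ) = (-1 : SL2 F) := by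
  ext i j
  fin_cases i <;> fin_cases j <;> simp [hx]

theorem hx_mul_ux (b : Fˣ) (t : F) : hx b * ux t = ux (b * b * t) * hx b := by
  ext i j
  rw [Matrix.SpecialLinearGroup.coe_mul, Matrix.SpecialLinearGroup.coe_mul]
  fin_cases i <;> fin_cases j <;> simp [ux, hx, Matrix.mul_apply, Fin.sum_univ_two]
  field_simp

theorem hx_mul_nx (b : Fˣ) : hx b * nx = nx * hx b⁻¹ := by
  ext i j
  rw [Matrix.SpecialLinearGroup.coe_mul, Matrix.SpecialLinearGroup.coe_mul]
  fin_cases i <;> fin_cases j <;> simp [nx, hx, Matrix.mul_apply, Fin.sum_univ_two]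

theorem ux_lx_ux (t : Fˣ) : ux (t : F) * lx (-(t : F)⁻¹) * ux (t : F) = hx t * nx := by
  ext i j
  rw [Matrix.SpecialLinearGroup.coe_mul, Matrix.SpecialLinearGroup.coe_mul, Matrix.SpecialLinearGroup.coe_mul]
  fin_cases i <;> fin_cases j <;> simp [ux, lx, hx, nx, Matrix.mul_apply, Fin.sum_univ_two]

theorem neg_one_ne_one (h2 : (2 : F) ≠ 0) : (-1 : SL2 F) ≠ 1 := by
  intro h
  have := congrArg (fun g : SL2 F => g.1 0 0) h
  simp at this
  apply h2
  linear_combination -this

/-- `-1` is the only involution of `SL₂(F)` -/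
theorem eq_of_sq (h2 : (2 : F) ≠ 0) {b : SL2 F} (h : b * b = 1) : b = 1 ∨ b = -1 := by
  have h1 : b = b⁻¹ := eq_inv_of_mul_eq_one_left h
  have h3 := congrArg (fun g : SL2 F => g.1) h1
  simp only [Matrix.SpecialLinearGroup.coe_inv, Matrix.adjugate_fin_two] at h3
  have h01 : b.1 0 1 = 0 := by
    have := congrFun (congrFun h3 0) 1
    simp at this
    have h4 : (2 : F) * b.1 0 1 = 0 := by linear_combination this
    exact (mul_eq_zero.1 h4).resolve_left h2
  have h10 : b.1 1 0 = 0 := by
    have := congrFun (congrFun h3 1) 0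
    simp at this
    have h4 : (2 : F) * b.1 1 0 = 0 := by linear_combination this
    exact (mul_eq_zero.1 h4).resolve_left h2
  have h11 : b.1 0 0 = b.1 1 1 := by
    have := congrFun (congrFun h3 0) 0
    simpa using this
  have hdet := b.2
  rw [Matrix.det_fin_two, h01, h10, h11] at hdet
  have e3 : b.1 1 1 = 1 ∨ b.1 1 1 = -1 := by
    have : (b.1 1 1 - 1) * (b.1 1 1 + 1) = 0 := by linear_combination hdet
    rcases mul_eq_zero.1 this with h | h
    · left; linear_combination h
    · right; linear_combination h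
  rcases e3 with e3 | e3
  · left
    ext i j
    fin_cases i <;> fin_cases j <;> simp [h01, h10, h11, e3]
  · right
    ext i j
    rw [Matrix.SpecialLinearGroup.coe_neg]
    fin_cases i <;> fin_cases j <;> simp [h01, h10, h11, e3]

theorem not_neg_ux (h2 : (2 : F) ≠ 0) (s : F) : ux s ≠ (-1 : SL2 F) := by
  intro h
  have h12 := congrArg (fun g : SL2 F => g.1 0 0) h
  simp [ux] at h12
  exact h2 (by linear_combination h12)

/-- an element commuting with `ux 1` is `± ux s` -/
theorem of_comm_ux {a : SL2 F} (h : a * ux 1 = ux 1 * a) : ∃ s, a = ux s ∨ a = -ux s := by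
  have h1 := congrArg (fun g : SL2 F => g.1) h
  simp only [Matrix.SpecialLinearGroup.coe_mul] at h1
  have h00 := congrFun (congrFun h1 0) 0
  have h01 := congrFun (congrFun h1 0) 1
  simp [ux, Matrix.mul_apply, Fin.sum_univ_two] at h00 h01
  have hdet := a.2
  rw [Matrix.det_fin_two] at hdet
  have e1 : a.1 1 0 = 0 := by simpa using h00
  have e2 : a.1 0 0 = a.1 1 1 := by linear_combination h01
  rw [e1, e2] at hdet
  have e3 : a.1 1 1 = 1 ∨ a.1 1 1 = -1 := by
    have : (a.1 1 1 - 1) * (a.1 1 1 + 1) = 0 := by linear_combination hdet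
    rcases mul_eq_zero.1 this with h | h
    · left; linear_combination h
    · right; linear_combination h
  rcases e3 with e3 | e3
  · refine ⟨a.1 0 1, Or.inl ?_⟩
    ext i j
    fin_cases i <;> fin_cases j <;> simp [ux]
    · rw [e2, e3]
    · exact e1
    · exact e3
  · refine ⟨-a.1 0 1, Or.inr ?_⟩
    ext i j
    rw [Matrix.SpecialLinearGroup.coe_neg]
    fin_cases i <;> fin_cases j <;> simp [ux]
    · rw [e2, e3]
    · exact e1
    · exact e3

/-- an element conjugating `ux t` to `ux (ν t)` gives a square root of `ν` -/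
theorem of_conj_ux {a : SL2 F} {ν : F} (h : a * ux 1 = ux ν * a) : IsSquare ν := by
  have h1 := congrArg (fun g : SL2 F => g.1) h
  simp only [Matrix.SpecialLinearGroup.coe_mul] at h1
  have h10 := congrFun (congrFun h1 1) 1
  have h01 := congrFun (congrFun h1 0) 1
  simp [ux, Matrix.mul_apply, Fin.sum_univ_two] at h10 h01
  have hdet := a.2
  rw [Matrix.det_fin_two] at hdet
  have e1 : a.1 1 0 = 0 := by simpa using h10
  have e2 : a.1 0 0 = ν * a.1 1 1 := by linear_combination h01
  refine ⟨a.1 0 0, ?_⟩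
  rw [e1] at hdet
  linear_combination (-ν) * hdet - a.1 0 0 * e2

/-- an element commuting with everything is `± 1` -/
theorem of_comm {a : SL2 F} (h : ∀ b : SL2 F, a * b = b * a) : a = 1 ∨ a = -1 := by
  obtain ⟨s, hs⟩ := of_comm_ux (h (ux 1))
  have key : ux s * nx = nx * ux s → s = 0 := by
    intro h2
    have h2 := congrArg (fun g : SL2 F => g.1 0 0) h2
    simp only [Matrix.SpecialLinearGroup.coe_mul] at h2
    simpa [ux, nx, Matrix.mul_apply, Fin.sum_univ_two] using h2
  rcases hs with rfl | rfl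
  · left; rw [key (h nx), ux_zero]
  · right
    have h3 := h nx
    rw [neg_mul, mul_neg, neg_inj] at h3
    rw [key h3, ux_zero]

/-- a normal subgroup of odd order of `SL₂(F)`, `F` of odd characteristic `p`, is trivial -/
theorem eq_one_of_odd [Finite F] (p : ℕ) [CharP F p] (hp : Odd p) (h2 : (2 : F) ≠ 0)
    (N : Subgroup (SL2 F)) [N.Normal] (hN : ∀ b ∈ N, Odd (orderOf b)) : ∀ b ∈ N, b = 1 := by
  have hneg : (-1 : SL2 F) ∉ N := by
    intro h
    have h3 := hN _ h
    have h4 : orderOf (-1 : SL2 F) = 2 :=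
      orderOf_eq_prime (by rw [pow_two]; simp) (neg_one_ne_one h2)
    rw [h4] at h3
    exact absurd h3 (by decide)
  have key : ∀ b ∈ N, b.1 1 0 = 0 := by
    intro b hb
    by_contra hγ
    set t : F := (b.1 0 0 + b.1 1 1) / b.1 1 0 with ht
    have ht' : b.1 1 0 * t = b.1 0 0 + b.1 1 1 := by rw [ht]; field_simp
    set g : SL2 F := b * ux (-t) with hg
    have hdet := b.2
    rw [Matrix.det_fin_two] at hdet
    have hgg : g * g = -1 := by
      ext i j
      rw [Matrix.SpecialLinearGroup.coe_mul]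
      have hg1 : g.1 = !![b.1 0 0, -(b.1 0 0 * t) + b.1 0 1; b.1 1 0, - b.1 0 0] := by
        rw [hg, Matrix.SpecialLinearGroup.coe_mul]
        ext i j
        fin_cases i <;> fin_cases j <;> simp [ux, Matrix.mul_apply, Fin.sum_univ_two]
        linear_combination -ht'
      rw [hg1]
      fin_cases i <;> fin_cases j <;> simp [Matrix.mul_apply, Fin.sum_univ_two]
      · linear_combination (-b.1 0 0) * ht' - hdet
      · ring
      · ring
      · linear_combination (-b.1 0 0) * ht' - hdet
    have h5 : (QuotientGroup.mk g : SL2 F ⧸ N) = QuotientGroup.mk (ux (-t)) := by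
      rw [hg, QuotientGroup.mk_mul, (QuotientGroup.eq_one_iff b).2 hb, one_mul]
    have h6 : g ^ p ∈ N := by
      rw [← QuotientGroup.eq_one_iff, QuotientGroup.mk_pow, h5, ← QuotientGroup.mk_pow, ux_pow,
        CharP.cast_eq_zero, zero_mul, ux_zero, QuotientGroup.mk_one]
    obtain ⟨k, rfl⟩ := hp
    have h7 : (g ^ (2 * k + 1)) * (g ^ (2 * k + 1)) = -1 := by
      rw [← pow_add]
      have : 2 * k + 1 + (2 * k + 1) = 2 * (2 * k + 1) := by ring
      rw [this, pow_mul, pow_two, hgg, Odd.neg_one_pow ⟨k, rfl⟩]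
    exact hneg (h7 ▸ mul_mem h6 h6)
  intro b hb
  have h10 := key b hb
  have h01 : b.1 0 1 = 0 := by
    have h := key (nx * b * nx⁻¹) (Subgroup.Normal.conj_mem inferInstance b hb nx)
    have hn : (nx⁻¹ : SL2 F) = -nx := by
      rw [inv_eq_iff_mul_eq_one, mul_neg, nx_mul_nx, neg_neg]
    rw [hn, mul_neg, Matrix.SpecialLinearGroup.coe_neg, Matrix.SpecialLinearGroup.coe_mul,
      Matrix.SpecialLinearGroup.coe_mul, Matrix.eta_fin_two b.1] at h
    simpa [nx] using h
  have h11 : b.1 0 0 = b.1 1 1 := by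
    have h := key (nx * (ux 1 * b * (ux 1)⁻¹) * nx⁻¹)
      (Subgroup.Normal.conj_mem inferInstance _ (Subgroup.Normal.conj_mem inferInstance b hb (ux 1)) nx)
    have hn : (nx⁻¹ : SL2 F) = -nx := by
      rw [inv_eq_iff_mul_eq_one, mul_neg, nx_mul_nx, neg_neg]
    rw [hn, mul_neg, Matrix.SpecialLinearGroup.coe_neg, ← ux_neg] at h
    simp only [Matrix.SpecialLinearGroup.coe_mul] at h
    rw [Matrix.eta_fin_two b.1, h10, h01] at h
    simp [nx, ux] at h
    linear_combination h
  have hc : ∀ c : SL2 F, b * c = c * b := by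
    intro c
    ext i j
    rw [Matrix.SpecialLinearGroup.coe_mul, Matrix.SpecialLinearGroup.coe_mul]
    fin_cases i <;> fin_cases j <;>
      simp [Matrix.mul_apply, Fin.sum_univ_two, h10, h01, h11, mul_comm]
  rcases of_comm hc with h | h
  · exact h
  · exact absurd (h ▸ hb) hneg

end Mat

end Cfsg.Agent.SpFourOdd.Pt
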