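import Cfsg.Agent.SpFourOdd.Fusion
import Cfsg.Agent.SpFourOdd.Field
import Cfsg.Agent.SpFourOdd.LnSL
import Cfsg.Agent.SpFourOdd.PtBasic
import Cfsg.Agent.SpFourOdd.LnCore

/-!
# Recognition of `PSp₄(q)`, `q` odd: `u = zw` is isolated in `C(P)`

`P = {φ₁(ux t) φ₂(ux t)}`.  If `v` is a conjugate of `u` under `C(P)` commuting with `u` then `v` acts trivially on
`K₀ O / O`; choose commuting involutions `x`, `y` in the cosets of a quaternion pair, commuting with `v`, and compare the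
types of `u`, `v`, `x`, `y` and their products at `u x`, `u y` (parity at a `z`-type involution).
-/

set_option autoImplicit false
set_option linter.all false

namespace Cfsg.Agent.SpFourOdd.LnIsol

open Matrix Closing

section comb

variable {G : Type*} [Group G]

/-- two involutions whose product has odd order are conjugate by a power of the product -/
theorem conj_of_odd {x y : G} (hx : x * x = 1) (hy : y * y = 1) {m : ℕ} (hm : Odd m) (h : (x * y) ^ m = 1) :
    ∃ k : ℕ, (x * y) ^ k * x * ((x * y) ^ k)⁻¹ = y := by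
  have hxi : x⁻¹ = x := inv_eq_of_mul_eq_one_left hx
  have hyi : y⁻¹ = y := inv_eq_of_mul_eq_one_left hy
  have h1 : x * (x * y) * x⁻¹ = (x * y)⁻¹ := by
    rw [_root_.mul_inv_rev, hyi, hxi, ← mul_assoc, hx, one_mul]
  obtain ⟨k, rfl⟩ := hm
  have h3 : ∀ n : ℕ, x * ((x * y) ^ n)⁻¹ = (x * y) ^ n * x := by
    intro n
    have : x * (x * y) ^ n * x⁻¹ = ((x * y) ^ n)⁻¹ := by rw [← conj_pow, h1, inv_pow]
    rw [← this]
    have e : x * (x * (x * y) ^ n * x⁻¹) = (x * x) * (x * y) ^ n * x⁻¹ := by group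
    rw [e, hx, one_mul, hxi]
  refine ⟨k, ?_⟩
  rw [mul_assoc, h3, ← mul_assoc, ← pow_add]
  have e2 : (x * y) ^ (k + k) = (x * y)⁻¹ := by
    rw [eq_inv_iff_mul_eq_one, ← pow_succ, ← two_mul, h]
  rw [e2, _root_.mul_inv_rev, hyi, hxi, mul_assoc, hx, mul_one]

/-- an involutive map on a finite set of odd size has an odd number of fixed points -/
theorem odd_fix {α : Type*} {S : Set α} (hS : Odd (Nat.card S)) {f : α → α} (hf : ∀ x ∈ S, f x ∈ S)
    (hff : ∀ x ∈ S, f (f x) = x) : Odd (Nat.card {x | x ∈ S ∧ f x = x}) := by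
  classical
  have hfin : Finite S := Nat.finite_of_card_ne_zero (by rintro h; rw [h] at hS; exact absurd hS (by decide))
  have : Fintype S := Fintype.ofFinite S
  let g : Function.End S := fun x => ⟨f x, hf x x.2⟩
  have hg : g ^ 2 ^ 1 = 1 := by
    funext x
    apply Subtype.ext
    change f (f x) = x
    exact hff x x.2
  have : Fact (Nat.Prime 2) := ⟨Nat.prime_two⟩
  have key := Equiv.Perm.card_fixedPoints_modEq hg
  have hS' : Odd (Fintype.card S) := by rwa [← Nat.card_eq_fintype_card]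
  have h3 : Odd (Fintype.card (Function.fixedPoints g)) := by
    rw [Nat.odd_iff] at hS' ⊢
    exact (show _ % 2 = _ % 2 from key).symm.trans hS'
  have e : Fintype.card (Function.fixedPoints g) = Nat.card {x | x ∈ S ∧ f x = x} := by
    rw [← Nat.card_eq_fintype_card]
    apply Nat.card_congr
    exact {
      toFun := fun x => ⟨x.1.1, x.1.2, congrArg Subtype.val x.2⟩
      invFun := fun x => ⟨⟨x.1, x.2.1⟩, Subtype.ext x.2.2⟩
      left_inv := fun x => rfl
      right_inv := fun x => rfl }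
  rwa [e] at h3

theorem exists_of_odd {α : Type*} {S : Set α} (hS : Odd (Nat.card S)) : ∃ x, x ∈ S := by
  by_contra hcon
  push Not at hcon
  have : IsEmpty S := ⟨fun x => hcon x x.2⟩
  rw [Nat.card_of_isEmpty] at hS
  exact absurd hS (by decide)

end comb

section SL

variable {F : Type*} [Field F]

/-- a normal subgroup of `SL₂(F)`, `F` of odd characteristic `p`, without a square root of `-1` -/
theorem eq_one_of_no_sq (p : ℕ) [CharP F p] (hp : Odd p)
    (N : Subgroup (SL2 F)) [N.Normal] (hN : ∀ b ∈ N, b * b ≠ -1) : ∀ b ∈ N, b = 1 ∨ b = -1 := by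
  have key : ∀ b ∈ N, b.1 1 0 = 0 := by
    intro b hb
    by_contra hγ
    set t : F := (b.1 0 0 + b.1 1 1) / b.1 1 0 with ht
    have ht' : b.1 1 0 * t = b.1 0 0 + b.1 1 1 := by rw [ht]; field_simp
    set g : SL2 F := b * ux (-t) with hg
    have hdet := b.2
    rw [Matrix.det_fin_two] at hdet
    have hgg : g * g = -1 := by
      ext i j
      rw [Matrix.SpecialLinearGroup.coe_mul]
      have hg1 : g.1 = !![b.1 0 0, -(b.1 0 0 * t) + b.1 0 1; b.1 1 0, - b.1 0 0] := by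
        rw [hg, Matrix.SpecialLinearGroup.coe_mul]
        ext i j
        fin_cases i <;> fin_cases j <;> simp [ux, Matrix.mul_apply, Fin.sum_univ_two]
        linear_combination -ht'
      rw [hg1]
      fin_cases i <;> fin_cases j <;> simp [Matrix.mul_apply, Fin.sum_univ_two]
      · linear_combination (-b.1 0 0) * ht' - hdet
      · ring
      · ring
      · linear_combination (-b.1 0 0) * ht' - hdet
    have h5 : (QuotientGroup.mk g : SL2 F ⧸ N) = QuotientGroup.mk (ux (-t)) := by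
      rw [hg, QuotientGroup.mk_mul, (QuotientGroup.eq_one_iff b).2 hb, one_mul]
    have h6 : g ^ p ∈ N := by
      rw [← QuotientGroup.eq_one_iff, QuotientGroup.mk_pow, h5, ← QuotientGroup.mk_pow, Pt.ux_pow,
        CharP.cast_eq_zero, zero_mul, Pt.ux_zero, QuotientGroup.mk_one]
    obtain ⟨k, rfl⟩ := hp
    have h7 : (g ^ (2 * k + 1)) * (g ^ (2 * k + 1)) = -1 := by
      rw [← pow_add]
      have : 2 * k + 1 + (2 * k + 1) = 2 * (2 * k + 1) := by ring
      rw [this, pow_mul, pow_two, hgg, Odd.neg_one_pow ⟨k, rfl⟩]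
    exact hN _ h6 h7
  intro b hb
  have h10 := key b hb
  have h01 : b.1 0 1 = 0 := by
    have h := key (nx * b * nx⁻¹) (Subgroup.Normal.conj_mem inferInstance b hb nx)
    have hn : (nx⁻¹ : SL2 F) = -nx := by
      rw [inv_eq_iff_mul_eq_one, mul_neg, Pt.nx_mul_nx, neg_neg]
    rw [hn, mul_neg, Matrix.SpecialLinearGroup.coe_neg, Matrix.SpecialLinearGroup.coe_mul,
      Matrix.SpecialLinearGroup.coe_mul, Matrix.eta_fin_two b.1] at h
    simpa [nx] using h
  have h11 : b.1 0 0 = b.1 1 1 := by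
    have h := key (nx * (ux 1 * b * (ux 1)⁻¹) * nx⁻¹)
      (Subgroup.Normal.conj_mem inferInstance _ (Subgroup.Normal.conj_mem inferInstance b hb (ux 1)) nx)
    have hn : (nx⁻¹ : SL2 F) = -nx := by
      rw [inv_eq_iff_mul_eq_one, mul_neg, Pt.nx_mul_nx, neg_neg]
    rw [hn, mul_neg, Matrix.SpecialLinearGroup.coe_neg, ← Pt.ux_neg] at h
    simp only [Matrix.SpecialLinearGroup.coe_mul] at h
    rw [Matrix.eta_fin_two b.1, h10, h01] at h
    simp [nx, ux] at h
    linear_combination h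
  have hc : ∀ c : SL2 F, b * c = c * b := by
    intro c
    ext i j
    rw [Matrix.SpecialLinearGroup.coe_mul, Matrix.SpecialLinearGroup.coe_mul]
    fin_cases i <;> fin_cases j <;>
      simp [Matrix.mul_apply, Fin.sum_univ_two, h10, h01, h11, mul_comm]
  exact Pt.of_comm hc

open LnSL in
/-- `(ux 1 · nx)³ = 1` -/
theorem cube_nx : (ux (1 : F) * nx) * (ux (1 : F) * nx) * (ux (1 : F) * nx) = 1 := by
  apply ext2 <;> simp [LnSL.mul00, LnSL.mul01, LnSL.mul10, LnSL.mul11, LnSL.one00, LnSL.one01, LnSL.one10, LnSL.one11]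

open LnSL in
/-- an element `ν` with `ν² = -1` and `(ux 1 · ν)³ = ± 1` is `±` conjugate to `nx` under `ux` -/
theorem exists_conj_nx (h2 : (2 : F) ≠ 0) {ν : SL2 F} (h : ν * ν = -1)
    (h3 : (ux (1 : F) * ν) * (ux (1 : F) * ν) * (ux (1 : F) * ν) = 1 ∨
      (ux (1 : F) * ν) * (ux (1 : F) * ν) * (ux (1 : F) * ν) = -1) :
    ∃ s, ux s * ν * (ux s)⁻¹ = nx ∨ ux s * ν * (ux s)⁻¹ = -nx := by
  have ht := LnSL.trace_of_sq h2 h
  have hd := det_eq ν
  rw [ht] at hd
  obtain ⟨ε, hε, h3'⟩ : ∃ ε : F, (ε = 1 ∨ ε = -1) ∧ ∀ i j : Fin 2,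
      ((ux (1 : F) * ν) * (ux (1 : F) * ν) * (ux (1 : F) * ν)) i j = ε * (1 : SL2 F) i j := by
    rcases h3 with h3 | h3
    · exact ⟨1, Or.inl rfl, fun i j => by rw [h3, one_mul]⟩
    · exact ⟨-1, Or.inr rfl, fun i j => by rw [h3, neg_ap]; ring⟩
  have e00 := h3' 0 0
  have e01 := h3' 0 1
  have e10 := h3' 1 0
  have e11 := h3' 1 1
  simp only [LnSL.mul00, LnSL.mul01, LnSL.mul10, LnSL.mul11, LnSL.one00, LnSL.one01, LnSL.one10, LnSL.one11,
    LnSL.ux00, LnSL.ux01, LnSL.ux10, LnSL.ux11, ht] at e00 e01 e10 e11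
  set α := ν 0 0
  set β := ν 0 1
  set γ := ν 1 0
  have hγ : γ = 1 ∨ γ = -1 := by
    have k1 : γ * (γ * γ - 1) = 0 := by linear_combination e10 + γ * hd
    rcases mul_eq_zero.1 k1 with h0 | h0
    · exfalso
      rw [h0] at e00 e11 hd
      have k3 : (2 : F) * α = 0 := by linear_combination -e00 + e11 - (2 * α) * hd
      have k4 := (mul_eq_zero.1 k3).resolve_left h2
      rw [k4] at hd
      simp at hd
    · exact mul_self_eq_one_iff.1 (by linear_combination h0)
  rcases hγ with hγ | hγ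
  · refine ⟨-α, Or.inr ?_⟩
    rw [hγ] at hd
    rw [← LnSL.ux_neg, neg_neg]
    apply ext2
    · rw [neg_ap, LnSL.mul00, LnSL.mul00, LnSL.mul01, ht]
      change (ux (-α) 0 0 * α + ux (-α) 0 1 * γ) * ux α 0 0 + (ux (-α) 0 0 * β + ux (-α) 0 1 * -α) * ux α 1 0 = _
      rw [hγ]
      simp
    · rw [neg_ap, LnSL.mul01, LnSL.mul00, LnSL.mul01, ht]
      change (ux (-α) 0 0 * α + ux (-α) 0 1 * γ) * ux α 0 1 + (ux (-α) 0 0 * β + ux (-α) 0 1 * -α) * ux α 1 1 = _
      rw [hγ]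
      simp
      linear_combination -hd
    · rw [neg_ap, LnSL.mul10, LnSL.mul10, LnSL.mul11, ht]
      change (ux (-α) 1 0 * α + ux (-α) 1 1 * γ) * ux α 0 0 + (ux (-α) 1 0 * β + ux (-α) 1 1 * -α) * ux α 1 0 = _
      rw [hγ]
      simp
    · rw [neg_ap, LnSL.mul11, LnSL.mul10, LnSL.mul11, ht]
      change (ux (-α) 1 0 * α + ux (-α) 1 1 * γ) * ux α 0 1 + (ux (-α) 1 0 * β + ux (-α) 1 1 * -α) * ux α 1 1 = _
      rw [hγ]
      simp
  · refine ⟨α, Or.inl ?_⟩
    rw [hγ] at hd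
    rw [← LnSL.ux_neg]
    apply ext2
    · rw [LnSL.mul00, LnSL.mul00, LnSL.mul01, ht]
      change (ux α 0 0 * α + ux α 0 1 * γ) * ux (-α) 0 0 + (ux α 0 0 * β + ux α 0 1 * -α) * ux (-α) 1 0 = _
      rw [hγ]
      simp
    · rw [LnSL.mul01, LnSL.mul00, LnSL.mul01, ht]
      change (ux α 0 0 * α + ux α 0 1 * γ) * ux (-α) 0 1 + (ux α 0 0 * β + ux α 0 1 * -α) * ux (-α) 1 1 = _
      rw [hγ]
      simp
      linear_combination hd
    · rw [LnSL.mul10, LnSL.mul10, LnSL.mul11, ht]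
      change (ux α 1 0 * α + ux α 1 1 * γ) * ux (-α) 0 0 + (ux α 1 0 * β + ux α 1 1 * -α) * ux (-α) 1 0 = _
      rw [hγ]
      simp
    · rw [LnSL.mul11, LnSL.mul10, LnSL.mul11, ht]
      change (ux α 1 0 * α + ux α 1 1 * γ) * ux (-α) 0 1 + (ux α 1 0 * β + ux α 1 1 * -α) * ux (-α) 1 1 = _
      rw [hγ]
      simp

end SL

section parity

variable {G F : Type*} [Group G] [Field F] {D : Pair G F}

/-- the parity of `c` at `t` -/
def PP (D : Pair G F) (t c : G) : Prop := c ≠ 1 ∧ c ≠ t ∧ (IsConj D.z c ↔ ¬ IsConj D.z (t * c))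

/-- `c ∈ L₁ L₂` -/
def Fm (D : Pair G F) (c : G) : Prop := ∃ a b, c = D.φ₁ a * D.φ₂ b

theorem Fm_mul {c d : G} (hc : Fm D c) (hd : Fm D d) : Fm D (c * d) := by
  obtain ⟨a, b, rfl⟩ := hc
  obtain ⟨a', b', rfl⟩ := hd
  exact ⟨_, _, mul_form D _ _ _ _⟩

theorem Fm_inv {c : G} (hc : Fm D c) : Fm D c⁻¹ := by
  obtain ⟨a, b, rfl⟩ := hc
  exact ⟨_, _, inv_form D _ _⟩

theorem not_Fm_w (h2 : (2 : F) ≠ 0) [Finite F] : ¬ Fm D D.w := by
  rintro ⟨a, b, h⟩
  exact w_ne_form D h2 a b h.symm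

theorem Fm_w {c : G} (hc : Fm D c) : Fm D (D.w * c * D.w) := by
  obtain ⟨a, b, rfl⟩ := hc
  exact ⟨b, a, by rw [w_form, mul_assoc, D.ww, mul_one]⟩

theorem Fm_add (h2 : (2 : F) ≠ 0) [Finite F] {c d : G} (hc : Fm D c ∨ Fm D (c * D.w)) (hd : Fm D d ∨ Fm D (d * D.w)) :
    Fm D (c * d) ↔ (Fm D c ↔ Fm D d) := by
  have hn : ∀ c : G, Fm D c → ¬ Fm D (c * D.w) := by
    intro c h1 h3
    apply not_Fm_w (D := D) h2
    have := Fm_mul (Fm_inv h1) h3
    rwa [inv_mul_cancel_left] at this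
  by_cases h1 : Fm D c
  · by_cases h3 : Fm D d
    · exact iff_of_true (Fm_mul h1 h3) (iff_of_true h1 h3)
    · refine iff_of_false ?_ ?_
      · intro h
        apply h3
        have := Fm_mul (Fm_inv h1) h
        rwa [inv_mul_cancel_left] at this
      · intro h
        exact h3 (h.1 h1)
  · have h1' := hc.resolve_left h1
    by_cases h3 : Fm D d
    · refine iff_of_false ?_ ?_
      · intro h
        apply h1
        have := Fm_mul h (Fm_inv h3)
        rwa [mul_inv_cancel_right] at this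
      · intro h
        exact h1 (h.2 h3)
    · have h3' := hd.resolve_left h3
      refine iff_of_true ?_ (iff_of_false h1 h3)
      have h4 : Fm D (D.w * (d * D.w) * D.w) := Fm_w h3'
      have h5 := Fm_mul h1' h4
      have e : c * D.w * (D.w * (d * D.w) * D.w) = c * (D.w * D.w) * d * (D.w * D.w) := by group
      rw [e, D.ww, mul_one, mul_one] at h5
      exact h5

theorem sq_of_isConj {c : G} (h : IsConj D.z c) : c * c = 1 := by
  obtain ⟨g, hg⟩ := isConj_iff.mp h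
  rw [← hg]
  have : g * D.z * g⁻¹ * (g * D.z * g⁻¹) = g * (D.z * D.z) * g⁻¹ := by group
  rw [this, zz, mul_one, mul_inv_cancel]

theorem ne_one_of_isConj (h2 : (2 : F) ≠ 0) {c : G} (h : IsConj D.z c) : c ≠ 1 := by
  rintro rfl
  obtain ⟨g, hg⟩ := isConj_iff.mp h
  apply z_ne D h2
  have : D.z = g⁻¹ * (g * D.z * g⁻¹) * g := by group
  rw [this, hg]
  group

theorem PP_z (W : Weak D) (h2 : (2 : F) ≠ 0) [Finite F] (hzw : IsConj D.z D.w) {c : G} (hc : c * D.z = D.z * c)
    (hcc : c * c = 1) : (PP D D.z c ↔ ¬ Fm D c) ∧ (Fm D c ∨ Fm D (c * D.w)) ∧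
      (IsConj D.z c → c ≠ D.z → ¬ Fm D c) ∧
      (Fm D c → c = 1 ∨ c = D.z ∨ (¬ IsConj D.z c ∧ ¬ IsConj D.z (D.z * c))) := by
  have hinv := W.inv c hc hcc
  have hFm : Fm D c ∨ Fm D (c * D.w) := by
    obtain ⟨a, b, h | h⟩ := hinv
    · exact Or.inl ⟨a, b, h⟩
    · refine Or.inr ⟨a, b, ?_⟩
      rw [h, mul_assoc, D.ww, mul_one]
  have hnF : ∀ x : G, Fm D (x * D.w) → ¬ Fm D x := by
    intro x h1 h3
    apply not_Fm_w (D := D) h2
    have := Fm_mul (Fm_inv h3) h1
    rwa [inv_mul_cancel_left] at this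
  rcases invol_form D h2 hinv hcc with h | h | ⟨a, b, ha, hb, h⟩ | ⟨a, h⟩ | ⟨a, h⟩
  · -- c = 1
    have hF : Fm D c := ⟨1, 1, by rw [h, map_one, map_one, mul_one]⟩
    refine ⟨iff_of_false (fun hp => hp.1 h) (fun hp => hp hF), hFm, fun hh _ => absurd h (ne_one_of_isConj h2 hh),
      fun _ => Or.inl h⟩
  · have hF : Fm D c := ⟨-1, 1, by rw [h, map_one, mul_one, D.z₁]⟩
    exact ⟨iff_of_false (fun hp => hp.2.1 h) (fun hp => hp hF), hFm, fun _ hh => absurd h hh,
      fun _ => Or.inr (Or.inl h)⟩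
  · have hF : Fm D c := ⟨a, b, h⟩
    have n1 : ¬ IsConj D.z c := by rw [h]; exact W.zk a b ha hb
    have n2 : ¬ IsConj D.z (D.z * c) := by
      rw [h, ← mul_assoc, ← neg₁]
      exact W.zk (-a) b (by rw [neg_mul_neg, ha]) hb
    refine ⟨iff_of_false (fun hp => n1 (hp.2.2.2 n2)) (fun hp => hp hF), hFm, fun hh _ => absurd hh n1,
      fun _ => Or.inr (Or.inr ⟨n1, n2⟩)⟩
  · have n0 : ¬ Fm D c := by
      apply hnF
      rw [h, conj_w, mul_assoc, D.ww, mul_one]
      exact ⟨_, _, rfl⟩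
    have n1 : IsConj D.z c := by rw [h]; exact hzw.trans (isConj_conj rfl)
    have n2 : ¬ IsConj D.z (D.z * c) := by
      intro hh
      apply W.zu
      have e : D.z * c = D.φ₁ a * (D.z * D.w) * (D.φ₁ a)⁻¹ := by
        rw [h, ← mul_assoc, ← mul_assoc, ← mul_assoc, z_comm₁]
      exact hh.trans (isConj_conj e).symm
    refine ⟨iff_of_true ⟨?_, ?_, iff_of_true n1 n2⟩ n0, hFm, fun _ _ => n0, fun hh => absurd hh n0⟩
    · exact ne_one_of_isConj h2 n1
    · intro hz
      exact n0 ⟨-1, 1, by rw [hz, map_one, mul_one, D.z₁]⟩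
  · have n0 : ¬ Fm D c := by
      apply hnF
      rw [h, conj_u, mul_assoc, D.ww, mul_one]
      exact ⟨_, _, rfl⟩
    have n1 : ¬ IsConj D.z c := by
      intro hh
      apply W.zu
      exact hh.trans (isConj_conj h).symm
    have n2 : IsConj D.z (D.z * c) := by
      have e : D.z * c = D.φ₁ a * D.w * (D.φ₁ a)⁻¹ := by
        rw [h, ← mul_assoc, ← mul_assoc, ← mul_assoc, z_comm₁, mul_assoc (D.φ₁ a) D.z D.z, zz, mul_one]
      rw [e]
      exact hzw.trans (isConj_conj rfl)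
    refine ⟨iff_of_true ⟨?_, ?_, iff_of_false n1 (fun hh => hh n2)⟩ n0, hFm, fun hh _ => absurd hh n1,
      fun hh => absurd hh n0⟩
    · intro h1
      exact n0 ⟨1, 1, by rw [h1, map_one, map_one, mul_one]⟩
    · intro hz
      exact n0 ⟨-1, 1, by rw [hz, map_one, mul_one, D.z₁]⟩

/-- additivity and the other rules at `z` -/
theorem rules_z (W : Weak D) (h2 : (2 : F) ≠ 0) [Finite F] (hzw : IsConj D.z D.w) :
    (∀ c d : G, c * c = 1 → d * d = 1 → c * d = d * c → c * D.z = D.z * c → d * D.z = D.z * d →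
      (PP D D.z (c * d) ↔ (PP D D.z c ↔ ¬ PP D D.z d))) ∧
    (∀ c : G, IsConj D.z c → c * D.z = D.z * c → c ≠ D.z → PP D D.z c) ∧
    (∀ c : G, c * c = 1 → c * D.z = D.z * c → ¬ PP D D.z c → c = 1 ∨ c = D.z ∨
      (¬ IsConj D.z c ∧ ¬ IsConj D.z (D.z * c))) := by
  refine ⟨?_, ?_, ?_⟩
  · intro c d hc hd hcd hcz hdz
    have k1 : c * d * (c * d) = 1 := by
      have : c * d * (c * d) = c * (d * c) * d := by group
      rw [this, ← hcd]
      have : c * (c * d) * d = (c * c) * (d * d) := by group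
      rw [this, hc, hd, one_mul]
    have k2 : c * d * D.z = D.z * (c * d) := by
      rw [mul_assoc, hdz, ← mul_assoc, hcz, mul_assoc]
    obtain ⟨a1, a2, -, -⟩ := PP_z W h2 hzw hcz hc
    obtain ⟨b1, b2, -, -⟩ := PP_z W h2 hzw hdz hd
    obtain ⟨c1, -, -, -⟩ := PP_z W h2 hzw k2 k1
    rw [a1, b1, c1, Fm_add h2 a2 b2]
    tauto
  · intro c hc hcz hne
    obtain ⟨a1, -, a3, -⟩ := PP_z W h2 hzw hcz (sq_of_isConj hc)
    exact a1.2 (a3 hc hne)
  · intro c hcc hcz hP
    obtain ⟨a1, -, -, a4⟩ := PP_z W h2 hzw hcz hcc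
    apply a4
    by_contra h
    exact hP (a1.2 h)

theorem isConj_conj_iff (g c : G) : IsConj D.z (g⁻¹ * c * g) ↔ IsConj D.z c := by
  have h : IsConj c (g⁻¹ * c * g) := isConj_iff.mpr ⟨g⁻¹, by rw [inv_inv]⟩
  exact ⟨fun h1 => h1.trans h.symm, fun h1 => h1.trans h⟩

theorem PP_conj {g t : G} (h : t = g * D.z * g⁻¹) (c : G) : PP D t c ↔ PP D D.z (g⁻¹ * c * g) := by
  unfold PP
  rw [isConj_conj_iff]
  have e : D.z * (g⁻¹ * c * g) = g⁻¹ * (t * c) * g := by rw [h]; group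
  rw [e, isConj_conj_iff]
  have e1 : c ≠ 1 ↔ g⁻¹ * c * g ≠ 1 := by
    rw [not_iff_not]
    constructor
    · rintro rfl
      group
    · intro h
      have : c = g * (g⁻¹ * c * g) * g⁻¹ := by group
      rw [this, h]
      group
  have e3 : c ≠ t ↔ g⁻¹ * c * g ≠ D.z := by
    rw [not_iff_not]
    constructor
    · rintro rfl
      rw [h]
      group
    · intro h'
      have : c = g * (g⁻¹ * c * g) * g⁻¹ := by group
      rw [this, h', h]
  rw [e1, e3]

/-- the parity rules at an arbitrary conjugate `t` of `z` -/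
theorem rules (W : Weak D) (h2 : (2 : F) ≠ 0) [Finite F] (hzw : IsConj D.z D.w) {t : G} (ht : IsConj D.z t) :
    (∀ c d : G, c * c = 1 → d * d = 1 → c * d = d * c → c * t = t * c → d * t = t * d →
      (PP D t (c * d) ↔ (PP D t c ↔ ¬ PP D t d))) ∧
    (∀ c : G, IsConj D.z c → c * t = t * c → c ≠ t → PP D t c) ∧
    (∀ c : G, c * c = 1 → c * t = t * c → ¬ PP D t c → c = 1 ∨ c = t ∨
      (¬ IsConj D.z c ∧ ¬ IsConj D.z (t * c))) := by
  obtain ⟨g, hg⟩ := isConj_iff.mp ht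
  obtain ⟨r1, r2, r3⟩ := rules_z W h2 hzw
  have hm : ∀ x y : G, g⁻¹ * (x * y) * g = (g⁻¹ * x * g) * (g⁻¹ * y * g) := fun x y => by group
  have hz : g⁻¹ * t * g = D.z := by rw [← hg]; group
  have hsq : ∀ c : G, c * c = 1 → (g⁻¹ * c * g) * (g⁻¹ * c * g) = 1 := by
    intro c hc
    rw [← hm, hc]
    group
  have hct : ∀ c d : G, c * d = d * c → (g⁻¹ * c * g) * (g⁻¹ * d * g) = (g⁻¹ * d * g) * (g⁻¹ * c * g) := by
    intro c d hcd
    rw [← hm, hcd, hm]
  have hne : ∀ c d : G, (g⁻¹ * c * g) = (g⁻¹ * d * g) → c = d := by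
    intro c d h
    have : c = g * (g⁻¹ * c * g) * g⁻¹ := by group
    rw [this, h]
    group
  refine ⟨?_, ?_, ?_⟩
  · intro c d hc hd hcd hcz hdz
    rw [PP_conj hg.symm, PP_conj hg.symm, PP_conj hg.symm, hm]
    have h5 := hct c t hcz
    have h6 := hct d t hdz
    rw [hz] at h5 h6
    exact r1 _ _ (hsq _ hc) (hsq _ hd) (hct _ _ hcd) h5 h6
  · intro c hc hcz hcne
    rw [PP_conj hg.symm]
    have h5 := hct c t hcz
    rw [hz] at h5
    exact r2 _ ((isConj_conj_iff g c).2 hc) h5 (fun h => hcne (hne _ _ (h.trans hz.symm)))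
  · intro c hcc hcz hP
    rw [PP_conj hg.symm] at hP
    have h5 := hct c t hcz
    rw [hz] at h5
    rcases r3 _ (hsq _ hcc) h5 hP with h | h | ⟨h, h'⟩
    · left
      apply hne
      rw [h]
      group
    · right; left
      exact hne _ _ (h.trans hz.symm)
    · right; right
      refine ⟨fun h6 => h ((isConj_conj_iff g c).2 h6), fun h6 => h' ?_⟩
      have e : D.z * (g⁻¹ * c * g) = g⁻¹ * (t * c) * g := by rw [← hg]; group
      rw [e, isConj_conj_iff]
      exact h6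

/-- the endgame -/
theorem endgame (W : Weak D) (h2 : (2 : F) ≠ 0) [Finite F] (hzw : IsConj D.z D.w) {u v x y : G}
    (hu : u * u = 1) (hv : v * v = 1) (hx : x * x = 1) (hy : y * y = 1)
    (huv : u * v = v * u) (hux : u * x = x * u) (huy : u * y = y * u) (hvx : v * x = x * v) (hvy : v * y = y * v)
    (hxy : x * y = y * x)
    (nu : ¬ IsConj D.z u) (nv : ¬ IsConj D.z v) (nx : ¬ IsConj D.z x) (ny : ¬ IsConj D.z y)
    (nxy : ¬ IsConj D.z (x * y)) (tx : IsConj D.z (u * x)) (ty : IsConj D.z (u * y))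
    (txy : IsConj D.z (u * (x * y))) (h1 : IsConj D.z (u * v * x) ↔ IsConj D.z (u * v * y))
    (h3 : IsConj D.z (u * v * x) ↔ IsConj D.z (u * v * (x * y))) (hv1 : v ≠ 1) (hne : v ≠ u) : False := by
  have hx1 : x ≠ 1 := by rintro rfl; rw [mul_one] at tx; exact nu tx
  have hy1 : y ≠ 1 := by rintro rfl; rw [mul_one] at ty; exact nu ty
  have hxy1 : x * y ≠ 1 := by intro h; rw [h, mul_one] at txy; exact nu txy
  obtain ⟨a1, a2, a3⟩ := rules W h2 hzw tx
  obtain ⟨b1, b2, b3⟩ := rules W h2 hzw ty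
  have e1 : u * x * v = u * v * x := by rw [mul_assoc, ← hvx, ← mul_assoc]
  have e2 : u * x * y = u * (x * y) := by rw [mul_assoc]
  have e3 : u * y * v = u * v * y := by rw [mul_assoc, ← hvy, ← mul_assoc]
  have e4 : u * y * x = u * (x * y) := by rw [mul_assoc, ← hxy]
  have e5 : u * x * (v * y) = u * v * (x * y) := by
    have : u * x * (v * y) = u * (x * v) * y := by group
    rw [this, ← hvx]
    group
  have e6 : u * y * (v * x) = u * v * (x * y) := by
    have : u * y * (v * x) = u * (y * v) * x := by group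
    rw [this, ← hvy]
    have : u * (v * y) * x = u * v * (y * x) := by group
    rw [this, ← hxy]
  have e7 : u * x * (x * y) = u * y := by
    have : u * x * (x * y) = u * (x * x) * y := by group
    rw [this, hx, mul_one]
  -- commutation with `u x`, `u y`
  have cvx : v * (u * x) = u * x * v := by
    rw [e1, ← mul_assoc, ← huv]
  have cyx : y * (u * x) = u * x * y := by
    rw [← mul_assoc, ← huy, mul_assoc, ← hxy, mul_assoc]
  have cvy : v * (u * y) = u * y * v := by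
    rw [e3, ← mul_assoc, ← huv]
  have cxy : x * (u * y) = u * y * x := by
    rw [← mul_assoc, ← hux, mul_assoc, hxy, mul_assoc]
  have cxx : x * (u * x) = u * x * x := by rw [← mul_assoc, ← hux]
  by_cases hτ : IsConj D.z (u * v * x)
  · -- `v` and `y` have odd parity at `u x`
    have p1 : PP D (u * x) v := ⟨hv1, fun h => nv (h ▸ tx), iff_of_false nv (fun h => h (e1 ▸ hτ))⟩
    have p2 : PP D (u * x) y := ⟨hy1, fun h => ny (h ▸ tx), iff_of_false ny (fun h => h (e2 ▸ txy))⟩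
    have p3 : ¬ PP D (u * x) (v * y) := by
      rw [a1 v y hv hy hvy cvx cyx]
      intro h
      exact h.1 p1 p2
    have k1 : v * y * (v * y) = 1 := by
      have : v * y * (v * y) = v * (y * v) * y := by group
      rw [this, ← hvy]
      have : v * (v * y) * y = (v * v) * (y * y) := by group
      rw [this, hv, hy, one_mul]
    have k2 : v * y * (u * x) = u * x * (v * y) := by
      rw [mul_assoc, cyx, ← mul_assoc, cvx, mul_assoc]
    rcases a3 _ k1 k2 p3 with h | h | ⟨-, h⟩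
    · -- v = y
      have hvy' : v = y := by
        have : v = v * y * y := by rw [mul_assoc, hy, mul_one]
        rw [this, h, one_mul]
      have := h1.1 hτ
      rw [hvy', mul_assoc, hy, mul_one] at this
      exact nu this
    · have : v = u * (x * y) := by
        have e : v = v * y * y := by rw [mul_assoc, hy, mul_one]
        rw [e, h, mul_assoc]
      exact nv (this ▸ txy)
    · rw [e5] at h
      exact h (h3.1 hτ)
  · have hτy : ¬ IsConj D.z (u * v * y) := fun h => hτ (h1.2 h)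
    have hτxy : ¬ IsConj D.z (u * v * (x * y)) := fun h => hτ (h3.2 h)
    have q1 : ¬ PP D (u * x) v := by
      rintro ⟨-, -, h⟩
      exact nv (h.2 (by rw [e1]; exact hτ))
    have q2 : PP D (u * x) y := ⟨hy1, fun h => ny (h ▸ tx), iff_of_false ny (fun h => h (e2 ▸ txy))⟩
    have q3 : PP D (u * x) (v * y) := by
      rw [a1 v y hv hy hvy cvx cyx]
      exact iff_of_false q1 (fun h => h q2)
    have zvy : IsConj D.z (v * y) := by
      apply q3.2.2.2
      rw [e5]
      exact hτxy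
    have q4 : ¬ PP D (u * y) v := by
      rintro ⟨-, -, h⟩
      exact nv (h.2 (by rw [e3]; exact hτy))
    have q5 : PP D (u * y) x := ⟨hx1, fun h => nx (h ▸ ty), iff_of_false nx (fun h => h (e4 ▸ txy))⟩
    have q6 : PP D (u * y) (v * x) := by
      rw [b1 v x hv hx hvx cvy cxy]
      exact iff_of_false q4 (fun h => h q5)
    have zvx : IsConj D.z (v * x) := by
      apply q6.2.2.2
      rw [e6]
      exact hτxy
    have k2 : v * y * (u * x) = u * x * (v * y) := by
      rw [mul_assoc, cyx, ← mul_assoc, cvx, mul_assoc]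
    have k3 : v * x * (u * x) = u * x * (v * x) := by
      rw [mul_assoc, cxx, ← mul_assoc, cvx, mul_assoc]
    have r1 : PP D (u * x) (v * x) := by
      apply a2 _ zvx k3
      intro h
      exact hne (mul_right_cancel h)
    have r2 : PP D (u * x) (v * y) := q3
    have k4 : v * x * (v * y) = x * y := by
      have : v * x * (v * y) = v * (x * v) * y := by group
      rw [this, ← hvx]
      have : v * (v * x) * y = (v * v) * (x * y) := by group
      rw [this, hv, one_mul]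
    have k5 : v * y * (v * x) = x * y := by
      have : v * y * (v * x) = v * (y * v) * x := by group
      rw [this, ← hvy]
      have : v * (v * y) * x = (v * v) * (y * x) := by group
      rw [this, hv, one_mul, hxy]
    have r3 : ¬ PP D (u * x) (x * y) := by
      rw [← k4, a1 (v * x) (v * y) (sq_of_isConj zvx) (sq_of_isConj zvy) (k4.trans k5.symm) k3 k2]
      intro h
      exact h.1 r1 r2
    apply r3
    refine ⟨hxy1, fun h => nxy (h ▸ tx), iff_of_false nxy (fun h => h ?_)⟩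
    rw [e7]
    exact ty

end parity

section cosets

variable {G F : Type*} [Group G] [Field F] {D : Pair G F} {O : Subgroup G}

/-- the coset `kk a · O` -/
def Cs (D : Pair G F) (O : Subgroup G) (a : SL2 F) : Set G := {x | (kk D a)⁻¹ * x ∈ O}

/-- the elements of `C(u)` centralising `K₀ O / O` -/
def InD (D : Pair G F) (O : Subgroup G) (c : G) : Prop :=
  c * (D.z * D.w) = (D.z * D.w) * c ∧ ∀ a, c * kk D a * c⁻¹ * (kk D a)⁻¹ ∈ O

theorem kk_cu (a : SL2 F) : kk D a * (D.z * D.w) = (D.z * D.w) * kk D a := by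
  rw [← mul_assoc, ← kk_z, mul_assoc, ← kk_w, ← mul_assoc]

theorem kk_norm (CU : CUData D O) (a : SL2 F) {o : G} (ho : o ∈ O) : kk D a * o * (kk D a)⁻¹ ∈ O :=
  CU.norm _ (kk_cu a) o ho

theorem kk_norm' (CU : CUData D O) (a : SL2 F) {o : G} (ho : o ∈ O) : (kk D a)⁻¹ * o * kk D a ∈ O := by
  have := kk_norm CU a⁻¹ ho
  rwa [kk_inv, inv_inv] at this

theorem O_two (CU : CUData D O) {o : G} (ho : o ∈ O) (h : o * o = 1) : o = 1 := by
  have h1 : orderOf o ∣ 2 := orderOf_dvd_of_pow_eq_one (by rw [pow_two, h])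
  have h3 : orderOf (⟨o, ho⟩ : O) ∣ Nat.card O := orderOf_dvd_natCard _
  rw [← Subgroup.orderOf_coe] at h3
  have h4 : Odd (orderOf o) := Odd.of_dvd_nat CU.odd h3
  rcases (Nat.dvd_prime Nat.prime_two).mp h1 with h5 | h5
  · exact orderOf_eq_one_iff.mp h5
  · rw [h5] at h4
    exact absurd h4 (by decide)

theorem O_pow (CU : CUData D O) {o : G} (ho : o ∈ O) : o ^ Nat.card O = 1 := by
  have : (⟨o, ho⟩ : O) ^ Nat.card O = 1 := pow_card_eq_one'
  have h := congrArg Subtype.val this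
  rw [Subgroup.coe_pow, Subgroup.coe_one] at h
  exact h

theorem Cs_self (a : SL2 F) : kk D a ∈ Cs D O a := by
  change (kk D a)⁻¹ * kk D a ∈ O
  rw [inv_mul_cancel]
  exact one_mem _

theorem Cs_mul (CU : CUData D O) {a b : SL2 F} {x y : G} (hx : x ∈ Cs D O a) (hy : y ∈ Cs D O b) :
    x * y ∈ Cs D O (a * b) := by
  change (kk D (a * b))⁻¹ * (x * y) ∈ O
  have e : (kk D (a * b))⁻¹ * (x * y) = ((kk D b)⁻¹ * ((kk D a)⁻¹ * x) * kk D b) * ((kk D b)⁻¹ * y) := by
    rw [kk_mul]; group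
  rw [e]
  exact mul_mem (kk_norm' CU b hx) hy

theorem Cs_inv (CU : CUData D O) {a : SL2 F} {x : G} (hx : x ∈ Cs D O a) : x⁻¹ ∈ Cs D O a⁻¹ := by
  change (kk D a⁻¹)⁻¹ * x⁻¹ ∈ O
  have e : (kk D a⁻¹)⁻¹ * x⁻¹ = (kk D a * ((kk D a)⁻¹ * x) * (kk D a)⁻¹)⁻¹ := by
    rw [kk_inv]; group
  rw [e]
  exact inv_mem (kk_norm CU a hx)

theorem Cs_neg {a : SL2 F} : Cs D O (-a) = Cs D O a := by
  unfold Cs
  rw [kk_neg]

theorem Cs_one : Cs D O 1 = (O : Set G) := by
  ext x
  change (kk D 1)⁻¹ * x ∈ O ↔ x ∈ O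
  rw [kk_one, inv_one, one_mul]

theorem Cs_neg_one : Cs D O (-1) = (O : Set G) := by
  rw [Cs_neg, Cs_one]

theorem Cs_cu (CU : CUData D O) {a : SL2 F} {x : G} (hx : x ∈ Cs D O a) : x * (D.z * D.w) = (D.z * D.w) * x := by
  have h1 := CU.le _ hx
  have e : x = kk D a * ((kk D a)⁻¹ * x) := by group
  rw [e, mul_assoc, h1, ← mul_assoc, kk_cu, mul_assoc]

theorem Cs_card (a : SL2 F) : Nat.card (Cs D O a) = Nat.card O := by
  apply Nat.card_congr
  exact {
    toFun := fun x => ⟨(kk D a)⁻¹ * x.1, x.2⟩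
    invFun := fun o => ⟨kk D a * o.1, by
      change (kk D a)⁻¹ * (kk D a * o.1) ∈ O
      rw [inv_mul_cancel_left]
      exact o.2⟩
    left_inv := fun x => Subtype.ext (mul_inv_cancel_left _ _)
    right_inv := fun x => Subtype.ext (inv_mul_cancel_left _ _) }

/-- `x ∈ kk(a) O` and `y ∈ kk(b) O`, then `x y x⁻¹ ∈ kk(a b a⁻¹) O` -/
theorem Cs_conj (CU : CUData D O) {a b : SL2 F} {x y : G} (hx : x ∈ Cs D O a) (hy : y ∈ Cs D O b) :
    x * y * x⁻¹ ∈ Cs D O (a * b * a⁻¹) :=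
  Cs_mul CU (Cs_mul CU hx hy) (Cs_inv CU hx)

theorem InD_conj (CU : CUData D O) {v : G} (hv : InD D O v) {a : SL2 F} {x : G} (hx : x ∈ Cs D O a) :
    v * x * v⁻¹ ∈ Cs D O a := by
  change (kk D a)⁻¹ * (v * x * v⁻¹) ∈ O
  have e : (kk D a)⁻¹ * (v * x * v⁻¹) = (kk D a)⁻¹ * (v * kk D a * v⁻¹ * (kk D a)⁻¹) * kk D a *
      (v * ((kk D a)⁻¹ * x) * v⁻¹) := by group
  rw [e]
  exact mul_mem (kk_norm' CU a (hv.2 a)) (CU.norm v hv.1 _ hx)

theorem InD_mul (CU : CUData D O) {c d : G} (hc : InD D O c) (hd : InD D O d) : InD D O (c * d) := by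
  refine ⟨by rw [mul_assoc, hd.1, ← mul_assoc, hc.1, mul_assoc], fun a => ?_⟩
  have e : c * d * kk D a * (c * d)⁻¹ * (kk D a)⁻¹ =
      (c * (d * kk D a * d⁻¹ * (kk D a)⁻¹) * c⁻¹) * (c * kk D a * c⁻¹ * (kk D a)⁻¹) := by group
  rw [e]
  exact mul_mem (CU.norm c hc.1 _ (hd.2 a)) (hc.2 a)

theorem InD_one : InD D O 1 := by
  refine ⟨by rw [one_mul, mul_one], fun a => ?_⟩
  have e : 1 * kk D a * 1⁻¹ * (kk D a)⁻¹ = 1 := by group
  rw [e]
  exact one_mem _

theorem InD_pow (CU : CUData D O) {c : G} (hc : InD D O c) (n : ℕ) : InD D O (c ^ n) := by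
  induction n with
  | zero => rw [pow_zero]; exact InD_one
  | succ n ih => rw [pow_succ]; exact InD_mul CU ih hc

/-- fixed points of an involution on the coset `kk(a) O` -/
theorem odd_cent (CU : CUData D O) {v : G} (hv : InD D O v) (hvv : v * v = 1) (a : SL2 F) :
    Odd (Nat.card {x | x ∈ Cs D O a ∧ v * x * v⁻¹ = x}) := by
  apply odd_fix (S := Cs D O a) (by rw [Cs_card]; exact CU.odd) (f := fun x => v * x * v⁻¹)
  · intro x hx
    exact InD_conj CU hv hx
  · intro x _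
    have : v * (v * x * v⁻¹) * v⁻¹ = (v * v) * x * (v * v)⁻¹ := by group
    change v * (v * x * v⁻¹) * v⁻¹ = x
    rw [this, hvv]
    group

theorem exists_cent (CU : CUData D O) {v : G} (hv : InD D O v) (hvv : v * v = 1) (a : SL2 F) :
    ∃ x, x ∈ Cs D O a ∧ v * x = x * v := by
  obtain ⟨x, hx, h⟩ := exists_of_odd (odd_cent CU hv hvv a)
  exact ⟨x, hx, mul_inv_eq_iff_eq_mul.mp h⟩

/-- ... and of a second one -/
theorem exists_cent₂ (CU : CUData D O) {v : G} (hv : InD D O v) (hvv : v * v = 1) {i j : SL2 F} (hij : i * j = -(j * i))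
    {x : G} (hx : x ∈ Cs D O i) (hxx : x * x = 1) (hvx : v * x = x * v) :
    ∃ y, y ∈ Cs D O j ∧ v * y = y * v ∧ x * y = y * x := by
  have h1 := odd_cent CU hv hvv j
  have h3 := odd_fix h1 (f := fun y => x * y * x⁻¹) (by
    rintro y ⟨hy, hy'⟩
    constructor
    · have := Cs_conj CU hx hy
      have e : i * j * i⁻¹ = -j := by rw [hij, neg_mul, mul_inv_cancel_right]
      rw [e, Cs_neg] at this
      exact this
    · have e : v * (x * y * x⁻¹) * v⁻¹ = (v * x) * y * (v * x)⁻¹ := by group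
      change v * (x * y * x⁻¹) * v⁻¹ = x * y * x⁻¹
      rw [e, hvx]
      have e : x * v * y * (x * v)⁻¹ = x * (v * y * v⁻¹) * x⁻¹ := by group
      rw [e, hy']) (by
    rintro y ⟨hy, hy'⟩
    change x * (x * y * x⁻¹) * x⁻¹ = y
    have e : x * (x * y * x⁻¹) * x⁻¹ = (x * x) * y * (x * x)⁻¹ := by group
    rw [e, hxx]
    group)
  obtain ⟨y, ⟨hy, hy'⟩, hy3⟩ := exists_of_odd h3
  exact ⟨y, hy, mul_inv_eq_iff_eq_mul.mp hy', mul_inv_eq_iff_eq_mul.mp hy3⟩

/-- the odd power of an element of `kk(a) O`, `a² = -1` -/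
theorem pow_invol (CU : CUData D O) {a : SL2 F} (ha : a * a = -1) {x : G} (hx : x ∈ Cs D O a) :
    ∃ n : ℕ, x ^ n ∈ Cs D O a ∧ x ^ n * x ^ n = 1 := by
  have h1 : x * x ∈ O := by
    have := Cs_mul CU hx hx
    rw [ha, Cs_neg_one] at this
    exact this
  refine ⟨Nat.card O, ?_, ?_⟩
  · obtain ⟨k, hk⟩ := CU.odd
    rw [hk, pow_succ, pow_mul, pow_two]
    have h3 : (x * x) ^ k ∈ Cs D O 1 := by
      rw [Cs_one]
      exact pow_mem h1 k
    have := Cs_mul CU h3 hx
    rwa [one_mul] at this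
  · rw [← (Commute.refl x).mul_pow, O_pow CU h1]

/-- involutions of `kk(a) O`, `a² = -1`, are conjugate under `O` -/
theorem conj_Cs (CU : CUData D O) {a : SL2 F} (ha : a * a = -1) {x y : G} (hx : x ∈ Cs D O a) (hy : y ∈ Cs D O a)
    (hxx : x * x = 1) (hyy : y * y = 1) : ∃ k : ℕ, (x * y) ^ k ∈ O ∧ (x * y) ^ k * x * ((x * y) ^ k)⁻¹ = y := by
  have h1 : x * y ∈ O := by
    have := Cs_mul CU hx hy
    rw [ha, Cs_neg_one] at this
    exact this
  obtain ⟨k, hk⟩ := conj_of_odd hxx hyy CU.odd (O_pow CU h1)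
  exact ⟨k, pow_mem h1 k, hk⟩

theorem kk_sq {a : SL2 F} (ha : a * a = -1) : kk D a * kk D a = 1 := by
  rw [← kk_mul, ha, kk_neg, kk_one]

theorem u_kk {a : SL2 F} (ha : a * a = -1) : D.z * D.w * kk D a = D.φ₁ a * D.w * (D.φ₁ a)⁻¹ := by
  have hainv : a⁻¹ = -a := by rw [inv_eq_iff_mul_eq_one, mul_neg, ha, neg_neg]
  rw [conj_w, hainv, neg₂, mul_assoc D.z, kk_w]
  unfold kk
  have h3 : D.φ₁ a * (D.z * D.φ₂ a) * D.w = D.φ₁ a * D.z * (D.φ₂ a * D.w) := by group
  rw [h3, ← z_comm₁]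
  group

/-- the types of the involutions `x` of `kk(a) O` and of `u x` -/
theorem type_Cs (CU : CUData D O) (W : Weak D) (hzw : IsConj D.z D.w) {a : SL2 F} (ha : a * a = -1) {x : G}
    (hx : x ∈ Cs D O a) (hxx : x * x = 1) : ¬ IsConj D.z x ∧ IsConj D.z (D.z * D.w * x) := by
  obtain ⟨k, hk, hk'⟩ := conj_Cs CU ha (Cs_self (D := D) (O := O) a) hx (kk_sq ha) hxx
  set r := (kk D a * x) ^ k
  have hr := CU.le r hk
  constructor
  · intro h
    exact W.zk a a ha ha (h.trans (isConj_conj hk'.symm).symm)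
  · have e : D.z * D.w * x = r * (D.z * D.w * kk D a) * r⁻¹ := by
      rw [← hk', ← mul_assoc, ← mul_assoc, ← hr]
      simp only [mul_assoc]
    rw [e]
    refine IsConj.trans ?_ (isConj_conj rfl)
    rw [u_kk ha]
    exact hzw.trans (isConj_conj rfl)

/-- the type of `u v x` does not depend on the coset -/
theorem tau_const (h2 : (2 : F) ≠ 0) [Finite F] (CU : CUData D O) {v : G} (hv : InD D O v) (hvv : v * v = 1)
    {a b : SL2 F} (ha : a * a = -1) (hb : b * b = -1) {x y : G} (hx : x ∈ Cs D O a) (hxx : x * x = 1)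
    (hvx : v * x = x * v) (hy : y ∈ Cs D O b) (hyy : y * y = 1) (hvy : v * y = y * v) :
    IsConj (D.z * D.w * v * x) (D.z * D.w * v * y) := by
  obtain ⟨c, hc⟩ := Closing.conj_of_sq h2 ha hb
  obtain ⟨g, hg, hvg⟩ := exists_cent CU hv hvv c
  have hgx : g * x * g⁻¹ ∈ Cs D O b := by
    have := Cs_conj CU hg hx
    rwa [hc] at this
  have hgxx : g * x * g⁻¹ * (g * x * g⁻¹) = 1 := by
    have : g * x * g⁻¹ * (g * x * g⁻¹) = g * (x * x) * g⁻¹ := by group
    rw [this, hxx]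
    group
  have hgu := Cs_cu CU hg
  obtain ⟨k, hk, hk'⟩ := conj_Cs CU hb hgx hy hgxx hyy
  have hcm : Commute v (g * x * g⁻¹ * y) := by
    have h1 : Commute v g := hvg
    have h3 : Commute v x := hvx
    have h4 : Commute v y := hvy
    exact ((h1.mul_right h3).mul_right h1.inv_right).mul_right h4
  set r := (g * x * g⁻¹ * y) ^ k
  have hrv : Commute v r := hcm.pow_right k
  have hru : Commute r (D.z * D.w) := CU.le r hk
  have h5 : Commute (r * g) (D.z * D.w * v) := by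
    have h6 : Commute g (D.z * D.w) := hgu
    have h7 : Commute g v := (show Commute v g from hvg).symm
    exact (hru.mul_left h6).mul_right (hrv.symm.mul_left h7)
  refine isConj_iff.mpr ⟨r * g, ?_⟩
  have e : r * g * (D.z * D.w * v * x) * (r * g)⁻¹ =
      (r * g * (D.z * D.w * v)) * x * (r * g)⁻¹ := by group
  rw [e, h5.eq]
  have e3 : D.z * D.w * v * (r * g) * x * (r * g)⁻¹ = D.z * D.w * v * (r * (g * x * g⁻¹) * r⁻¹) := by group
  rw [e3, hk']

end cosets

section final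

variable {G F : Type*} [Group G] [Field F] {D : Pair G F} {O : Subgroup G}

/-- `c ∈ C(u) ∩ C(P)` is, modulo `P`, trivial on `K₀ O / O` -/
theorem exists_InD [Finite G] [Finite F] (h2 : (2 : F) ≠ 0) (CU : CUData D O) {c : G}
    (hcu : c * (D.z * D.w) = (D.z * D.w) * c) (hcP : ∀ t, c * kk D (ux t) = kk D (ux t) * c) :
    ∃ s, InD D O (kk D (ux s) * c) := by
  have hkkO : ∀ a : SL2 F, kk D a ∈ O → a = 1 ∨ a = -1 := fun a ha =>
    LnCore.kk_eq_one (LnCore.kk_mem h2 CU.odd (fun a o ho => kk_norm CU a ho) ha)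
  obtain ⟨ν, o, ho, hν⟩ := CU.k0 c hcu nx
  change c * kk D nx * c⁻¹ = kk D ν * o at hν
  have hνC : c * kk D nx * c⁻¹ ∈ Cs D O ν := by
    change (kk D ν)⁻¹ * (c * kk D nx * c⁻¹) ∈ O
    rw [hν, inv_mul_cancel_left]
    exact ho
  have hnx : (nx : SL2 F) * nx = -1 := LnSL.nx_sq
  -- `ν² = -1`
  have hν2 : ν * ν = -1 := by
    have h1 : c * kk D nx * c⁻¹ * (c * kk D nx * c⁻¹) ∈ Cs D O (ν * ν) := Cs_mul CU hνC hνC
    have e : c * kk D nx * c⁻¹ * (c * kk D nx * c⁻¹) = 1 := by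
      have : c * kk D nx * c⁻¹ * (c * kk D nx * c⁻¹) = c * (kk D nx * kk D nx) * c⁻¹ := by group
      rw [this, kk_sq hnx]
      group
    rw [e] at h1
    have h3 : kk D (ν * ν) ∈ O := by
      have h4 : (kk D (ν * ν))⁻¹ * 1 ∈ O := h1
      rw [mul_one] at h4
      exact inv_mem_iff.mp h4
    rcases hkkO _ h3 with h5 | h5
    · exfalso
      have h6 : kk D ν = 1 := by
        rcases LnSL.sq_eq_one h2 h5 with rfl | rfl
        · exact kk_one
        · rw [kk_neg, kk_one]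
      rw [h6, one_mul] at hν
      have h7 : c * kk D nx * c⁻¹ = 1 := O_two CU (hν ▸ ho) e
      have h8 : kk D (nx : SL2 F) = 1 := by
        have : kk D (nx : SL2 F) = c⁻¹ * (c * kk D nx * c⁻¹) * c := by group
        rw [this, h7]
        group
      exact LnCore.kk_ne h2 hnx h8
    · exact h5
  -- `(ux 1 · ν)³ = ± 1`
  have hcube : (ux (1 : F) * ν) * (ux (1 : F) * ν) * (ux (1 : F) * ν) = 1 ∨
      (ux (1 : F) * ν) * (ux (1 : F) * ν) * (ux (1 : F) * ν) = -1 := by
    apply hkkO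
    have hy : c * kk D (ux 1 * nx) * c⁻¹ ∈ Cs D O (ux 1 * ν) := by
      have e : c * kk D (ux 1 * nx) * c⁻¹ = kk D (ux 1) * (c * kk D nx * c⁻¹) := by
        rw [kk_mul, ← mul_assoc, hcP]
        group
      rw [e]
      exact Cs_mul CU (Cs_self _) hνC
    have h1 := Cs_mul CU (Cs_mul CU hy hy) hy
    have e : c * kk D (ux 1 * nx) * c⁻¹ * (c * kk D (ux 1 * nx) * c⁻¹) * (c * kk D (ux 1 * nx) * c⁻¹) = 1 := by
      have e1 : c * kk D (ux 1 * nx) * c⁻¹ * (c * kk D (ux 1 * nx) * c⁻¹) * (c * kk D (ux 1 * nx) * c⁻¹) =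
        c * (kk D (ux 1 * nx) * kk D (ux 1 * nx) * kk D (ux 1 * nx)) * c⁻¹ := by group
      rw [e1, ← kk_mul, ← kk_mul, cube_nx, kk_one]
      group
    rw [e] at h1
    have h4 : (kk D (ux 1 * ν * (ux 1 * ν) * (ux 1 * ν)))⁻¹ * 1 ∈ O := h1
    rw [mul_one] at h4
    exact inv_mem_iff.mp h4
  obtain ⟨s, hs⟩ := exists_conj_nx h2 hν2 hcube
  refine ⟨s, ?_⟩
  set c' := kk D (ux s) * c with hc'
  have hcu' : c' * (D.z * D.w) = (D.z * D.w) * c' := by
    rw [hc', mul_assoc, hcu, ← mul_assoc, kk_cu, mul_assoc]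
  have hcP' : ∀ t, c' * kk D (ux t) = kk D (ux t) * c' := by
    intro t
    rw [hc', mul_assoc, hcP, ← mul_assoc, ← kk_mul, ← LnSL.ux_add, add_comm, LnSL.ux_add, kk_mul, mul_assoc]
  refine ⟨hcu', ?_⟩
  -- the subgroup of all `a` with `[c', kk a] ∈ O`
  let S : Subgroup (SL2 F) :=
    { carrier := {a | c' * kk D a * c'⁻¹ * (kk D a)⁻¹ ∈ O}
      one_mem' := by
        change c' * kk D 1 * c'⁻¹ * (kk D 1)⁻¹ ∈ O
        have : c' * kk D 1 * c'⁻¹ * (kk D 1)⁻¹ = 1 := by rw [kk_one]; group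
        rw [this]
        exact one_mem _
      mul_mem' := by
        intro a b ha hb
        change c' * kk D (a * b) * c'⁻¹ * (kk D (a * b))⁻¹ ∈ O
        have : c' * kk D (a * b) * c'⁻¹ * (kk D (a * b))⁻¹ = (c' * kk D a * c'⁻¹ * (kk D a)⁻¹) *
            (kk D a * (c' * kk D b * c'⁻¹ * (kk D b)⁻¹) * (kk D a)⁻¹) := by rw [kk_mul]; group
        rw [this]
        exact mul_mem ha (kk_norm CU a hb)
      inv_mem' := by
        intro a ha
        change c' * kk D a⁻¹ * c'⁻¹ * (kk D a⁻¹)⁻¹ ∈ O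
        have : c' * kk D a⁻¹ * c'⁻¹ * (kk D a⁻¹)⁻¹ = (kk D a)⁻¹ * (c' * kk D a * c'⁻¹ * (kk D a)⁻¹)⁻¹ * kk D a := by
          rw [kk_inv]; group
        rw [this]
        exact kk_norm' CU a (inv_mem ha) }
  have hS : S = ⊤ := by
    rw [eq_top_iff, ← LnSL.closure_ux_nx, Subgroup.closure_le]
    rintro a (⟨t, rfl⟩ | ha)
    · change c' * kk D (ux t) * c'⁻¹ * (kk D (ux t))⁻¹ ∈ O
      rw [hcP' t]
      have : kk D (ux t) * c' * c'⁻¹ * (kk D (ux t))⁻¹ = 1 := by group
      rw [this]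
      exact one_mem _
    · have : a = nx := ha
      rw [this]
      change c' * kk D nx * c'⁻¹ * (kk D nx)⁻¹ ∈ O
      have h1 : c' * kk D nx * c'⁻¹ ∈ Cs D O (ux s * ν * (ux s)⁻¹) := by
        have e : c' * kk D nx * c'⁻¹ = kk D (ux s) * (c * kk D nx * c⁻¹) * kk D (ux s)⁻¹ := by
          rw [hc', kk_inv]; group
        rw [e]
        exact Cs_mul CU (Cs_mul CU (Cs_self _) hνC) (Cs_self _)
      have h3 : c' * kk D nx * c'⁻¹ ∈ Cs D O nx := by
        rcases hs with hs | hs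
        · rwa [hs] at h1
        · rwa [hs, Cs_neg] at h1
      have h4 : (kk D nx)⁻¹ * (c' * kk D nx * c'⁻¹) ∈ O := h3
      have e : c' * kk D nx * c'⁻¹ * (kk D nx)⁻¹ = kk D nx * ((kk D nx)⁻¹ * (c' * kk D nx * c'⁻¹)) * (kk D nx)⁻¹ := by
        group
      rw [e]
      exact kk_norm CU nx h4
  intro a
  have : a ∈ S := by rw [hS]; trivial
  exact this

variable [Finite G] [Finite F] (h2 : (2 : F) ≠ 0) (H : Hyp D)

include h2 H

/-- `p`-elements of `C(u) ∩ C(P)` modulo a subgroup containing `P` -/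
theorem p_elem {p : ℕ} [Fact p.Prime] [CharP F p] (N : Subgroup G) (hN : ∀ t, kk D (ux t) ∈ N) (c : G)
    (hcu : c * (D.z * D.w) = (D.z * D.w) * c) (hcP : ∀ t, c * kk D (ux t) = kk D (ux t) * c) (n : ℕ)
    (hc : c ^ (p ^ n) ∈ N) : c ∈ N := by
  obtain ⟨O, CU⟩ := H.cu
  obtain ⟨s, hs⟩ := exists_InD h2 CU hcu hcP
  set d := kk D (ux s) * c with hd
  have hcomm : Commute (kk D (ux s)) c := (hcP s).symm
  have h1 : d ^ (p ^ n) ∈ N := by
    rw [hd, hcomm.mul_pow]
    exact mul_mem (pow_mem (hN s) _) hc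
  have hcop : Nat.Coprime p (orderOf d) := by
    rw [(Fact.out : p.Prime).coprime_iff_not_dvd]
    rintro ⟨m, hm⟩
    have hpos : 0 < orderOf d := orderOf_pos d
    have h3 : (d ^ m) ^ (p ^ 1) = 1 := by
      rw [pow_one, ← pow_mul, mul_comm, ← hm, pow_orderOf_eq_one]
    have h4 := InD_pow CU hs m
    have h5 := LnCore.D_p h2 H CU h4.1 h3 h4.2
    have h6 := orderOf_dvd_of_pow_eq_one h5
    have hm0 : 0 < m := by
      rcases Nat.eq_zero_or_pos m with h | h
      · rw [h, mul_zero] at hm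
        omega
      · exact h
    have h7 := Nat.le_of_dvd hm0 h6
    rw [hm] at h7
    have h8 : 2 ≤ p := (Fact.out : p.Prime).two_le
    nlinarith
  have h3 : d ∈ N := by
    have hcop' : Nat.Coprime (p ^ n) (orderOf d) := hcop.pow_left n
    obtain ⟨m, hm⟩ := exists_pow_eq_self_of_coprime hcop'
    rw [← hm]
    exact pow_mem h1 m
  have e : c = (kk D (ux s))⁻¹ * d := by rw [hd]; group
  rw [e]
  exact mul_mem (inv_mem (hN s)) h3

/-- **`u` is isolated in `C(P)`.** -/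
theorem isolated : ∀ m, (∀ t, m * kk D (ux t) = kk D (ux t) * m) →
    D.z * D.w * (m * (D.z * D.w) * m⁻¹) = m * (D.z * D.w) * m⁻¹ * (D.z * D.w) → m * (D.z * D.w) * m⁻¹ = D.z * D.w := by
  intro m hm hmu
  by_contra hne
  obtain ⟨p, hpc⟩ := CharP.exists F
  have hp : Fact p.Prime := ⟨by
    rcases CharP.char_is_prime_or_zero F p with h | h
    · exact h
    · subst h
      have := CharP.charP_to_charZero F
      exact absurd (inferInstance : Finite F) (by
        rw [not_finite_iff_infinite]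
        exact Infinite.of_injective (fun n : ℕ => (n : F)) Nat.cast_injective)⟩
  obtain ⟨O, CU⟩ := H.cu
  have W : Weak D := weak_of_field H.cent H.cent0 H.zu H.zk
  have hzw := H.zw
  set u := D.z * D.w with hu
  set v := m * u * m⁻¹ with hv
  have huu : u * u = 1 := LnCore.u_sq
  have hvv : v * v = 1 := by
    have : v * v = m * (u * u) * m⁻¹ := by rw [hv]; group
    rw [this, huu]
    group
  have huP : ∀ t, u * kk D (ux t) = kk D (ux t) * u := fun t => (kk_cu _).symm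
  have hvP : ∀ t, v * kk D (ux t) = kk D (ux t) * v := by
    intro t
    have h1 : Commute m (kk D (ux t)) := hm t
    have h3 : Commute u (kk D (ux t)) := huP t
    exact ((h1.mul_left h3).mul_left h1.inv_left).eq
  -- `v ∈ D`
  obtain ⟨s, hs⟩ := exists_InD h2 CU hmu.symm hvP
  have hs0 : kk D (ux s) = 1 := by
    have h1 := InD_mul CU hs hs
    have e : kk D (ux s) * v * (kk D (ux s) * v) = kk D (ux (2 * s)) := by
      have e1 : kk D (ux s) * v * (kk D (ux s) * v) = kk D (ux s) * (v * kk D (ux s)) * v := by group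
      rw [e1, hvP s]
      have e3 : kk D (ux s) * (kk D (ux s) * v) * v = (kk D (ux s) * kk D (ux s)) * (v * v) := by group
      rw [e3, hvv, mul_one, ← kk_mul, ← LnSL.ux_add, two_mul]
    rw [e] at h1
    have h3 : kk D (ux (2 * s)) ^ (p ^ 1) = 1 := by
      have h4 : ∀ n : ℕ, kk D (ux (2 * s)) ^ n = kk D (ux (2 * s) ^ n) := by
        intro n
        induction n with
        | zero => rw [pow_zero, pow_zero, kk_one]
        | succ n ih => rw [pow_succ, pow_succ, ih, kk_mul]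
      rw [h4, pow_one, LnSL.ux_pow, CharP.cast_eq_zero, zero_mul, LnSL.ux_zero, kk_one]
    have h5 := LnCore.D_p h2 H CU h1.1 h3 h1.2
    have h6 : (2 : F) * s = 0 := by
      rcases LnCore.kk_eq_one h5 with h7 | h7
      · have := congrArg (fun a : SL2 F => a 0 1) h7
        simpa using this
      · exact absurd h7 (Pt.not_neg_ux h2 _)
    have h7 : s = 0 := (mul_eq_zero.1 h6).resolve_left h2
    rw [h7, LnSL.ux_zero, kk_one]
  have hvD : InD D O v := by
    rw [hs0, one_mul] at hs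
    exact hs
  -- the pair of involutions
  obtain ⟨i, j, hi, hj, hij⟩ := Closing.exists_pair h2
  have hijij : i * j * (i * j) = -1 := LnCore.anticomm_mul hi hj hij
  obtain ⟨x₀, hx₀, hvx₀⟩ := exists_cent CU hvD hvv i
  obtain ⟨n, hx, hxx⟩ := pow_invol CU hi hx₀
  have hvx : v * x₀ ^ n = x₀ ^ n * v := (show Commute v x₀ from hvx₀).pow_right n
  set x := x₀ ^ n
  obtain ⟨y₀, hy₀, hvy₀, hxy₀⟩ := exists_cent₂ CU hvD hvv hij hx hxx hvx
  obtain ⟨n', hy, hyy⟩ := pow_invol CU hj hy₀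
  have hvy : v * y₀ ^ n' = y₀ ^ n' * v := (show Commute v y₀ from hvy₀).pow_right n'
  have hxy : x * y₀ ^ n' = y₀ ^ n' * x := (show Commute x y₀ from hxy₀).pow_right n'
  set y := y₀ ^ n'
  have hxyC : x * y ∈ Cs D O (i * j) := Cs_mul CU hx hy
  have hxyxy : x * y * (x * y) = 1 := by
    have : x * y * (x * y) = x * (y * x) * y := by group
    rw [this, ← hxy]
    have : x * (x * y) * y = (x * x) * (y * y) := by group
    rw [this, hxx, hyy, one_mul]
  have hvxy : v * (x * y) = x * y * v := by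
    rw [← mul_assoc, hvx, mul_assoc, hvy, mul_assoc]
  obtain ⟨nx, tx⟩ := type_Cs CU W hzw hi hx hxx
  obtain ⟨ny, ty⟩ := type_Cs CU W hzw hj hy hyy
  obtain ⟨nxy, txy⟩ := type_Cs CU W hzw hijij hxyC hxyxy
  have nv : ¬ IsConj D.z v := by
    intro h
    exact H.zu (h.trans (isConj_iff.mpr ⟨m⁻¹, by rw [hv, hu]; group⟩))
  have hv1 : v ≠ 1 := by
    intro h
    have h1 : u = 1 := by
      have : u = m⁻¹ * v * m := by rw [hv]; group
      rw [this, h]
      group
    apply w_ne_z D h2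
    have h3 : D.z * D.w = 1 := h1
    have h4 : D.z * (D.z * D.w) = D.z * 1 := by rw [h3]
    rw [← mul_assoc, zz, one_mul, mul_one] at h4
    exact h4
  have t1 := tau_const h2 CU hvD hvv hi hj hx hxx hvx hy hyy hvy
  have t2 := tau_const h2 CU hvD hvv hi hijij hx hxx hvx hxyC hxyxy hvxy
  refine endgame W h2 hzw (u := u) (v := v) (x := x) (y := y) huu hvv hxx hyy hmu (Cs_cu CU hx).symm
    (Cs_cu CU hy).symm hvx hvy hxy H.zu nv nx ny nxy tx ty txy ⟨fun h => h.trans t1, fun h => h.trans t1.symm⟩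
    ⟨fun h => h.trans t2, fun h => h.trans t2.symm⟩ hv1 hne

end final

end Cfsg.Agent.SpFourOdd.LnIsol
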