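import Cfsg.Agent.SpFourOdd.LnA

/-!
# The line part: `U = X₁ X₂ Y` and the structure `Line`
-/

set_option autoImplicit false
set_option linter.all false

namespace Cfsg.Agent.SpFourOdd.LnLine

open Matrix LnX LnGrp LnA
open Cfsg.Agent.Walter.OddCoreIn
open Closing (kk kk_mul kk_inv kk_one kk_neg kk_w kk_z zz z_ne neg₁ neg₂ z_comm₁ z_comm₂ w_inv z_inv w₁ w₂ wz
  eq_iff inj₁ inj₂ eq₁₂ mul_form inv_form w_form z_form)

variable {G F : Type*} [Group G] [Field F] [Finite G] [Finite F] {D : Pair G F} {p : ℕ} [Fact p.Prime] [CharP F p]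
  {g : G}

section MX

theorem hZX (h2 : (2 : F) ≠ 0) (H : Hyp D) {m : G} (hm : m ∈ MX D) : D.z * m * D.z⁻¹ * m⁻¹ ∈ OO (MX D) := by
  apply zstar_OO z_MX (zz D) (z_ne D h2) _ hm
  intro m hm hc
  have h1 : m * D.z * m⁻¹ ∈ MX D := mul_mem (mul_mem hm z_MX) (inv_mem hm)
  refine eq_z_of_MX h2 H (mem_MX.1 h1) hc.symm ?_ ?_
  · calc m * D.z * m⁻¹ * (m * D.z * m⁻¹) = m * (D.z * D.z) * m⁻¹ := by group
      _ = 1 := by rw [zz]; group
  · intro h
    apply z_ne D h2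
    calc D.z = m⁻¹ * (m * D.z * m⁻¹) * m := by group
      _ = 1 := by rw [h]; group

theorem XX_OOX (hp : Odd p) : XX D ≤ OO (MX D) := by
  apply le_OO XX_MX
  · rw [le_normalizer_iff']
    intro a ha x hx
    rwa [mem_MX.1 ha x hx, mul_inv_cancel_right]
  · rw [← even_iff_two_dvd, Nat.not_even_iff_odd]
    exact card_odd_of_pGroup hp (isPGroup_XX D (p := p))

theorem YY_OOX (hp : Odd p) (h2 : (2 : F) ≠ 0) (H : Hyp D) (I : Inp p D g) : YY D g ≤ OO (MX D) := by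
  intro y hy
  exact mem_of_inv (odd_of_pGroup hp (isPGroup_YY (p := p)) hy) (z_YY I hy)
    (hZX h2 H (YY_MX hp h2 H I hy))

theorem fix_XX (h2 : (2 : F) ≠ 0) (H : Hyp D) {c : G} (hc : c ∈ OO (MX D)) (hz : c * D.z = D.z * c) : c ∈ XX D :=
  odd_of_MP h2 H (mem_MP.1 (MX_le (OO_le _ hc))) hz (odd_of_mem (odd_card_OO _) hc)

theorem unique_U (h2 : (2 : F) ≠ 0) (H : Hyp D) {A B : Subgroup G} (hA : InvSyl p (ZZ D) (OO (MX D)) A)
    (hB : InvSyl p (ZZ D) (OO (MX D)) B) : B = A := by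
  apply hA.unique (isPGroup_ZZ D) (odd_card_OO _) (ZZ_inv (fun u hu => mul_mem_OO z_MX hu)) hB
  intro c hc hcV s hs
  have h1 : c ∈ XX D := fix_XX h2 H hc (hcV _ (z_ZZ D)).symm
  rwa [← mem_MX.1 (OO_le _ (hA.le hs)) c h1, mul_inv_cancel_right]

theorem exists_U_ge {R : Subgroup G} (hR : R ≤ OO (MX D)) (hRp : IsPGroup p R) (hz : ∀ u ∈ R, D.z * u * D.z⁻¹ ∈ R) :
    ∃ A, InvSyl p (ZZ D) (OO (MX D)) A ∧ R ≤ A :=
  exists_InvSyl_ge (isPGroup_ZZ D) (odd_card_OO _) (ZZ_inv (fun u hu => mul_mem_OO z_MX hu)) hR hRp (ZZ_inv hz)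

theorem le_U (h2 : (2 : F) ≠ 0) (H : Hyp D) {U R : Subgroup G} (hU : InvSyl p (ZZ D) (OO (MX D)) U)
    (hR : R ≤ OO (MX D)) (hRp : IsPGroup p R) (hz : ∀ u ∈ R, D.z * u * D.z⁻¹ ∈ R) : R ≤ U := by
  obtain ⟨B, hB, h⟩ := exists_U_ge hR hRp hz
  rwa [unique_U h2 H hU hB] at h

theorem XX_le_U (hp : Odd p) (h2 : (2 : F) ≠ 0) (H : Hyp D) {U : Subgroup G}
    (hU : InvSyl p (ZZ D) (OO (MX D)) U) : XX D ≤ U := by
  apply le_U h2 H hU (XX_OOX hp) (isPGroup_XX D)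
  intro u hu
  rwa [z_XX D hu, mul_inv_cancel_right]

theorem z_YY_mem (I : Inp p D g) {u : G} (hu : u ∈ YY D g) : D.z * u * D.z⁻¹ ∈ YY D g := by
  rw [z_YY I hu]
  exact inv_mem hu

theorem YY_le_U (hp : Odd p) (h2 : (2 : F) ≠ 0) (H : Hyp D) (I : Inp p D g) {U : Subgroup G}
    (hU : InvSyl p (ZZ D) (OO (MX D)) U) : YY D g ≤ U := by
  apply le_U h2 H hU (YY_OOX hp h2 H I) (isPGroup_YY (p := p))
  intro u hu
  exact z_YY_mem I hu

/-- elements normalising `X₁X₂` -/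
theorem norm_MX {f : G} (hf : ∀ x ∈ XX D, f * x * f⁻¹ ∈ XX D) {m : G} (hm : m ∈ MX D) : f * m * f⁻¹ ∈ MX D := by
  have hmap : (XX D).map (MulAut.conj f).toMonoidHom = XX D := by
    apply Subgroup.eq_of_le_of_card_ge
    · rintro _ ⟨a, ha, rfl⟩
      exact hf a ha
    · rw [Subgroup.card_map_of_injective (MulAut.conj f).injective]
  rw [mem_MX] at hm ⊢
  intro a ha
  rw [← hmap] at ha
  obtain ⟨b, hb, rfl⟩ := ha
  change f * m * f⁻¹ * (f * b * f⁻¹) = f * b * f⁻¹ * (f * m * f⁻¹)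
  calc f * m * f⁻¹ * (f * b * f⁻¹) = f * (m * b) * f⁻¹ := by group
    _ = f * b * f⁻¹ * (f * m * f⁻¹) := by rw [hm b hb]; group

theorem norm_U (h2 : (2 : F) ≠ 0) (H : Hyp D) {U : Subgroup G} (hU : InvSyl p (ZZ D) (OO (MX D)) U) {f : G}
    (hfz : f * D.z = D.z * f) (hf : ∀ x ∈ XX D, f * x * f⁻¹ ∈ XX D) {x : G} (hx : x ∈ U) : f * x * f⁻¹ ∈ U := by
  have h1 : InvSyl p (ZZ D) (OO (MX D)) (U.map (MulAut.conj f).toMonoidHom) := by
    apply hU.conj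
    · rintro a (rfl | rfl)
      · left; group
      · right; rw [mul_assoc, ← hfz, inv_mul_cancel_left]
    · intro a ha
      exact conj_OO (fun m hm => norm_MX hf hm) ha
  rw [← unique_U h2 H hU h1]
  exact ⟨x, hx, rfl⟩

theorem mem_W (hp : Odd p) (h2 : (2 : F) ≠ 0) (H : Hyp D) (I : Inp p D g) {x : G} :
    x ∈ XX D ⊔ YY D g ↔ ∃ a ∈ XX D, ∃ y ∈ YY D g, x = a * y := by
  apply mem_sup_iff_mul
  rw [le_normalizer_iff']
  intro a ha y hy
  rwa [← mem_MX.1 (YY_MX hp h2 H I hy) a ha, mul_inv_cancel_right]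

/-- elements of `C(P)` of odd order commuting with `w` -/
theorem fix_w (h2 : (2 : F) ≠ 0) (H : Hyp D) (I : Inp p D g) {h : G} (hm : h ∈ MP D) (ho : Odd (orderOf h))
    (hw : h * D.w = D.w * h) : h ∈ gX D g := by
  have h1 : (g⁻¹ * h * g) * D.z = D.z * (g⁻¹ * h * g) := by
    have e : g * D.z = D.w * g := by rw [← I.gz]; group
    have e' : D.z * g⁻¹ = g⁻¹ * D.w := by rw [← I.gz]; group
    calc (g⁻¹ * h * g) * D.z = g⁻¹ * h * (g * D.z) := by group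
      _ = g⁻¹ * (h * D.w) * g := by rw [e]; group
      _ = (g⁻¹ * D.w) * h * g := by rw [hw]; group
      _ = D.z * (g⁻¹ * h * g) := by rw [← e']; group
  have h3 : Odd (orderOf (g⁻¹ * h * g)) := by
    have h5 := orderOf_injective (MulAut.conj g⁻¹).toMonoidHom (MulAut.conj g⁻¹).injective h
    have h6 : (MulAut.conj g⁻¹).toMonoidHom h = g⁻¹ * h * g := by
      change g⁻¹ * h * g⁻¹⁻¹ = _
      rw [inv_inv]
    rw [← h6, h5]
    exact ho
  have h4 := odd_of_MP h2 H (mem_MP.1 (gi_MP I hm)) h1 h3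
  exact mem_gX.2 ⟨_, h4, by group⟩

theorem gX_le_W (h2 : (2 : F) ≠ 0) (I : Inp p D g) : gX D g ≤ XX D ⊔ YY D g := by
  intro x hx
  obtain ⟨r, hr, rfl⟩ := mem_gX.1 hx
  obtain ⟨b, hb, c, hc, rfl⟩ := XX_eq D h2 hr
  have : g * (b * c) * g⁻¹ = (g * b * g⁻¹) * (g * c * g⁻¹) := by group
  rw [this]
  exact mul_mem (Subgroup.mem_sup_left (PP_le D (g_PP I hb))) (Subgroup.mem_sup_right (mem_YY.2 ⟨c, hc, rfl⟩))

theorem U_le (hp : Odd p) (h2 : (2 : F) ≠ 0) (H : Hyp D) (I : Inp p D g) {U : Subgroup G}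
    (hU : InvSyl p (ZZ D) (OO (MX D)) U) : U ≤ XX D ⊔ YY D g := by
  apply Lib.KleinGen.le_of_klein U _ (card_odd_of_pGroup hp hU.isPGroup) D.z D.w (zz D) D.ww (wz D).symm
  · exact fun h hh => hU.2 _ (z_ZZ D) h hh
  · exact fun h hh => norm_U h2 H hU (wz D) (fun x hx => w_XX D hx) hh
  · rintro h ⟨hh, hc⟩
    exact Subgroup.mem_sup_left (fix_XX h2 H (hU.le hh) (Subgroup.mem_centralizer_singleton_iff.1 hc))
  · rintro h ⟨hh, hc⟩
    exact gX_le_W h2 I (fix_w h2 H I (MX_le (OO_le _ (hU.le hh))) (odd_of_pGroup hp hU.isPGroup hh)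
      (Subgroup.mem_centralizer_singleton_iff.1 hc))
  · rintro h ⟨hh, hc⟩
    have h1 := comm_of_u I hU.isPGroup (fun a ha => hU.2 _ (z_ZZ D) a ha) hh
      (Subgroup.mem_centralizer_singleton_iff.1 hc).symm
    exact Subgroup.mem_sup_left (fix_XX h2 H (hU.le hh) h1.1)

theorem mem_YY_of (hp : Odd p) (h2 : (2 : F) ≠ 0) (H : Hyp D) (I : Inp p D g) {x : G} (hx : x ∈ XX D ⊔ YY D g)
    (hz : D.z * x * D.z⁻¹ = x⁻¹) : x ∈ YY D g := by
  obtain ⟨a, ha, y, hy, rfl⟩ := (mem_W hp h2 H I).1 hx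
  have h1 : y * a = a * y := mem_MX.1 (YY_MX hp h2 H I hy) a ha
  have h3 : D.z * (a * y) * D.z⁻¹ = a * y⁻¹ := by
    calc D.z * (a * y) * D.z⁻¹ = (D.z * a) * y * D.z⁻¹ := by group
      _ = a * (D.z * y * D.z⁻¹) := by rw [z_XX D ha]; group
      _ = a * y⁻¹ := by rw [z_YY I hy]
  rw [h3, ← h1] at hz
  have h4 : a = a⁻¹ := by
    have : (y * a)⁻¹ = a⁻¹ * y⁻¹ := by group
    rw [this] at hz
    exact mul_right_cancel hz
  have h5 : a = 1 := sq_XX h2 ha (by nth_rw 1 [h4]; exact inv_mul_cancel a)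
  rw [h5, one_mul]
  exact hy

/-- `Y` is canonical -/
theorem norm_YY (hp : Odd p) (h2 : (2 : F) ≠ 0) (H : Hyp D) (I : Inp p D g) {f : G}
    (hfz : f * D.z = D.z * f) (hf : ∀ x ∈ XX D, f * x * f⁻¹ ∈ XX D) {y : G} (hy : y ∈ YY D g) :
    f * y * f⁻¹ ∈ YY D g := by
  obtain ⟨U, hU, -⟩ := exists_U_ge (XX_OOX (D := D) hp) (isPGroup_XX D (p := p))
    (fun u hu => by rwa [z_XX D hu, mul_inv_cancel_right])
  have h1 := norm_U h2 H hU hfz hf (YY_le_U hp h2 H I hU hy)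
  refine mem_YY_of hp h2 H I (U_le hp h2 H I hU h1) ?_
  calc D.z * (f * y * f⁻¹) * D.z⁻¹ = (D.z * f) * y * f⁻¹ * D.z⁻¹ := by group
    _ = f * (D.z * y * D.z⁻¹) * (D.z * f⁻¹ * D.z⁻¹) := by rw [← hfz]; group
    _ = f * (D.z * y * D.z⁻¹) * (D.z * f * D.z⁻¹)⁻¹ := by group
    _ = f * y⁻¹ * f⁻¹ := by rw [z_YY I hy, ← hfz, mul_inv_cancel_right]
    _ = (f * y * f⁻¹)⁻¹ := by group

end MX

section norm

theorem MP_norm {f : G} (hf : ∀ x ∈ PP D, f * x * f⁻¹ ∈ PP D) {m : G} (hm : m ∈ MP D) : f * m * f⁻¹ ∈ MP D := by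
  have hmap : (PP D).map (MulAut.conj f).toMonoidHom = PP D := by
    apply Subgroup.eq_of_le_of_card_ge
    · rintro _ ⟨a, ha, rfl⟩
      exact hf a ha
    · rw [Subgroup.card_map_of_injective (MulAut.conj f).injective]
  rw [mem_MP] at hm ⊢
  intro a ha
  rw [← hmap] at ha
  obtain ⟨b, hb, rfl⟩ := ha
  change f * m * f⁻¹ * (f * b * f⁻¹) = f * b * f⁻¹ * (f * m * f⁻¹)
  calc f * m * f⁻¹ * (f * b * f⁻¹) = f * (m * b) * f⁻¹ := by group
    _ = f * b * f⁻¹ * (f * m * f⁻¹) := by rw [hm b hb]; group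

theorem norm_XX (hp : Odd p) (h2 : (2 : F) ≠ 0) (H : Hyp D) (I : Inp p D g) {f : G} (hfz : f * D.z = D.z * f)
    (hfw : f * D.w = D.w * f) (hf : ∀ x ∈ PP D, f * x * f⁻¹ ∈ PP D) {x : G} (hx : x ∈ XX D) :
    f * x * f⁻¹ ∈ XX D := by
  obtain ⟨A, hA, -⟩ := exists_A hp h2 I
  have hfV : ∀ a ∈ VV D, f⁻¹ * a * f ∈ VV D := by
    have key : ∀ a ∈ VV D, a * f = f * a := by
      rintro a (rfl | rfl | rfl | rfl)
      · rw [one_mul, mul_one]
      · exact hfz.symm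
      · exact hfw.symm
      · rw [mul_assoc, ← hfw, ← mul_assoc, ← hfz, mul_assoc]
    intro a ha
    rwa [mul_assoc, key a ha, inv_mul_cancel_left]
  have h1 : InvSyl p (VV D) (OO (MP D)) (A.map (MulAut.conj f).toMonoidHom) :=
    hA.conj hfV (fun a ha => conj_OO (fun m hm => MP_norm hf hm) ha)
  have h3 : f * x * f⁻¹ ∈ A := by
    rw [← unique_A h2 H hA h1]
    exact ⟨x, XX_le_A hp h2 H I hA hx, rfl⟩
  refine odd_of_MP h2 H (mem_MP.1 (OO_le _ (hA.le h3))) ?_ (odd_of_pGroup hp hA.isPGroup h3)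
  calc f * x * f⁻¹ * D.z = f * x * (f⁻¹ * D.z) := by group
    _ = f * (x * D.z) * f⁻¹ := by
      have : f⁻¹ * D.z = D.z * f⁻¹ := by
        calc f⁻¹ * D.z = f⁻¹ * (D.z * f) * f⁻¹ := by group
          _ = D.z * f⁻¹ := by rw [← hfz]; group
      rw [this]; group
    _ = (f * D.z) * x * f⁻¹ := by rw [← z_XX D hx]; group
    _ = D.z * (f * x * f⁻¹) := by rw [hfz]; group

end norm

section cen

theorem card_W (hp : Odd p) (h2 : (2 : F) ≠ 0) (H : Hyp D) (I : Inp p D g) :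
    Nat.card (XX D ⊔ YY D g : Subgroup G) ≤ Nat.card F ^ 3 := by
  have h1 : (XX D) ≤ Subgroup.normalizer (YY D g : Set G) := by
    rw [le_normalizer_iff']
    intro a ha y hy
    rwa [← mem_MX.1 (YY_MX hp h2 H I hy) a ha, mul_inv_cancel_right]
  have h3 := card_sup_dvd h1
  have h4 : Nat.card (YY D g) = Nat.card F := by
    rw [YY, Subgroup.card_map_of_injective (MulAut.conj g).injective, card_PN D h2]
  rw [card_XX D h2, h4, ← pow_succ] at h3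
  exact Nat.le_of_dvd (pow_pos Nat.card_pos _) h3

theorem A_le (hp : Odd p) (h2 : (2 : F) ≠ 0) (H : Hyp D) (I : Inp p D g) {A : Subgroup G}
    (hA : InvSyl p (VV D) (OO (MP D)) A) : A ≤ XX D ⊔ YY D g := by
  apply Lib.KleinGen.le_of_klein A _ (card_odd_of_pGroup hp hA.isPGroup) D.z D.w (zz D) D.ww (wz D).symm
  · exact fun h hh => hA.2 _ (z_VV D) h hh
  · exact fun h hh => hA.2 _ (w_VV D) h hh
  · rintro h ⟨hh, hc⟩
    exact Subgroup.mem_sup_left (odd_of_MP h2 H (mem_MP.1 (OO_le _ (hA.le hh)))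
      (Subgroup.mem_centralizer_singleton_iff.1 hc) (odd_of_pGroup hp hA.isPGroup hh))
  · rintro h ⟨hh, hc⟩
    exact gX_le_W h2 I (fix_w h2 H I (OO_le _ (hA.le hh)) (odd_of_pGroup hp hA.isPGroup hh)
      (Subgroup.mem_centralizer_singleton_iff.1 hc))
  · rintro h ⟨hh, hc⟩
    exact Subgroup.mem_sup_left (PP_le D (fix_u_A h2 H I hA hh (Subgroup.mem_centralizer_singleton_iff.1 hc).symm))

/-- a `p`-subgroup of `H` is at most as large as a Sylow `p`-subgroup of `H` -/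
theorem card_le_sylow {A K S R : Subgroup G} (hS : InvSyl p A K S) (hR : R ≤ K) (hRp : IsPGroup p R) :
    Nat.card R ≤ Nat.card S := by
  obtain ⟨⟨T, rfl⟩, -⟩ := hS
  have h1 : IsPGroup p (R.subgroupOf K) := hRp.comap_subtype
  obtain ⟨T', hT'⟩ := h1.exists_le_sylow
  have h3 : Nat.card (R.subgroupOf K) ≤ Nat.card T' := Nat.le_of_dvd Nat.card_pos (Subgroup.card_dvd_of_le hT')
  have h4 : Nat.card T' = Nat.card T := by
    rw [Sylow.card_eq_multiplicity T', Sylow.card_eq_multiplicity T]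
  rw [Subgroup.card_map_of_injective (Subgroup.subtype_injective _)]
  rw [Nat.card_congr (Subgroup.subgroupOfEquivOfLe hR).toEquiv] at h3
  rw [h4] at h3
  exact h3

/-- `p`-elements of `C(P)` lie in `O(C(P))` -/
theorem pel_MP (hp : Odd p) (h2 : (2 : F) ≠ 0) (H : Hyp D) (I : Inp p D g) {x : G} (hx : x ∈ MP D) {n : ℕ}
    (hn : x ^ (p ^ n) = 1) : x ∈ OO (MP D) := by
  obtain ⟨a, ha, c, hc, rfl⟩ := decomp (odd_card_OO (MP D)) (uu D) (fun k hk => mul_mem_OO u_MP hk)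
    (fun m hm => hZ I h2 hm) hx
  refine mul_mem ha ?_
  have hcM : c ∈ MP D := by
    have : c = a⁻¹ * (a * c) := by group
    rw [this]
    exact mul_mem (inv_mem (OO_le _ ha)) hx
  refine I.pel (OO (MP D)) (fun t => PP_OO hp ⟨t, rfl⟩) c hc (fun t => mem_MP.1 hcM _ ⟨t, rfl⟩) n ?_
  -- `c ^ m ∈ O(M)` since `(a c)^m = 1`
  have key : ∀ k : ℕ, ∃ b ∈ OO (MP D), (a * c) ^ k = b * c ^ k := by
    intro k
    induction k with
    | zero => exact ⟨1, one_mem _, by simp⟩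
    | succ k ih =>
      obtain ⟨b, hb, h⟩ := ih
      refine ⟨b * (c ^ k * a * (c ^ k)⁻¹), mul_mem hb (mul_mem_OO (pow_mem hcM k) ha), ?_⟩
      rw [pow_succ, h, pow_succ]; group
  obtain ⟨b, hb, h⟩ := key (p ^ n)
  rw [hn] at h
  have : c ^ (p ^ n) = b⁻¹ := (inv_eq_of_mul_eq_one_right h.symm).symm
  rw [this]
  exact inv_mem hb

theorem cen_P (hp : Odd p) (h2 : (2 : F) ≠ 0) (H : Hyp D) (I : Inp p D g) {R : Subgroup G} (hR : R ≤ MP D)
    (hRp : IsPGroup p R) : Nat.card R ≤ Nat.card F ^ 3 := by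
  obtain ⟨A, hA, -⟩ := exists_A hp h2 I
  have h1 : R ≤ OO (MP D) := by
    intro x hx
    obtain ⟨n, hn⟩ := hRp ⟨x, hx⟩
    exact pel_MP hp h2 H I (hR hx) (congrArg Subtype.val hn)
  have h3 := card_le_sylow hA h1 hRp
  have h4 : Nat.card A ≤ Nat.card (XX D ⊔ YY D g : Subgroup G) :=
    Nat.le_of_dvd Nat.card_pos (Subgroup.card_dvd_of_le (A_le hp h2 H I hA))
  exact h3.trans (h4.trans (card_W hp h2 H I))

/-! ### `C(P⁻)` if `-1` is not a square -/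

variable (hns : ∀ r : F, r * r ≠ -1)
include hns

theorem hZN (h2 : (2 : F) ≠ 0) (H : Hyp D) {m : G} (hm : m ∈ MN D) : D.z * m * D.z⁻¹ * m⁻¹ ∈ OO (MN D) := by
  apply zstar_OO z_MN (zz D) (z_ne D h2) _ hm
  intro m hm hc
  have h1 : m * D.z * m⁻¹ ∈ MN D := mul_mem (mul_mem hm z_MN) (inv_mem hm)
  refine eq_z_of_MN h2 hns H (mem_MN.1 h1) hc.symm ?_ ?_
  · calc m * D.z * m⁻¹ * (m * D.z * m⁻¹) = m * (D.z * D.z) * m⁻¹ := by group
      _ = 1 := by rw [zz]; group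
  · intro h
    apply z_ne D h2
    calc D.z = m⁻¹ * (m * D.z * m⁻¹) * m := by group
      _ = 1 := by rw [h]; group

/-- `C(P⁻) = O(C(P⁻)) X₁X₂ ⟨z⟩` -/
theorem MN_decomp (h2 : (2 : F) ≠ 0) (H : Hyp D) {m : G} (hm : m ∈ MN D) :
    ∃ a ∈ OO (MN D), ∃ x ∈ XX D, m = a * x ∨ m = a * x * D.z := by
  obtain ⟨a, ha, c, hc, rfl⟩ := decomp (odd_card_OO (MN D)) (zz D) (fun k hk => mul_mem_OO z_MN hk)
    (fun m hm => hZN hns h2 H hm) hm
  have hcM : c ∈ MN D := by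
    have : c = a⁻¹ * (a * c) := by group
    rw [this]
    exact mul_mem (inv_mem (OO_le _ ha)) hm
  obtain ⟨x, hx, h | h⟩ := of_MN h2 hns H (mem_MN.1 hcM) hc
  · exact ⟨a, ha, x, hx, Or.inl (by rw [h])⟩
  · exact ⟨a, ha, x, hx, Or.inr (by rw [h, mul_assoc])⟩

theorem XX_OON (hp : Odd p) (h2 : (2 : F) ≠ 0) (H : Hyp D) : XX D ≤ OO (MN D) := by
  have hn : XX D ≤ Subgroup.normalizer (OO (MN D) : Set G) := XX_MN.trans (le_normalizer_OO _)
  have h1 : XX D ⊔ OO (MN D) ≤ OO (MN D) := by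
    apply le_OO (sup_le XX_MN (OO_le _))
    · rw [le_normalizer_iff']
      intro m hm y hy
      obtain ⟨x, hx, b, hb, rfl⟩ := (mem_sup_iff_mul hn).1 hy
      have e : m * (x * b) * m⁻¹ = (m * x * m⁻¹) * (m * b * m⁻¹) := by group
      rw [e]
      refine mul_mem ?_ (Subgroup.mem_sup_right (mul_mem_OO hm hb))
      -- `m x m⁻¹`
      have key : ∀ a ∈ OO (MN D), ∀ x' ∈ XX D, a * x' * x * x'⁻¹ * a⁻¹ ∈ XX D ⊔ OO (MN D) := by
        intro a ha x' hx'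
        have e1 : x' * x * x'⁻¹ = x := by rw [comm_XX D hx' hx, mul_inv_cancel_right]
        have e2 : a * x' * x * x'⁻¹ * a⁻¹ = a * (x' * x * x'⁻¹) * a⁻¹ := by group
        rw [e2, e1]
        exact mul_mem (mul_mem (Subgroup.mem_sup_right ha) (Subgroup.mem_sup_left hx))
          (inv_mem (Subgroup.mem_sup_right ha))
      obtain ⟨a, ha, x', hx', h | h⟩ := MN_decomp hns h2 H hm
      · rw [h]
        have : a * x' * x * (a * x')⁻¹ = a * x' * x * x'⁻¹ * a⁻¹ := by group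
        rw [this]
        exact key a ha x' hx'
      · rw [h]
        have : a * x' * D.z * x * (a * x' * D.z)⁻¹ = a * x' * (D.z * x) * D.z⁻¹ * x'⁻¹ * a⁻¹ := by group
        rw [this, z_XX D hx]
        have : a * x' * (x * D.z) * D.z⁻¹ * x'⁻¹ * a⁻¹ = a * x' * x * x'⁻¹ * a⁻¹ := by group
        rw [this]
        exact key a ha x' hx'
    · apply not_dvd_sup Nat.prime_two hn
      · rw [← even_iff_two_dvd, Nat.not_even_iff_odd]
        exact card_odd_of_pGroup hp (isPGroup_XX D (p := p))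
      · exact OO_odd _
  exact le_sup_left.trans h1

/-- elements of odd order of `C(P⁻)` lie in `O(C(P⁻))` -/
theorem odd_MN (hp : Odd p) (h2 : (2 : F) ≠ 0) (H : Hyp D) {x : G} (hx : x ∈ MN D) (ho : Odd (orderOf x)) :
    x ∈ OO (MN D) := by
  obtain ⟨a, ha, x', hx', h | h⟩ := MN_decomp hns h2 H hx
  · rw [h]
    exact mul_mem ha (XX_OON hns hp h2 H hx')
  · apply mem_of_sq_mem ho
    have hb : a * x' ∈ OO (MN D) := mul_mem ha (XX_OON hns hp h2 H hx')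
    have : x * x = (a * x') * (D.z * (a * x') * D.z⁻¹) * (D.z * D.z) := by rw [h]; group
    rw [this, zz, mul_one]
    exact mul_mem hb (mul_mem_OO z_MN hb)

theorem gX_OON (hp : Odd p) (h2 : (2 : F) ≠ 0) (H : Hyp D) (I : Inp p D g) : gX D g ≤ OO (MN D) := by
  intro y hy
  apply odd_MN hns hp h2 H _ (odd_of_pGroup hp (isPGroup_gX (p := p)) hy)
  have h1 : XX D ⊔ YY D g ≤ MN D := by
    apply sup_le XX_MN
    intro y hy
    exact mem_MN.2 fun a ha => mem_MX.1 (YY_MX hp h2 H I hy) a (PN_le D ha)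
  exact h1 (gX_le_W h2 I hy)

theorem w_MN_norm {m : G} (hm : m ∈ MN D) : D.w * m * D.w⁻¹ ∈ MN D := by
  rw [mem_MN] at hm ⊢
  intro a ha
  have h1 : D.w⁻¹ * a * D.w = a⁻¹ := by
    have := w_PN D ha
    rw [w_inv] at this
    rw [w_inv]; exact this
  calc D.w * m * D.w⁻¹ * a = D.w * (m * (D.w⁻¹ * a * D.w)) * D.w⁻¹ := by group
    _ = D.w * (a⁻¹ * m) * D.w⁻¹ := by rw [h1, hm _ (inv_mem ha)]
    _ = (D.w * a⁻¹ * D.w⁻¹) * (D.w * m * D.w⁻¹) := by group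
    _ = a * (D.w * m * D.w⁻¹) := by rw [w_PN D (inv_mem ha), inv_inv]

theorem VV_OON : ∀ b ∈ VV D, ∀ u ∈ OO (MN D), b * u * b⁻¹ ∈ OO (MN D) := by
  apply VV_inv
  · exact fun u hu => mul_mem_OO z_MN hu
  · exact fun u hu => conj_OO (fun m hm => w_MN_norm hns hm) hu

theorem fix_PP_N (h2 : (2 : F) ≠ 0) (H : Hyp D) {c : G} (hc : c ∈ OO (MN D)) (hz : c * D.z = D.z * c)
    (hw : c * D.w = D.w * c) : c ∈ PP D :=
  mem_PP_of D h2 (odd_of_MN h2 hns H (mem_MN.1 (OO_le _ hc)) hz (odd_of_mem (odd_card_OO _) hc)) hw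

theorem exists_B (hp : Odd p) (h2 : (2 : F) ≠ 0) (H : Hyp D) (I : Inp p D g) :
    ∃ B, InvSyl p (VV D) (OO (MN D)) B ∧ XX D ≤ B ∧ gX D g ≤ B := by
  have hPV : ∀ b ∈ VV D, ∀ u ∈ PP D, b * u * b⁻¹ ∈ PP D := by
    apply VV_inv
    · intro u hu
      rwa [z_XX D (PP_le D hu), mul_inv_cancel_right]
    · intro u hu
      rwa [w_PP D hu, mul_inv_cancel_right]
  obtain ⟨B, hB, hPB⟩ := exists_InvSyl_ge (isPGroup_VV D) (odd_card_OO _) (VV_OON hns)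
    ((PP_le D).trans (XX_OON hns hp h2 H)) (isPGroup_PP D (p := p)) hPV
  have huniq : ∀ T, InvSyl p (VV D) (OO (MN D)) T → T = B := by
    intro T hT
    apply hB.unique (isPGroup_VV D) (odd_card_OO _) (VV_OON hns) hT
    intro c hc hcV s hs
    have h1 : c ∈ B := hPB (fix_PP_N hns h2 H hc (hcV _ (z_VV D)).symm (hcV _ (w_VV D)).symm)
    exact mul_mem (mul_mem h1 hs) (inv_mem h1)
  refine ⟨B, hB, ?_, ?_⟩
  · obtain ⟨T, hT, h⟩ := exists_InvSyl_ge (isPGroup_VV D) (odd_card_OO _) (VV_OON hns)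
      (XX_OON hns hp h2 H) (isPGroup_XX D (p := p)) VV_XX
    rwa [huniq T hT] at h
  · obtain ⟨T, hT, h⟩ := exists_InvSyl_ge (isPGroup_VV D) (odd_card_OO _) (VV_OON hns)
      (gX_OON hns hp h2 H I) (isPGroup_gX (p := p)) (VV_gX I)
    rwa [huniq T hT] at h

/-- elements of `B` commuting with `w` -/
theorem fix_w_B (hp : Odd p) (h2 : (2 : F) ≠ 0) (H : Hyp D) (I : Inp p D g) {B : Subgroup G}
    (hB : InvSyl p (VV D) (OO (MN D)) B) (hgB : gX D g ≤ B) {h : G} (hh : h ∈ B) (hw : h * D.w = D.w * h) :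
    h ∈ gX D g := by
  -- `R₁ = g⁻¹ C_B(w) g`
  let R : Subgroup G := (B ⊓ Subgroup.centralizer {D.w}).map (MulAut.conj g⁻¹).toMonoidHom
  have memR : ∀ {x : G}, x ∈ R ↔ g * x * g⁻¹ ∈ B ∧ (g * x * g⁻¹) * D.w = D.w * (g * x * g⁻¹) := by
    intro x
    constructor
    · rintro ⟨y, ⟨hy, hyw⟩, rfl⟩
      change g * (g⁻¹ * y * g⁻¹⁻¹) * g⁻¹ ∈ B ∧ _
      have e : g * (g⁻¹ * y * g⁻¹⁻¹) * g⁻¹ = y := by group
      refine ⟨by rw [e]; exact hy, ?_⟩
      change g * (g⁻¹ * y * g⁻¹⁻¹) * g⁻¹ * D.w = D.w * (g * (g⁻¹ * y * g⁻¹⁻¹) * g⁻¹)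
      rw [e]
      exact Subgroup.mem_centralizer_singleton_iff.1 hyw
    · rintro ⟨h1, h3⟩
      refine ⟨g * x * g⁻¹, ⟨h1, Subgroup.mem_centralizer_singleton_iff.2 h3⟩, ?_⟩
      change g⁻¹ * (g * x * g⁻¹) * g⁻¹⁻¹ = x
      group
  have hRX : R ≤ XX D := by
    apply LnMax.le_XX hp h2 H
    · exact (hB.isPGroup.to_le inf_le_left).map _
    · intro r hr
      obtain ⟨-, h3⟩ := memR.1 hr
      have e : D.w = g * D.z * g⁻¹ := I.gz.symm
      rw [e] at h3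
      have h4 : g⁻¹ * (g * r * g⁻¹ * (g * D.z * g⁻¹)) * g = g⁻¹ * (g * D.z * g⁻¹ * (g * r * g⁻¹)) * g := by rw [h3]
      have e1 : g⁻¹ * (g * r * g⁻¹ * (g * D.z * g⁻¹)) * g = r * D.z := by group
      have e2 : g⁻¹ * (g * D.z * g⁻¹ * (g * r * g⁻¹)) * g = D.z * r := by group
      rwa [e1, e2] at h4
    · intro x hx
      refine memR.2 ⟨hgB (mem_gX.2 ⟨x, hx, rfl⟩), ?_⟩
      rw [← I.gz]
      calc g * x * g⁻¹ * (g * D.z * g⁻¹) = g * (x * D.z) * g⁻¹ := by group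
        _ = g * D.z * g⁻¹ * (g * x * g⁻¹) := by rw [← z_XX D hx]; group
    · intro r hr
      obtain ⟨h1, h3⟩ := memR.1 hr
      have e : g * (D.w * r * D.w⁻¹) * g⁻¹ = D.z * (g * r * g⁻¹) * D.z⁻¹ := by
        rw [← I.gw]; group
      refine memR.2 ⟨by rw [e]; exact hB.2 _ (z_VV D) _ h1, ?_⟩
      rw [e]
      have hwz : D.z⁻¹ * D.w = D.w * D.z⁻¹ := by
        rw [z_inv]; exact (wz D).symm
      calc D.z * (g * r * g⁻¹) * D.z⁻¹ * D.w = D.z * (g * r * g⁻¹) * (D.z⁻¹ * D.w) := by group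
        _ = D.z * ((g * r * g⁻¹) * D.w) * D.z⁻¹ := by rw [hwz]; group
        _ = (D.z * D.w) * (g * r * g⁻¹) * D.z⁻¹ := by rw [h3]; group
        _ = D.w * (D.z * (g * r * g⁻¹) * D.z⁻¹) := by rw [← wz]; group
    · intro r hr hrw
      obtain ⟨h1, h3⟩ := memR.1 hr
      have h4 : g * r * g⁻¹ * D.z = D.z * (g * r * g⁻¹) := by
        rw [← I.gw]
        calc g * r * g⁻¹ * (g * D.w * g⁻¹) = g * (r * D.w) * g⁻¹ := by group
          _ = g * D.w * g⁻¹ * (g * r * g⁻¹) := by rw [hrw]; group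
      have h5 := fix_PP_N hns h2 H (hB.le h1) h4 h3
      have h6 := gi_PP I h5
      have e : g⁻¹ * (g * r * g⁻¹) * g = r := by group
      rw [e] at h6
      exact PP_le D h6
  have h1 : g⁻¹ * h * g ∈ R := by
    refine memR.2 ?_
    have e : g * (g⁻¹ * h * g) * g⁻¹ = h := by group
    rw [e]
    exact ⟨hh, hw⟩
  exact mem_gX.2 ⟨_, hRX h1, by group⟩

theorem cen_N (hp : Odd p) (h2 : (2 : F) ≠ 0) (H : Hyp D) (I : Inp p D g) {R : Subgroup G} (hR : R ≤ MN D)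
    (hRp : IsPGroup p R) : Nat.card R ≤ Nat.card F ^ 3 := by
  obtain ⟨B, hB, hXB, hgB⟩ := exists_B hns hp h2 H I
  have h1 : R ≤ OO (MN D) := fun x hx => odd_MN hns hp h2 H (hR hx) (odd_of_pGroup hp hRp hx)
  have h3 := card_le_sylow hB h1 hRp
  have h4 : B ≤ XX D ⊔ YY D g := by
    apply Lib.KleinGen.le_of_klein B _ (card_odd_of_pGroup hp hB.isPGroup) D.z D.w (zz D) D.ww (wz D).symm
    · exact fun h hh => hB.2 _ (z_VV D) h hh
    · exact fun h hh => hB.2 _ (w_VV D) h hh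
    · rintro h ⟨hh, hc⟩
      exact Subgroup.mem_sup_left (odd_of_MN h2 hns H (mem_MN.1 (OO_le _ (hB.le hh)))
        (Subgroup.mem_centralizer_singleton_iff.1 hc) (odd_of_pGroup hp hB.isPGroup hh))
    · rintro h ⟨hh, hc⟩
      exact gX_le_W h2 I (fix_w_B hns hp h2 H I hB hgB hh (Subgroup.mem_centralizer_singleton_iff.1 hc))
    · rintro h ⟨hh, hc⟩
      have h5 := comm_of_u I hB.isPGroup (fun a ha => hB.2 _ (z_VV D) a ha) hh
        (Subgroup.mem_centralizer_singleton_iff.1 hc).symm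
      exact Subgroup.mem_sup_left (PP_le D (fix_PP_N hns h2 H (hB.le hh) h5.1 h5.2))
  have h5 : Nat.card B ≤ Nat.card (XX D ⊔ YY D g : Subgroup G) :=
    Nat.le_of_dvd Nat.card_pos (Subgroup.card_dvd_of_le h4)
  exact h3.trans (h5.trans (card_W hp h2 H I))

end cen

/-! ### The final statement -/

/-- `h₂(b) x₂(t) h₂(b)⁻¹ = x₂(b² t)` -/
theorem hx_ux (b : Fˣ) (t : F) : hx b * ux t * (hx b)⁻¹ = ux (b * b * t) := by
  rw [mul_inv_eq_iff_eq_mul]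
  apply LnSL.ext2
  · rw [LnSL.mul00, LnSL.mul00]; simp
  · rw [LnSL.mul01, LnSL.mul01]
    simp only [LnSL.ux00, LnSL.ux01, LnSL.ux11, LnSL.hx00, LnSL.hx01, LnSL.hx11]
    have hb : (b : F) * ((b⁻¹ : Fˣ) : F) = 1 := b.mul_inv
    linear_combination -(b : F) * t * hb
  · rw [LnSL.mul10, LnSL.mul10]; simp
  · rw [LnSL.mul11, LnSL.mul11]; simp

theorem hx2_xx (b : Fˣ) (s t : F) : D.φ₂ (hx b) * xx D s t * (D.φ₂ (hx b))⁻¹ = xx D s (b * b * t) := by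
  unfold xx
  rw [← mul_assoc, ← D.comm, ← hx_ux, map_mul, map_mul, map_inv]
  group

theorem line (hp : Odd p) (h2 : (2 : F) ≠ 0) (H : Hyp D) (I : Inp p D g) : Line p D (YY D g) where
  card := by rw [YY, Subgroup.card_map_of_injective (MulAut.conj g).injective, card_PN D h2]
  exp := by
    intro y hy
    obtain ⟨r, hr, rfl⟩ := mem_YY.1 hy
    rw [conj_pow, pow_XX D (PN_le D hr)]; group
  inv := by
    intro y hy
    have := z_YY I hy
    rwa [z_inv] at this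
  w := fun y hy => w_YY I hy
  x := by
    intro y hy t
    rw [x2]
    exact mem_MX.1 (YY_MX hp h2 H I hy) _ ⟨0, t, rfl⟩
  h := by
    intro b y hy
    refine norm_YY hp h2 H I (z_comm₂ D _).symm ?_ hy
    rintro _ ⟨s, t, rfl⟩
    rw [hx2_xx]
    exact ⟨s, _, rfl⟩
  conj := by
    refine ⟨g, fun x => ?_⟩
    rw [mem_YY]
    constructor
    · rintro ⟨_, ⟨t, rfl⟩, rfl⟩; exact ⟨t, rfl⟩
    · rintro ⟨t, rfl⟩; exact ⟨_, ⟨t, rfl⟩, rfl⟩
  norm := by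
    intro f hfz hfw hf y hy
    refine norm_YY hp h2 H I hfz (fun x hx => norm_XX hp h2 H I hfz hfw ?_ hx) hy
    rintro _ ⟨t, rfl⟩
    obtain ⟨s, hs⟩ := hf t
    exact ⟨s, hs⟩
  cen := by
    intro A hA hAY
    -- conjugate into `C(P⁻)`
    have hR : ∀ a ∈ A, g⁻¹ * a * g ∈ MN D := by
      intro a ha
      rw [mem_MN]
      intro r hr
      have h1 := hAY a ha _ (mem_YY.2 ⟨r, hr, rfl⟩)
      calc g⁻¹ * a * g * r = g⁻¹ * (a * (g * r * g⁻¹)) * g := by group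
        _ = r * (g⁻¹ * a * g) := by rw [h1]; group
    by_cases hns : ∀ r : F, r * r ≠ -1
    · have h1 := cen_N hns hp h2 H I (R := A.map (MulAut.conj g⁻¹).toMonoidHom) ?_ (hA.map _)
      · rwa [Subgroup.card_map_of_injective (MulAut.conj g⁻¹).injective] at h1
      · rintro _ ⟨a, ha, rfl⟩
        change g⁻¹ * a * g⁻¹⁻¹ ∈ _
        rw [inv_inv]
        exact hR a ha
    · push_neg at hns
      obtain ⟨i, hi⟩ := hns
      have hi0 : i ≠ 0 := by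
        rintro rfl
        rw [mul_zero] at hi
        exact one_ne_zero (neg_eq_zero.1 hi.symm)
      -- `τ = h₂(i)` maps `P` to `P⁻`
      have hτ : ∀ t, D.φ₂ (hx (Units.mk0 i hi0)) * xx D t t * (D.φ₂ (hx (Units.mk0 i hi0)))⁻¹ = xx D t (-t) := by
        intro t
        rw [hx2_xx, Units.val_mk0, hi, neg_one_mul]
      set τ := D.φ₂ (hx (Units.mk0 i hi0)) with hτdef
      have h1 := cen_P hp h2 H I (R := A.map (MulAut.conj (τ⁻¹ * g⁻¹)).toMonoidHom) ?_ (hA.map _)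
      · rwa [Subgroup.card_map_of_injective (MulAut.conj (τ⁻¹ * g⁻¹)).injective] at h1
      · rintro _ ⟨a, ha, rfl⟩
        change τ⁻¹ * g⁻¹ * a * (τ⁻¹ * g⁻¹)⁻¹ ∈ _
        rw [mem_MP]
        rintro _ ⟨t, rfl⟩
        have h3 := mem_MN.1 (hR a ha) _ ⟨t, rfl⟩
        rw [← hτ t] at h3
        calc τ⁻¹ * g⁻¹ * a * (τ⁻¹ * g⁻¹)⁻¹ * xx D t t = τ⁻¹ * (g⁻¹ * a * g * (τ * xx D t t * τ⁻¹)) * τ := by group
          _ = xx D t t * (τ⁻¹ * g⁻¹ * a * (τ⁻¹ * g⁻¹)⁻¹) := by rw [h3]; group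

end Cfsg.Agent.SpFourOdd.LnLine
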