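import Cfsg.Agent.SpFourOdd.PairFacts
import Cfsg.Agent.StandardComponent.AltFinal

/-!
# Fusion of involutions in a simple group with a pair

`Weak D`: involutions of the centralizer of `z`, `z` not conjugate to `zw` nor to `φ₁ a φ₂ b` (`a² = b² = -1`).  In a finite simple group
every involution is conjugate to `z` or to `zw`, and `z` is conjugate to `w`.
-/

set_option autoImplicit false

namespace Cfsg.Agent.SpFourOdd.Closing

section

variable {G F : Type*} [Group G] [Field F] (D : Pair G F)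

variable {D}

theorem isConj_conj {x y g : G} (h : x = g * y * g⁻¹) : IsConj y x := isConj_iff.mpr ⟨g, h.symm⟩

/-- an involution of `C(z)` conjugate to `z` and different from `z` is conjugate to `w` under `L₁` -/
theorem z_type (W : Weak D) (h2 : (2 : F) ≠ 0) {y : G} (hyz : y * D.z = D.z * y) (hne : y ≠ D.z)
    (hconj : IsConj D.z y) : ∃ a, y = D.φ₁ a * D.w * (D.φ₁ a)⁻¹ := by
  have hyy : y * y = 1 := by
    obtain ⟨g, hg⟩ := isConj_iff.mp hconj
    rw [← hg]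
    have : g * D.z * g⁻¹ * (g * D.z * g⁻¹) = g * (D.z * D.z) * g⁻¹ := by group
    rw [this, zz, mul_one, mul_inv_cancel]
  have hy1 : y ≠ 1 := by
    rintro rfl
    obtain ⟨g, hg⟩ := isConj_iff.mp hconj
    apply z_ne D h2
    have : D.z = g⁻¹ * (g * D.z * g⁻¹) * g := by group
    rw [this, hg]
    group
  rcases invol_form D h2 (W.inv y hyz hyy) hyy with h | h | ⟨a, b, ha, hb, h⟩ | ⟨a, h⟩ | ⟨a, h⟩
  · exact absurd h hy1
  · exact absurd h hne
  · exact absurd (h ▸ hconj) (W.zk a b ha hb)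
  · exact ⟨a, h⟩
  · exact absurd (hconj.trans (isConj_conj h).symm) W.zu

/-- `z` is central in a Sylow 2-subgroup -/
theorem exists_sylow [Finite G] [Finite F] (W : Weak D) (h2 : (2 : F) ≠ 0) :
    ∃ P : Sylow 2 G, ∀ x ∈ P, x * D.z = D.z * x := by
  classical
  have : Fact (Nat.Prime 2) := ⟨Nat.prime_two⟩
  set C : Subgroup G := Subgroup.centralizer {D.z} with hC
  have memC : ∀ x, x ∈ C ↔ x * D.z = D.z * x := by
    intro x
    rw [hC, Subgroup.mem_centralizer_singleton_iff]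
  -- a Sylow 2-subgroup of `C(z)`
  obtain ⟨i, j, hi, hj, hij⟩ := exists_pair h2
  let S₀ : Sylow 2 C := default
  have hS : IsPGroup 2 ((S₀ : Subgroup C).map C.subtype) := S₀.isPGroup'.map C.subtype
  obtain ⟨P, hP⟩ := hS.exists_le_sylow
  refine ⟨P, ?_⟩
  -- `z ∈ P`
  have hzC : D.z ∈ C := (memC _).mpr rfl
  have hzS : (⟨D.z, hzC⟩ : C) ∈ (S₀ : Subgroup C) := by
    have hn : (Subgroup.zpowers (⟨D.z, hzC⟩ : C)).Normal := by
      refine ⟨?_⟩
      rintro _ ⟨k, rfl⟩ g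
      refine ⟨k, ?_⟩
      have hg : Commute g (⟨D.z, hzC⟩ : C) := by
        apply Subtype.ext
        exact (memC _).mp g.2
      have := (hg.zpow_right k).eq
      simp only
      rw [this, mul_inv_cancel_right]
    have hp : IsPGroup 2 (Subgroup.zpowers (⟨D.z, hzC⟩ : C)) := by
      rw [IsPGroup.iff_card]
      rw [Nat.card_zpowers]
      have h1 : orderOf (⟨D.z, hzC⟩ : C) ∣ 2 := by
        apply orderOf_dvd_of_pow_eq_one
        rw [pow_two]
        exact Subtype.ext (zz D)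
      rcases (Nat.dvd_prime Nat.prime_two).mp h1 with h | h
      · exact ⟨0, by rw [h, pow_zero]⟩
      · exact ⟨1, by rw [h, pow_one]⟩
    exact hp.le_sylow_of_normal S₀ (Subgroup.mem_zpowers _)
  have hzP : D.z ∈ P := hP ⟨_, hzS, rfl⟩
  -- `P ∩ C(z) ≤ C(z)` is contained in `S₀`
  have hPC : ∀ x (hx : x ∈ C), x ∈ P → (⟨x, hx⟩ : C) ∈ (S₀ : Subgroup C) := by
    have h1 : IsPGroup 2 ((P : Subgroup G).comap C.subtype) :=
      P.isPGroup'.comap_of_injective C.subtype C.subtype_injective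
    have h3 : (S₀ : Subgroup C) ≤ (P : Subgroup G).comap C.subtype := by
      intro s hs
      exact hP ⟨s, hs, rfl⟩
    have h4 := S₀.is_maximal' h1 h3
    intro x hx hxP
    have : (⟨x, hx⟩ : C) ∈ (P : Subgroup G).comap C.subtype := hxP
    rw [h4] at this
    exact this
  by_contra hcon
  push Not at hcon
  obtain ⟨x₀, hx₀, hx₀z⟩ := hcon
  -- normalizer condition
  set H : Subgroup P := C.subgroupOf (P : Subgroup G) with hH
  have hHtop : H < ⊤ := by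
    rw [lt_top_iff_ne_top]
    intro h
    have : (⟨x₀, hx₀⟩ : P) ∈ H := by rw [h]; trivial
    exact hx₀z ((memC _).mp this)
  have hnil : Group.IsNilpotent P := P.isPGroup'.isNilpotent
  have hnorm := Group.normalizerCondition_of_isNilpotent H hHtop
  obtain ⟨n, hn, hnH⟩ := SetLike.exists_of_lt hnorm
  -- the conjugate `y = n z n⁻¹`
  have hzH : (⟨D.z, hzP⟩ : P) ∈ H := hzC
  have hy := (Subgroup.mem_normalizer_iff.mp hn _).mp hzH
  set y : G := (n : G) * D.z * (n : G)⁻¹ with hyd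
  have hyC : y ∈ C := hy
  have hyz := (memC _).mp hyC
  have hyne : y ≠ D.z := by
    intro h
    apply hnH
    change (n : G) ∈ C
    rw [memC]
    rw [hyd] at h
    exact mul_inv_eq_iff_eq_mul.mp h
  obtain ⟨a, ha⟩ := z_type W h2 hyz hyne (isConj_iff.mpr ⟨n, rfl⟩)
  -- `y` commutes with `P ∩ C(z)`
  have hcomm : ∀ s, s ∈ C → s ∈ P → y * s = s * y := by
    intro s hsC hsP
    have h1 : (⟨s, hsP⟩ : P) ∈ H := hsC
    have hn' : n⁻¹ ∈ Subgroup.normalizer (H : Set P) := inv_mem hn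
    have h3 := (Subgroup.mem_normalizer_iff.mp hn' _).mp h1
    rw [inv_inv] at h3
    have h4 : (n : G)⁻¹ * s * (n : G) ∈ C := h3
    rw [memC] at h4
    have h5 : y * s = (n : G) * (D.z * ((n : G)⁻¹ * s * (n : G))) * (n : G)⁻¹ := by rw [hyd]; group
    have h6 : s * y = (n : G) * (((n : G)⁻¹ * s * (n : G)) * D.z) * (n : G)⁻¹ := by rw [hyd]; group
    rw [h5, h6, h4]
  -- `φ₁ i` is conjugate in `C(z)` into `S₀`
  have hiC : D.φ₁ i ∈ C := (memC _).mpr (z_comm₁ D i).symm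
  have hip : IsPGroup 2 (Subgroup.zpowers (⟨D.φ₁ i, hiC⟩ : C)) := by
    rw [IsPGroup.iff_card]
    rw [Nat.card_zpowers]
    have h1 : orderOf (⟨D.φ₁ i, hiC⟩ : C) ∣ 2 ^ 2 := by
      apply orderOf_dvd_of_pow_eq_one
      apply Subtype.ext
      change D.φ₁ i ^ (2 ^ 2) = 1
      rw [← map_pow]
      have : i ^ 2 ^ 2 = (i * i) * (i * i) := by
        change i ^ 4 = _
        rw [pow_succ, pow_succ, pow_succ, pow_one]
        simp only [mul_assoc]
      rw [this, hi, neg_mul_neg, one_mul, map_one]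
    obtain ⟨k, _, hk⟩ := (Nat.dvd_prime_pow Nat.prime_two).mp h1
    exact ⟨k, hk⟩
  obtain ⟨Q, hQ⟩ := hip.exists_le_sylow
  obtain ⟨c, hc⟩ := MulAction.exists_smul_eq C Q S₀
  have hci : c * ⟨D.φ₁ i, hiC⟩ * c⁻¹ ∈ (S₀ : Subgroup C) := by
    rw [← hc, Sylow.coe_subgroup_smul]
    have : (⟨D.φ₁ i, hiC⟩ : C) ∈ (Q : Subgroup C) := hQ (Subgroup.mem_zpowers _)
    exact Subgroup.smul_mem_pointwise_smul (⟨D.φ₁ i, hiC⟩ : C) (MulAut.conj c) (Q : Subgroup C) this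
  have hciP : (c : G) * D.φ₁ i * (c : G)⁻¹ ∈ P := hP ⟨_, hci, rfl⟩
  have hciC : (c : G) * D.φ₁ i * (c : G)⁻¹ ∈ C := (c * ⟨D.φ₁ i, hiC⟩ * c⁻¹ : C).2
  have hfin := hcomm _ hciC hciP
  obtain ⟨i', hi'⟩ := W.nrm c ((memC _).mp c.2) i
  have hsq : (c : G) * D.φ₁ i * (c : G)⁻¹ * ((c : G) * D.φ₁ i * (c : G)⁻¹) = D.z := by
    have h3 : (c : G) * D.φ₁ i * (c : G)⁻¹ * ((c : G) * D.φ₁ i * (c : G)⁻¹) = c * (D.φ₁ i * D.φ₁ i) * (c : G)⁻¹ := by
      group
    rw [h3, ← map_mul, hi, D.z₁, (memC _).mp c.2, mul_inv_cancel_right]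
  rcases hi' with h8 | h8
  · rw [h8] at hsq
    have hi'2 : i' * i' = -1 := by
      apply inj₁ D
      rw [map_mul, hsq, D.z₁]
    rw [h8, ha] at hfin
    apply not_comm₁ D h2 (i := a⁻¹ * i' * a)
    · have : a⁻¹ * i' * a * (a⁻¹ * i' * a) = a⁻¹ * (i' * i') * a := by group
      rw [this, hi'2, mul_neg_one, neg_mul, inv_mul_cancel]
    · rw [map_mul, map_mul D.φ₁ a⁻¹, map_inv]
      have h9 : D.w * ((D.φ₁ a)⁻¹ * D.φ₁ i' * D.φ₁ a) =
        (D.φ₁ a)⁻¹ * (D.φ₁ a * D.w * (D.φ₁ a)⁻¹ * D.φ₁ i') * D.φ₁ a := by group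
      rw [h9, hfin]
      group
  · rw [h8] at hsq
    have hi'2 : i' * i' = -1 := by
      apply inj₂ D
      rw [map_mul, hsq, D.z₂]
    rw [h8, ha] at hfin
    apply not_comm₂ D h2 hi'2
    have h9 : D.w * D.φ₂ i' = (D.φ₁ a)⁻¹ * (D.φ₁ a * D.w * (D.φ₁ a)⁻¹ *
        (D.φ₁ a * D.φ₂ i' * (D.φ₁ a)⁻¹)) * D.φ₁ a := by group
    have h11 : D.φ₁ a * D.φ₂ i' * (D.φ₁ a)⁻¹ = D.φ₂ i' := by
      rw [D.comm, mul_inv_cancel_right]
    rw [h9, h11, hfin]
    have h12 : (D.φ₁ a)⁻¹ * (D.φ₂ i' * (D.φ₁ a * D.w * (D.φ₁ a)⁻¹)) * D.φ₁ a =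
      (D.φ₁ a)⁻¹ * (D.φ₂ i' * D.φ₁ a) * D.w := by group
    rw [h12, ← D.comm, inv_mul_cancel_left]

/-- every involution is conjugate into `C(z)` -/
theorem exists_conj_cent [Finite G] [Finite F] (W : Weak D) (h2 : (2 : F) ≠ 0) {t : G} (ht : t * t = 1) :
    ∃ g, g * t * g⁻¹ * D.z = D.z * (g * t * g⁻¹) := by
  have : Fact (Nat.Prime 2) := ⟨Nat.prime_two⟩
  obtain ⟨P, hP⟩ := exists_sylow W h2
  have htp : IsPGroup 2 (Subgroup.zpowers t) := by
    rw [IsPGroup.iff_card]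
    rw [Nat.card_zpowers]
    have h1 : orderOf t ∣ 2 := orderOf_dvd_of_pow_eq_one (by rw [pow_two, ht])
    rcases (Nat.dvd_prime Nat.prime_two).mp h1 with h | h
    · exact ⟨0, by rw [h, pow_zero]⟩
    · exact ⟨1, by rw [h, pow_one]⟩
  obtain ⟨Q, hQ⟩ := htp.exists_le_sylow
  obtain ⟨c, hc⟩ := MulAction.exists_smul_eq G Q P
  refine ⟨c, hP _ ?_⟩
  rw [← hc]
  have h3 : t ∈ (Q : Subgroup G) := hQ (Subgroup.mem_zpowers _)
  change c * t * c⁻¹ ∈ ((c • Q : Sylow 2 G) : Subgroup G)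
  rw [Sylow.coe_subgroup_smul]
  exact Subgroup.smul_mem_pointwise_smul t (MulAut.conj c) (Q : Subgroup G) h3

/-- the `z`-type involutions of `C(z) ∩ C(w)` -/
theorem z_type_zw (W : Weak D) (h2 : (2 : F) ≠ 0) {y : G} (hyz : y * D.z = D.z * y) (hyw : y * D.w = D.w * y)
    (hne : y ≠ D.z) (hne' : y ≠ D.w) (hconj : IsConj D.z y) : ∃ a, a * a = -1 ∧ y = D.z * D.w * kk D a := by
  obtain ⟨a, ha⟩ := z_type W h2 hyz hne hconj
  rw [conj_w] at ha
  have h1 : D.φ₁ a * D.φ₂ a⁻¹ * D.w = D.w * (D.φ₁ a * D.φ₂ a⁻¹) := by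
    rw [ha] at hyw
    rw [mul_assoc, D.ww, mul_one] at hyw
    have h3 : D.w * (D.φ₁ a * D.φ₂ a⁻¹) = D.w * (D.φ₁ a * D.φ₂ a⁻¹ * D.w) * D.w := by
      rw [mul_assoc, mul_assoc (D.φ₁ a * D.φ₂ a⁻¹), D.ww, mul_one]
    rw [h3, ← hyw]
  rw [w_form, mul_left_inj] at h1
  rcases (eq_iff D _ _ _ _).mp h1 with ⟨h3, -⟩ | ⟨-, h3⟩
  · exfalso
    apply hne'
    have haa : a * a = 1 := by
      have := mul_inv_cancel a
      rwa [← h3] at this
    rcases sq_one h2 haa with rfl | rfl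
    · rw [ha, inv_one, map_one, map_one, one_mul, one_mul]
    · have h5 : (-1 : SL2 F)⁻¹ = -1 := h3.symm
      rw [ha, h5, D.z₁, D.z₂, zz, one_mul]
  · have haa : a * a = -1 := by
      have := mul_inv_cancel a
      rw [h3, mul_neg] at this
      rw [← this, neg_neg]
    refine ⟨a, haa, ?_⟩
    rw [ha, h3, neg₂, mul_assoc D.z, kk_w]
    unfold kk
    have h3 : D.φ₁ a * (D.z * D.φ₂ a) * D.w = D.φ₁ a * D.z * (D.φ₂ a * D.w) := by group
    rw [h3, ← z_comm₁]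
    group

/-- in a nonabelian simple group `z` is conjugate to `w` -/
theorem z_conj_w [Finite G] [IsSimpleGroup G] (W : Weak D) (h2 : (2 : F) ≠ 0) : IsConj D.z D.w := by
  have hna : ¬ IsMulCommutative G := by
    intro h
    -- then `w φ₁ a = φ₂ a w` gives `φ₁ a = φ₂ a`
    have h1 := D.conj nx
    rw [h.is_comm.comm D.w, mul_assoc, D.ww, mul_one] at h1
    rcases eq₁₂ D h1 with h6 | h6
    · have := nx_sq (F := F)
      rw [h6.1, one_mul] at this
      exact neg_one_ne_one h2 this.symm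
    · have := nx_sq (F := F)
      rw [h6.1, neg_mul_neg, one_mul] at this
      exact neg_one_ne_one h2 this.symm
  have hz : orderOf D.z = 2 := orderOf_eq_prime (by rw [pow_two, zz]) (z_ne D h2)
  obtain ⟨g, hg1, hg2⟩ := StandardComponent.AltFinal.exists_conj hna hz
  obtain ⟨a, ha⟩ := z_type W h2 hg2 hg1 (isConj_iff.mpr ⟨g, rfl⟩)
  have h3 : IsConj D.z (g * D.z * g⁻¹) := isConj_iff.mpr ⟨g, rfl⟩
  exact h3.trans (isConj_conj ha).symm

/-- an element interchanging `z` and `w` -/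
theorem exists_swap [Finite F] (W : Weak D) (h2 : (2 : F) ≠ 0) (hzw : IsConj D.z D.w) :
    ∃ g, g * D.z * g⁻¹ = D.w ∧ g * D.w * g⁻¹ = D.z := by
  obtain ⟨g, hg⟩ := isConj_iff.mp hzw
  have h1 : g⁻¹ * D.z * g * D.z = D.z * (g⁻¹ * D.z * g) := by
    have h3 : g⁻¹ * D.z * g * D.z = g⁻¹ * (D.z * (g * D.z * g⁻¹)) * g := by group
    have h4 : D.z * (g⁻¹ * D.z * g) = g⁻¹ * ((g * D.z * g⁻¹) * D.z) * g := by group
    rw [h3, h4, hg, wz]
  have h3 : g⁻¹ * D.z * g ≠ D.z := by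
    intro h
    apply w_ne_z D h2
    rw [← hg]
    rw [mul_inv_eq_iff_eq_mul]
    rw [mul_assoc, inv_mul_eq_iff_eq_mul] at h
    exact h.symm
  obtain ⟨a, ha⟩ := z_type W h2 h1 h3 (isConj_iff.mpr ⟨g⁻¹, by rw [inv_inv]⟩)
  refine ⟨g * D.φ₁ a, ?_, ?_⟩
  · rw [mul_inv_rev]
    have : g * D.φ₁ a * D.z * ((D.φ₁ a)⁻¹ * g⁻¹) = g * (D.φ₁ a * D.z) * (D.φ₁ a)⁻¹ * g⁻¹ := by group
    rw [this, ← z_comm₁, mul_assoc g, mul_inv_cancel_right, hg]
  · have : g * D.φ₁ a * D.w * (g * D.φ₁ a)⁻¹ = g * (D.φ₁ a * D.w * (D.φ₁ a)⁻¹) * g⁻¹ := by group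
    rw [this, ← ha]
    group

/-- an element interchanging `z` and `w` permutes the involutions of `K₀` -/
theorem swap_kk [Finite F] (W : Weak D) (h2 : (2 : F) ≠ 0) {g : G} (hg1 : g * D.z * g⁻¹ = D.w)
    (hg2 : g * D.w * g⁻¹ = D.z) {k : SL2 F} (hkk : k * k = -1) : ∃ m, m * m = -1 ∧ g * kk D k * g⁻¹ = kk D m := by
  have hzw : IsConj D.z D.w := isConj_iff.mpr ⟨g, hg1⟩
  have hgu : g * (D.z * D.w) * g⁻¹ = D.z * D.w := by
    have : g * (D.z * D.w) * g⁻¹ = (g * D.z * g⁻¹) * (g * D.w * g⁻¹) := by group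
    rw [this, hg1, hg2, wz]
  have hkinv : k⁻¹ = -k := by
    rw [inv_eq_iff_mul_eq_one, mul_neg, hkk, neg_neg]
  -- `u k ~ z`
  have huk : D.z * D.w * kk D k = D.φ₁ k * D.w * (D.φ₁ k)⁻¹ := by
    rw [conj_w, hkinv, neg₂, mul_assoc D.z, kk_w]
    unfold kk
    have h3 : D.φ₁ k * (D.z * D.φ₂ k) * D.w = D.φ₁ k * D.z * (D.φ₂ k * D.w) := by group
    rw [h3, ← z_comm₁]
    group
  have huk' : IsConj D.z (g * (D.z * D.w * kk D k) * g⁻¹) :=
    (hzw.trans (isConj_conj huk)).trans (isConj_iff.mpr ⟨g, rfl⟩)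
  -- it commutes with `z` and `w`
  have hcz : ∀ x : G, x * D.w = D.w * x → g * x * g⁻¹ * D.z = D.z * (g * x * g⁻¹) := by
    intro x hx
    rw [← hg2]
    have h3 : g * x * g⁻¹ * (g * D.w * g⁻¹) = g * (x * D.w) * g⁻¹ := by group
    rw [h3, hx]
    group
  have hcw : ∀ x : G, x * D.z = D.z * x → g * x * g⁻¹ * D.w = D.w * (g * x * g⁻¹) := by
    intro x hx
    rw [← hg1]
    have h3 : g * x * g⁻¹ * (g * D.z * g⁻¹) = g * (x * D.z) * g⁻¹ := by group
    rw [h3, hx]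
    group
  have cu_w : D.z * D.w * kk D k * D.w = D.w * (D.z * D.w * kk D k) := by
    have e1 : D.w * (D.z * D.w * kk D k) = (D.w * D.z) * (D.w * kk D k) := by group
    rw [e1, wz, kk_w]
    have e2 : D.z * D.w * (kk D k * D.w) = D.z * D.w * kk D k * D.w := by group
    rw [e2]
  have cu_z : D.z * D.w * kk D k * D.z = D.z * (D.z * D.w * kk D k) := by
    have e1 : D.z * D.w * kk D k * D.z = D.z * D.w * (kk D k * D.z) := by group
    rw [e1, ← kk_z]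
    have e2 : D.z * D.w * (D.z * kk D k) = D.z * (D.w * D.z) * kk D k := by group
    rw [e2, wz]
    group
  -- `u k ≠ z, w`
  have kk_ne : ∀ m : SL2 F, m * m = -1 → kk D m ≠ 1 ∧ kk D m ≠ D.z := by
    intro m hm
    have hm1 : m ≠ 1 := by
      rintro rfl
      rw [one_mul] at hm
      exact neg_one_ne_one h2 hm.symm
    have hm2 : m ≠ -1 := by
      rintro rfl
      rw [neg_mul_neg, one_mul] at hm
      exact neg_one_ne_one h2 hm.symm
    constructor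
    · intro h
      rcases D.ker _ _ h with h7 | h7
      · exact hm1 h7.1
      · exact hm2 h7.1
    · intro h
      have h3 : D.φ₁ m * D.φ₂ m = D.φ₁ (-1) * D.φ₂ 1 := by
        rw [D.z₁, map_one, mul_one]
        exact h
      rcases (eq_iff D _ _ _ _).mp h3 with h7 | h7
      · exact hm1 h7.2
      · exact hm2 h7.2
  have hne1 : g * (D.z * D.w * kk D k) * g⁻¹ ≠ D.z := by
    intro h
    -- `u k = w`, `k = z`
    have h3 : D.z * D.w * kk D k = D.w := by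
      have e : D.z * D.w * kk D k = g⁻¹ * (g * (D.z * D.w * kk D k) * g⁻¹) * g := by group
      rw [e, h, ← hg2]
      group
    apply (kk_ne k hkk).2
    rw [← wz, mul_assoc] at h3
    have h5 : D.z * kk D k = 1 := mul_eq_left.mp h3
    rw [← mul_left_cancel_iff (a := D.z), h5, zz]
  have hne2 : g * (D.z * D.w * kk D k) * g⁻¹ ≠ D.w := by
    intro h
    have h3 : D.z * D.w * kk D k = D.z := by
      have e : D.z * D.w * kk D k = g⁻¹ * (g * (D.z * D.w * kk D k) * g⁻¹) * g := by group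
      rw [e, h, ← hg1]
      group
    rw [mul_assoc] at h3
    have h5 : D.w * kk D k = 1 := mul_eq_left.mp h3
    apply w_ne_form D h2 k k
    have h6 : D.w * (D.w * kk D k) = D.w := by rw [h5, mul_one]
    rw [← mul_assoc, D.ww, one_mul] at h6
    exact h6
  obtain ⟨m, hmm, hm⟩ := z_type_zw W h2 (hcz _ cu_w) (hcw _ cu_z) hne1 hne2 huk'
  refine ⟨m, hmm, ?_⟩
  have e : g * (D.z * D.w * kk D k) * g⁻¹ = (g * (D.z * D.w) * g⁻¹) * (g * kk D k * g⁻¹) := by group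
  rw [e, hgu] at hm
  exact mul_left_cancel hm
/-- the involutions `φ₁ a φ₂ b` are all conjugate to `zw` -/
theorem e_type [Finite F] (W : Weak D) (h2 : (2 : F) ≠ 0) (hzw : IsConj D.z D.w) {a b : SL2 F} (ha : a * a = -1)
    (hb : b * b = -1) : IsConj (D.z * D.w) (D.φ₁ a * D.φ₂ b) := by
  obtain ⟨g, hg1, hg2⟩ := exists_swap W h2 hzw
  set k : SL2 F := nx with hk
  have hkk : k * k = -1 := nx_sq
  have hkinv : k⁻¹ = -k := by
    rw [inv_eq_iff_mul_eq_one, mul_neg, hkk, neg_neg]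
  obtain ⟨m, hmm, hgk⟩ := swap_kk W h2 hg1 hg2 hkk
  -- `w k ~ u` and `w k ~ z m`
  have hwk : D.w * kk D k = D.φ₁ k * (D.z * D.w) * (D.φ₁ k)⁻¹ := by
    rw [conj_u, hkinv, neg_neg, kk_w]
    rfl
  have hgw : g * (D.w * kk D k) * g⁻¹ = D.φ₁ (-m) * D.φ₂ m := by
    have h3 : g * (D.w * kk D k) * g⁻¹ = (g * D.w * g⁻¹) * (g * kk D k * g⁻¹) := by group
    rw [h3, hg2, hgk, neg₁]
    unfold kk
    rw [mul_assoc]
  have h10 : IsConj (D.z * D.w) (D.φ₁ (-m) * D.φ₂ m) := by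
    refine (isConj_conj hwk).trans ?_
    exact isConj_iff.mpr ⟨g, hgw⟩
  refine h10.trans ?_
  obtain ⟨p, hp⟩ := conj_of_sq h2 (a := -m) (b := a) (by rw [neg_mul_neg, hmm]) ha
  obtain ⟨q, hq⟩ := conj_of_sq h2 hmm hb
  refine isConj_iff.mpr ⟨D.φ₁ p * D.φ₂ q, ?_⟩
  rw [inv_form, mul_form, mul_form, hp, hq]

/-- **Fusion.**  If `z ~ w` then every involution is conjugate to `z` or `zw`. -/
theorem two_classes [Finite G] [Finite F] (W : Weak D) (h2 : (2 : F) ≠ 0) (hzw : IsConj D.z D.w) {t : G}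
    (ht : t * t = 1) (ht1 : t ≠ 1) : IsConj D.z t ∨ IsConj (D.z * D.w) t := by
  obtain ⟨g, hg⟩ := exists_conj_cent W h2 ht
  have h1 : IsConj (g * t * g⁻¹) t := isConj_iff.mpr ⟨g⁻¹, by group⟩
  have h3 : g * t * g⁻¹ * (g * t * g⁻¹) = 1 := by
    have : g * t * g⁻¹ * (g * t * g⁻¹) = g * (t * t) * g⁻¹ := by group
    rw [this, ht, mul_one, mul_inv_cancel]
  rcases invol_form D h2 (W.inv _ hg h3) h3 with h | h | ⟨a, b, ha, hb, h⟩ | ⟨a, h⟩ | ⟨a, h⟩
  · exact absurd (mul_inv_eq_one.mp h) (fun h4 => ht1 (by simpa using h4))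
  · left
    rwa [h] at h1
  · right
    rw [h] at h1
    exact (e_type W h2 hzw ha hb).trans h1
  · left
    exact (hzw.trans (isConj_conj h)).trans h1
  · right
    exact (isConj_conj h).trans h1

end

end Cfsg.Agent.SpFourOdd.Closing
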