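import Cfsg.Agent.SpFourOdd.Field
import Cfsg.Agent.SpFourOdd.Fusion
import Cfsg.Agent.SpFourOdd.LnSL

/-!
# [L1] The element swapping `z` and `w` can be chosen to normalise `P = {φ₁ (ux t) φ₂ (ux t)}`

`exists_swap_P`: `∃ g, g z g⁻¹ = w ∧ g w g⁻¹ = z ∧ ∀ t, ∃ s, g (kk (ux t)) g⁻¹ = kk (ux s)`.
-/

set_option autoImplicit false

namespace Cfsg.Agent.SpFourOdd.LnSwap

open Matrix Cfsg.Agent.SpFourOdd.Closing

section SL

variable {F : Type*} [Field F]

theorem hx_ux (b : Fˣ) (s : F) : (hx b * ux s * (hx b)⁻¹ : SL2 F) = ux ((b : F) * b * s) := by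
  rw [mul_inv_eq_iff_eq_mul]
  have hb : (b : F) * ((b⁻¹ : Fˣ) : F) = 1 := b.mul_inv
  apply LnSL.ext2
  · simp [LnSL.mul00]
  · simp only [LnSL.mul01, LnSL.hx00, LnSL.hx01, LnSL.ux00, LnSL.ux01, LnSL.ux11, LnSL.hx11]
    linear_combination (-(b : F) * s) * hb
  · simp [LnSL.mul10]
  · simp [LnSL.mul11]

/-- `ux t` is a commutator as soon as some unit has square `≠ 1` -/
theorem ux_eq_comm {b : Fˣ} (hb : (b : F) * b ≠ 1) (t : F) :
    (ux t : SL2 F) = hx b * ux (t / ((b : F) * b - 1)) * (hx b)⁻¹ * (ux (t / ((b : F) * b - 1)))⁻¹ := by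
  have hb' : (b : F) * b - 1 ≠ 0 := sub_ne_zero.mpr hb
  have hs : t / ((b : F) * b - 1) * ((b : F) * b - 1) = t := div_mul_cancel₀ _ hb'
  rw [hx_ux, eq_mul_inv_iff_mul_eq, ← LnSL.ux_add]
  congr 1
  linear_combination -hs

theorem sq_zero_of_pow {p : ℕ} [Fact p.Prime] [CharP F p] {e : SL2 F} (he : e ^ p = 1) :
    ((e : Matrix (Fin 2) (Fin 2) F) - 1) * ((e : Matrix (Fin 2) (Fin 2) F) - 1) = 0 := by
  have : CharP (Matrix (Fin 2) (Fin 2) F) p := inferInstance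
  have hN : IsNilpotent ((e : Matrix (Fin 2) (Fin 2) F) - 1) := by
    refine ⟨p, ?_⟩
    rw [sub_pow_char_of_commute _ (Commute.one_right _), one_pow]
    have : (e : Matrix (Fin 2) (Fin 2) F) ^ p = 1 := by
      rw [← Matrix.SpecialLinearGroup.coe_pow, he]
      rfl
    rw [this, sub_self]
  obtain ⟨N, hNe⟩ : ∃ N, N = (e : Matrix (Fin 2) (Fin 2) F) - 1 := ⟨_, rfl⟩
  rw [← hNe] at hN ⊢
  have htr : N.trace = 0 := isNilpotent_iff_eq_zero.1 (Matrix.isNilpotent_trace_of_isNilpotent hN)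
  have hdet : N.det = 0 := by
    obtain ⟨m, hm⟩ := hN
    have hm0 : m ≠ 0 := by
      rintro rfl
      rw [pow_zero] at hm
      exact one_ne_zero hm
    have : N.det ^ m = 0 := by
      rw [← Matrix.det_pow, hm, Matrix.det_zero]
    exact (pow_eq_zero_iff hm0).1 this
  rw [Matrix.trace_fin_two] at htr
  rw [Matrix.det_fin_two] at hdet
  ext i j
  fin_cases i <;> fin_cases j <;> simp only [Matrix.mul_apply, Fin.sum_univ_two, Matrix.zero_apply, Fin.isValue,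
    Fin.zero_eta, Fin.mk_one]
  · linear_combination N 0 0 * htr - hdet
  · linear_combination N 0 1 * htr
  · linear_combination N 1 0 * htr
  · linear_combination N 1 1 * htr - hdet

/-- a matrix `e` with `e ^ p = 1` is conjugate to some `ux s` -/
theorem conj_ux {p : ℕ} [Fact p.Prime] [CharP F p] {e : SL2 F} (he : e ^ p = 1) :
    ∃ (h : SL2 F) (s : F), h * e * h⁻¹ = ux s := by
  have h0 := sq_zero_of_pow (F := F) he
  obtain ⟨a, ha⟩ : ∃ x, e 0 0 = x := ⟨_, rfl⟩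
  obtain ⟨b, hb⟩ : ∃ x, e 0 1 = x := ⟨_, rfl⟩
  obtain ⟨c, hc⟩ : ∃ x, e 1 0 = x := ⟨_, rfl⟩
  obtain ⟨d, hd⟩ : ∃ x, e 1 1 = x := ⟨_, rfl⟩
  have hdet := LnSL.det_eq e
  rw [ha, hb, hc, hd] at hdet
  have e00 := congrFun (congrFun h0 0) 0
  have e10 := congrFun (congrFun h0 1) 0
  have e11 := congrFun (congrFun h0 1) 1
  have i00 : (e : Matrix (Fin 2) (Fin 2) F) 0 0 = a := ha
  have i01 : (e : Matrix (Fin 2) (Fin 2) F) 0 1 = b := hb
  have i10 : (e : Matrix (Fin 2) (Fin 2) F) 1 0 = c := hc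
  have i11 : (e : Matrix (Fin 2) (Fin 2) F) 1 1 = d := hd
  have o00 : (1 : Matrix (Fin 2) (Fin 2) F) 0 0 = 1 := rfl
  have o01 : (1 : Matrix (Fin 2) (Fin 2) F) 0 1 = 0 := rfl
  have o10 : (1 : Matrix (Fin 2) (Fin 2) F) 1 0 = 0 := rfl
  have o11 : (1 : Matrix (Fin 2) (Fin 2) F) 1 1 = 1 := rfl
  simp only [Matrix.mul_apply, Fin.sum_univ_two, Matrix.sub_apply, i00, i01, i10, i11, o00, o01, o10, o11,
    Matrix.zero_apply] at e00 e10 e11
  by_cases hc0 : c = 0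
  · refine ⟨1, b, ?_⟩
    rw [one_mul, inv_one, mul_one]
    rw [hc0] at e00 e11
    have h1 : (a - 1) * (a - 1) = 0 := by linear_combination e00
    have h3 : (d - 1) * (d - 1) = 0 := by linear_combination e11
    apply LnSL.ext2
    · rw [ha, LnSL.ux00]; exact sub_eq_zero.mp (mul_self_eq_zero.mp h1)
    · rw [hb]; rfl
    · rw [hc, hc0]; rfl
    · rw [hd, LnSL.ux11]; exact sub_eq_zero.mp (mul_self_eq_zero.mp h3)
  · have htr : a + d = 2 := by
      have : c * (a + d - 2) = 0 := by linear_combination e10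
      have := (mul_eq_zero.mp this).resolve_left hc0
      linear_combination this
    have hcc : c⁻¹ * c = 1 := inv_mul_cancel₀ hc0
    refine ⟨mk 0 (-c⁻¹) c (d - 1) (by linear_combination hcc), -c⁻¹, ?_⟩
    rw [mul_inv_eq_iff_eq_mul]
    have m00 : (mk 0 (-c⁻¹) c (d - 1) (by linear_combination hcc) : SL2 F) 0 0 = 0 := rfl
    have m01 : (mk 0 (-c⁻¹) c (d - 1) (by linear_combination hcc) : SL2 F) 0 1 = -c⁻¹ := rfl
    have m10 : (mk 0 (-c⁻¹) c (d - 1) (by linear_combination hcc) : SL2 F) 1 0 = c := rfl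
    have m11 : (mk 0 (-c⁻¹) c (d - 1) (by linear_combination hcc) : SL2 F) 1 1 = d - 1 := rfl
    apply LnSL.ext2
    · rw [LnSL.mul00, LnSL.mul00, m00, m01, m10, LnSL.ux00, LnSL.ux01, ha, hc]
      ring
    · rw [LnSL.mul01, LnSL.mul01, m00, m01, m11, LnSL.ux00, LnSL.ux01, hb, hd]
      ring
    · rw [LnSL.mul10, LnSL.mul10, m00, m10, m11, LnSL.ux10, LnSL.ux11, ha, hc]
      linear_combination c * htr
    · rw [LnSL.mul11, LnSL.mul11, m01, m10, m11, LnSL.ux10, LnSL.ux11, hb, hd]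
      linear_combination (-1 : F) * hdet + d * htr

/-- all field automorphisms of a finite field commute -/
theorem aut_comm [Finite F] (σ τ : F ≃+* F) (x : F) : σ (τ x) = τ (σ x) := by
  obtain ⟨m, hm⟩ := (Units.map ((σ : F →+* F) : F →* F)).map_cyclic
  obtain ⟨n, hn⟩ := (Units.map ((τ : F →+* F) : F →* F)).map_cyclic
  by_cases hx : x = 0
  · rw [hx, map_zero, map_zero, map_zero]
  · have h1 : ∀ v : Fˣ, σ (v : F) = ((v ^ m : Fˣ) : F) := fun v => by rw [← hm v]; rfl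
    have h3 : ∀ v : Fˣ, τ (v : F) = ((v ^ n : Fˣ) : F) := fun v => by rw [← hn v]; rfl
    have hxu : x = ((Units.mk0 x hx : Fˣ) : F) := rfl
    rw [hxu, h3, h1, h1, h3, ← _root_.zpow_mul, ← _root_.zpow_mul, mul_comm]

theorem map_comm' [Finite F] (σ τ : F ≃+* F) (x : SL2 F) :
    SpecialLinearGroup.map (σ : F →+* F) (SpecialLinearGroup.map (τ : F →+* F) x) =
      SpecialLinearGroup.map (τ : F →+* F) (SpecialLinearGroup.map (σ : F →+* F) x) := by
  apply ent_ext <;> exact aut_comm σ τ _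

end SL

section

variable {G F : Type*} [Group G] [Field F] {D : Pair G F}

theorem cw_inv {d : G} (h : d * D.w = D.w * d) : d⁻¹ * D.w = D.w * d⁻¹ := by
  rw [inv_mul_eq_iff_eq_mul, ← mul_assoc, h, mul_assoc, mul_inv_cancel, mul_one]

/-- elements of `C(z) ∩ C(w)` act in the same way on both factors -/
theorem cent_zw (hc : CentF D) {c : G} (hcz : c * D.z = D.z * c) (hcw : c * D.w = D.w * c) :
    ∃ (d : G) (σ : F ≃+* F) (a : SL2 F), (c = d ∨ c = d * D.w) ∧ Odd (orderOf σ) ∧ d * D.w = D.w * d ∧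
      (∀ x, d * D.φ₁ x * d⁻¹ = D.φ₁ (a * SpecialLinearGroup.map (σ : F →+* F) x * a⁻¹)) ∧
      (∀ x, d * D.φ₂ x * d⁻¹ = D.φ₂ (a * SpecialLinearGroup.map (σ : F →+* F) x * a⁻¹)) := by
  obtain ⟨d, σ, a, b, hcd, hodd, h₁, h₂⟩ := hc c hcz
  have hdw : d * D.w = D.w * d := by
    rcases hcd with rfl | rfl
    · exact hcw
    · have h3 : d * D.w * D.w = D.w * (d * D.w) := hcw
      rw [mul_assoc, D.ww, mul_one] at h3
      calc d * D.w = D.w * (d * D.w) * D.w := by rw [← h3]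
        _ = D.w * d * (D.w * D.w) := by group
        _ = D.w * d := by rw [D.ww, mul_one]
  refine ⟨d, σ, a, hcd, hodd, hdw, h₁, ?_⟩
  intro x
  have e : d * D.φ₂ x * d⁻¹ = D.w * (d * D.φ₁ x * d⁻¹) * D.w := by
    rw [← D.conj x]
    calc d * (D.w * D.φ₁ x * D.w) * d⁻¹ = (d * D.w) * D.φ₁ x * (D.w * d⁻¹) := by group
      _ = (D.w * d) * D.φ₁ x * (d⁻¹ * D.w) := by rw [hdw, cw_inv hdw]
      _ = _ := by group
  rw [e, h₁, D.conj]

/-- the commutator of two elements of `C(z) ∩ C(w)` lies in `⟨z⟩ K₀` -/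
theorem comm_mem [Finite F] (hc : CentF D) (h0 : Cent0 D) {c c' : G} (hcz : c * D.z = D.z * c)
    (hcw : c * D.w = D.w * c) (hcz' : c' * D.z = D.z * c') (hcw' : c' * D.w = D.w * c') :
    ∃ e, c * c' * c⁻¹ * c'⁻¹ = kk D e ∨ c * c' * c⁻¹ * c'⁻¹ = D.z * kk D e := by
  obtain ⟨d, σ, a, hcd, -, hdw, h₁, h₂⟩ := cent_zw hc hcz hcw
  obtain ⟨d', σ', a', hcd', -, hdw', h₁', h₂'⟩ := cent_zw hc hcz' hcw'
  have hw : D.w⁻¹ = D.w := w_inv D
  have hdi := cw_inv hdw
  have hdi' := cw_inv hdw'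
  -- the commutator is that of `d` and `d'`
  have hcomm : c * c' * c⁻¹ * c'⁻¹ = d * d' * d⁻¹ * d'⁻¹ := by
    have key : ∀ x y : G, x * D.w = D.w * x → y * D.w = D.w * y → x⁻¹ * D.w = D.w * x⁻¹ →
        y⁻¹ * D.w = D.w * y⁻¹ → x * D.w * y * (x * D.w)⁻¹ * y⁻¹ = x * y * x⁻¹ * y⁻¹ := by
      intro x y hx hy hx' hy'
      rw [_root_.mul_inv_rev, hw]
      calc x * D.w * y * (D.w * x⁻¹) * y⁻¹ = x * (D.w * y) * D.w * x⁻¹ * y⁻¹ := by group
        _ = x * y * (D.w * D.w) * x⁻¹ * y⁻¹ := by rw [← hy]; group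
        _ = _ := by rw [D.ww, mul_one]
    have key' : ∀ x y : G, x * D.w = D.w * x → y * D.w = D.w * y → x⁻¹ * D.w = D.w * x⁻¹ →
        y⁻¹ * D.w = D.w * y⁻¹ → x * (y * D.w) * x⁻¹ * (y * D.w)⁻¹ = x * y * x⁻¹ * y⁻¹ := by
      intro x y hx hy hx' hy'
      rw [_root_.mul_inv_rev, hw]
      calc x * (y * D.w) * x⁻¹ * (D.w * y⁻¹) = x * y * D.w * (x⁻¹ * D.w) * y⁻¹ := by group
        _ = x * y * (D.w * D.w) * x⁻¹ * y⁻¹ := by rw [hx']; group
        _ = _ := by rw [D.ww, mul_one]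
    have hdw2 : d * D.w * D.w = D.w * (d * D.w) := by rw [← mul_assoc D.w, ← hdw]
    have hdw2' : (d * D.w)⁻¹ * D.w = D.w * (d * D.w)⁻¹ := cw_inv hdw2
    rcases hcd with rfl | rfl <;> rcases hcd' with rfl | rfl
    · rfl
    · exact key' _ _ hdw hdw' hdi hdi'
    · exact key _ _ hdw hdw' hdi hdi'
    · rw [key' _ _ hdw2 hdw' hdw2' hdi', key _ _ hdw hdw' hdi hdi']
  -- the actions
  have inv₁ : ∀ (d : G) (σ : F ≃+* F) (a : SL2 F) (φ : SL2 F →* G),
      (∀ x, d * φ x * d⁻¹ = φ (a * SpecialLinearGroup.map (σ : F →+* F) x * a⁻¹)) →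
      ∀ x, d⁻¹ * φ x * d = φ (SpecialLinearGroup.map (σ.symm : F →+* F) (a⁻¹ * x * a)) := by
    intro d σ a φ h x
    have h3 := h (SpecialLinearGroup.map (σ.symm : F →+* F) (a⁻¹ * x * a))
    have h4 : SpecialLinearGroup.map (σ : F →+* F) (SpecialLinearGroup.map (σ.symm : F →+* F) (a⁻¹ * x * a)) =
        a⁻¹ * x * a := by
      rw [map_map']
      have : σ.symm.trans σ = RingEquiv.refl F := by ext t; simp
      rw [this, map_refl]
    rw [h4] at h3
    have h5 : a * (a⁻¹ * x * a) * a⁻¹ = x := by group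
    rw [h5] at h3
    rw [← h3]
    group
  have symm_map : ∀ (σ : F ≃+* F) (x : SL2 F), SpecialLinearGroup.map (σ : F →+* F)
      (SpecialLinearGroup.map (σ.symm : F →+* F) x) = x := by
    intro σ x
    rw [map_map']
    have : σ.symm.trans σ = RingEquiv.refl F := by ext t; simp
    rw [this, map_refl]
  obtain ⟨e, he⟩ : ∃ e : SL2 F, ∀ (φ : SL2 F →* G),
      (∀ x, d * φ x * d⁻¹ = φ (a * SpecialLinearGroup.map (σ : F →+* F) x * a⁻¹)) →
      (∀ x, d' * φ x * d'⁻¹ = φ (a' * SpecialLinearGroup.map (σ' : F →+* F) x * a'⁻¹)) →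
      ∀ x, (d * d' * d⁻¹ * d'⁻¹) * φ x * (d * d' * d⁻¹ * d'⁻¹)⁻¹ = φ (e * x * e⁻¹) := by
    refine ⟨a * SpecialLinearGroup.map (σ : F →+* F) (a' * SpecialLinearGroup.map (σ' : F →+* F)
      (SpecialLinearGroup.map (σ.symm : F →+* F) (a⁻¹ * SpecialLinearGroup.map (σ'.symm : F →+* F) a'⁻¹))), ?_⟩
    intro φ h h' x
    have e1 : (d * d' * d⁻¹ * d'⁻¹) * φ x * (d * d' * d⁻¹ * d'⁻¹)⁻¹ =
        d * (d' * (d⁻¹ * (d'⁻¹ * φ x * d') * d) * d'⁻¹) * d⁻¹ := by group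
    rw [e1, inv₁ d' σ' a' φ h', inv₁ d σ a φ h, h', h]
    congr 1
    simp only [map_mul, map_inv]
    have c1 : SpecialLinearGroup.map (σ : F →+* F) (SpecialLinearGroup.map (σ' : F →+* F)
        (SpecialLinearGroup.map (σ.symm : F →+* F) (SpecialLinearGroup.map (σ'.symm : F →+* F) x))) = x := by
      rw [map_comm' σ σ', symm_map, symm_map]
    rw [c1]
    group
  rw [hcomm]
  refine ⟨e, ?_⟩
  rcases inner_mem h0 (he D.φ₁ h₁ h₁') (he D.φ₂ h₂ h₂') with h | h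
  · exact Or.inl h
  · right
    rw [h, neg₁, mul_assoc]
    rfl

theorem pow_odd_of_sq {x : G} (hx : x * x = 1) {p : ℕ} (hp : Odd p) : x ^ p = x := by
  obtain ⟨k, rfl⟩ := hp
  rw [pow_succ, pow_mul, pow_two, hx, one_pow, one_mul]

theorem kk_pow (a : SL2 F) (n : ℕ) : kk D a ^ n = kk D (a ^ n) := by
  induction n with
  | zero => rw [pow_zero, pow_zero, kk_one]
  | succ n ih => rw [pow_succ, ih, ← kk_mul, ← pow_succ]

theorem kk_eq_one {a : SL2 F} (h : kk D a = 1) : a = 1 ∨ a = -1 := by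
  rcases D.ker _ _ h with h | h
  · exact Or.inl h.1
  · exact Or.inr h.1

theorem kk_eq {a b : SL2 F} (h : kk D a = kk D b) : a = b ∨ a = -b := by
  rcases (eq_iff D _ _ _ _).mp h with h | h
  · exact Or.inl h.1
  · exact Or.inr h.1

/-- an element of `⟨z, w⟩ K₀` of odd order lies in `K₀` -/
theorem odd_mem [Finite F] (h2 : (2 : F) ≠ 0) {c : G} {a : SL2 F} {p : ℕ} (hp : Odd p)
    (hc : c = kk D a ∨ c = D.z * kk D a ∨ c = kk D a * D.w ∨ c = D.z * kk D a * D.w) (hcp : c ^ p = 1) :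
    ∃ e, c = kk D e ∧ e ^ p = 1 := by
  have hz1 : D.z ^ p = D.z := pow_odd_of_sq (zz D) hp
  have hw1 : D.w ^ p = D.w := pow_odd_of_sq D.ww hp
  have cz : Commute D.z (kk D a) := kk_z a
  have cw : Commute (kk D a) D.w := (kk_w a).symm
  have czw : Commute (D.z * kk D a) D.w := by
    have h1 : Commute D.z D.w := (wz D).symm
    exact h1.mul_left cw
  rcases hc with rfl | rfl | rfl | rfl
  · rw [kk_pow] at hcp
    rcases kk_eq_one hcp with h | h
    · exact ⟨a, rfl, h⟩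
    · exact ⟨-a, (kk_neg a).symm, by rw [hp.neg_pow, h, neg_neg]⟩
  · exfalso
    rw [cz.mul_pow, hz1, kk_pow] at hcp
    have h3 : D.φ₁ (-(a ^ p)) * D.φ₂ (a ^ p) = 1 := by
      rw [neg₁, mul_assoc]
      exact hcp
    rcases D.ker _ _ h3 with ⟨h4, h5⟩ | ⟨h4, h5⟩
    · rw [h5] at h4
      exact neg_one_ne_one h2 h4
    · rw [h5, neg_neg] at h4
      exact neg_one_ne_one h2 h4.symm
  · exfalso
    rw [cw.mul_pow, hw1, kk_pow] at hcp
    have h3 : kk D (a ^ p)⁻¹ = D.w := by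
      rw [kk_inv]
      exact inv_eq_of_mul_eq_one_right hcp
    exact w_ne_form D h2 _ _ h3
  · exfalso
    rw [czw.mul_pow, cz.mul_pow, hz1, hw1, kk_pow] at hcp
    have h3 : D.φ₁ (-(a ^ p)) * D.φ₂ (a ^ p) * D.w = 1 := by
      rw [neg₁, mul_assoc D.z]
      exact hcp
    have h4 : D.φ₁ (-(a ^ p))⁻¹ * D.φ₂ (a ^ p)⁻¹ = D.w := by
      rw [← inv_form]
      exact inv_eq_of_mul_eq_one_right h3
    exact w_ne_form D h2 _ _ h4

/-- **[L1]** There is an element swapping `z` and `w` and normalising `P = {φ₁ (ux t) φ₂ (ux t)}`. -/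
theorem exists_swap_P [Finite F] (h2 : (2 : F) ≠ 0) (hc : CentF D) (h0 : Cent0 D) (hzw : IsConj D.z D.w)
    (zu : ¬ IsConj D.z (D.z * D.w)) (zk : ∀ a b, a * a = -1 → b * b = -1 → ¬ IsConj D.z (D.φ₁ a * D.φ₂ b)) :
    ∃ g, g * D.z * g⁻¹ = D.w ∧ g * D.w * g⁻¹ = D.z ∧ ∀ t, ∃ s, g * kk D (ux t) * g⁻¹ = kk D (ux s) := by
  obtain ⟨p, hcp⟩ := CharP.exists F
  have hp : p.Prime := CharP.char_is_prime F p
  have : Fact p.Prime := ⟨hp⟩
  have hpo : Odd p := by
    rcases hp.eq_two_or_odd' with h | h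
    · exfalso
      apply h2
      have := CharP.cast_eq_zero F p
      rw [h] at this
      exact_mod_cast this
    · exact h
  have W : Weak D := weak_of_field hc h0 zu zk
  obtain ⟨g, hg1, hg2⟩ := exists_swap W h2 hzw
  -- `g` normalises `C(z) ∩ C(w)`
  have hcz : ∀ x : G, x * D.w = D.w * x → g * x * g⁻¹ * D.z = D.z * (g * x * g⁻¹) := by
    intro x hx
    rw [← hg2]
    have h3 : g * x * g⁻¹ * (g * D.w * g⁻¹) = g * (x * D.w) * g⁻¹ := by group
    rw [h3, hx]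
    group
  have hcw : ∀ x : G, x * D.z = D.z * x → g * x * g⁻¹ * D.w = D.w * (g * x * g⁻¹) := by
    intro x hx
    rw [← hg1]
    have h3 : g * x * g⁻¹ * (g * D.z * g⁻¹) = g * (x * D.z) * g⁻¹ := by group
    rw [h3, hx]
    group
  have ckz : ∀ a, g * kk D a * g⁻¹ * D.z = D.z * (g * kk D a * g⁻¹) := fun a => hcz _ (kk_w a).symm
  have ckw : ∀ a, g * kk D a * g⁻¹ * D.w = D.w * (g * kk D a * g⁻¹) := fun a => hcw _ (kk_z a).symm
  have hpow : ∀ t, (g * kk D (ux t) * g⁻¹) ^ p = 1 := by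
    intro t
    rw [conj_pow, kk_pow, LnSL.ux_pow, CharP.cast_eq_zero, zero_mul, LnSL.ux_zero, kk_one, mul_one, mul_inv_cancel]
  have key : ∀ t, ∃ e, g * kk D (ux t) * g⁻¹ = kk D e ∧ e ^ p = 1 := by
    intro t
    by_cases hb : ∃ b : Fˣ, (b : F) * b ≠ 1
    · obtain ⟨b, hb⟩ := hb
      have h1 := ux_eq_comm hb t
      have h3 : g * kk D (ux t) * g⁻¹ = (g * kk D (hx b) * g⁻¹) * (g * kk D (ux (t / ((b : F) * b - 1))) * g⁻¹) *
          (g * kk D (hx b) * g⁻¹)⁻¹ * (g * kk D (ux (t / ((b : F) * b - 1))) * g⁻¹)⁻¹ := by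
        conv_lhs => rw [h1]
        rw [kk_mul, kk_mul, kk_mul, kk_inv, kk_inv]
        group
      obtain ⟨e, he⟩ := comm_mem hc h0 (ckz (hx b)) (ckw (hx b)) (ckz (ux (t / ((b : F) * b - 1))))
        (ckw (ux (t / ((b : F) * b - 1))))
      rw [← h3] at he
      refine odd_mem h2 hpo (a := e) ?_ (hpow t)
      rcases he with he | he
      · exact Or.inl he
      · exact Or.inr (Or.inl he)
    · push Not at hb
      obtain ⟨d, σ, a, hcd, -, hdw, h₁, h₂⟩ := cent_zw hc (ckz (ux t)) (ckw (ux t))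
      have hσ : σ = RingEquiv.refl F := by
        ext x
        by_cases hx : x = 0
        · rw [hx, map_zero]; rfl
        · have h3 : x * x = 1 := hb (Units.mk0 x hx)
          have h4 : (x - 1) * (x + 1) = 0 := by linear_combination h3
          rcases mul_eq_zero.mp h4 with h5 | h5
          · rw [sub_eq_zero.mp h5, map_one]; rfl
          · have h6 : x = -1 := by linear_combination h5
            rw [h6, map_neg, map_one]; rfl
      subst hσ
      simp only [map_refl] at h₁ h₂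
      refine odd_mem h2 hpo (a := a) ?_ (hpow t)
      have h3 := inner_mem h0 h₁ h₂
      rw [neg₁, mul_assoc] at h3
      change d = kk D a ∨ d = D.z * kk D a at h3
      rcases hcd with h4 | h4
      · rw [h4]
        rcases h3 with h3 | h3
        · exact Or.inl h3
        · exact Or.inr (Or.inl h3)
      · rw [h4]
        rcases h3 with h3 | h3
        · exact Or.inr (Or.inr (Or.inl (by rw [h3])))
        · exact Or.inr (Or.inr (Or.inr (by rw [h3])))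
  -- correct `g`
  obtain ⟨e₁, he₁, hp₁⟩ := key 1
  obtain ⟨h, s, hs⟩ := conj_ux hp₁
  have hs0 : s ≠ 0 := by
    rintro rfl
    rw [LnSL.ux_zero] at hs
    have h3 : e₁ = 1 := by
      have : e₁ = h⁻¹ * (h * e₁ * h⁻¹) * h := by group
      rw [this, hs]
      group
    rw [h3, kk_one] at he₁
    have h4 : kk D (ux (1 : F)) = 1 := by
      have : kk D (ux (1 : F)) = g⁻¹ * (g * kk D (ux 1) * g⁻¹) * g := by group
      rw [this, he₁]
      group
    rcases kk_eq_one h4 with h5 | h5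
    · have := congrArg (fun A : SL2 F => A 0 1) h5
      simp only [LnSL.ux01, LnSL.one01] at this
      exact one_ne_zero this
    · have := congrArg (fun A : SL2 F => A 0 1) h5
      simp only [LnSL.ux01, LnSL.neg_ap, LnSL.one01, neg_zero] at this
      exact one_ne_zero this
  refine ⟨kk D h * g, ?_, ?_, ?_⟩
  · have : kk D h * g * D.z * (kk D h * g)⁻¹ = kk D h * (g * D.z * g⁻¹) * (kk D h)⁻¹ := by group
    rw [this, hg1, ← kk_w, mul_inv_cancel_right]
  · have : kk D h * g * D.w * (kk D h * g)⁻¹ = kk D h * (g * D.w * g⁻¹) * (kk D h)⁻¹ := by group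
    rw [this, hg2, ← kk_z, mul_inv_cancel_right]
  · intro t
    obtain ⟨e, he, hep⟩ := key t
    have h3 : kk D h * g * kk D (ux t) * (kk D h * g)⁻¹ = kk D (h * e * h⁻¹) := by
      rw [kk_mul, kk_mul, kk_inv, ← he]
      group
    rw [h3]
    -- `e` and `e₁` commute up to sign
    have h4 : kk D (e * e₁) = kk D (e₁ * e) := by
      rw [kk_mul, kk_mul, ← he, ← he₁]
      have e1 : g * kk D (ux t) * g⁻¹ * (g * kk D (ux 1) * g⁻¹) = g * (kk D (ux t) * kk D (ux 1)) * g⁻¹ := by group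
      have e2 : g * kk D (ux 1) * g⁻¹ * (g * kk D (ux t) * g⁻¹) = g * (kk D (ux 1) * kk D (ux t)) * g⁻¹ := by group
      rw [e1, e2, ← kk_mul, ← kk_mul, ← LnSL.ux_add, ← LnSL.ux_add, add_comm]
    have h5 : h * e * h⁻¹ * ux s = ux s * (h * e * h⁻¹) ∨ h * e * h⁻¹ * ux s = -(ux s * (h * e * h⁻¹)) := by
      rw [← hs]
      have e1 : h * e * h⁻¹ * (h * e₁ * h⁻¹) = h * (e * e₁) * h⁻¹ := by group
      have e2 : h * e₁ * h⁻¹ * (h * e * h⁻¹) = h * (e₁ * e) * h⁻¹ := by group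
      rw [e1, e2]
      rcases kk_eq h4 with h6 | h6
      · left; rw [h6]
      · right; rw [h6, mul_neg, neg_mul]
    obtain ⟨r, hr⟩ := LnSL.comm_ux h2 hs0 h5
    rcases hr with hr | hr
    · exact ⟨r, by rw [hr]⟩
    · exfalso
      have h6 : (h * e * h⁻¹) ^ p = 1 := by
        rw [conj_pow, hep, mul_one, mul_inv_cancel]
      rw [hr, hpo.neg_pow, LnSL.ux_pow, CharP.cast_eq_zero, zero_mul, LnSL.ux_zero] at h6
      exact neg_one_ne_one h2 h6

/-- the same for `Hyp D` -/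
theorem exists_swap_hyp [Finite F] (h2 : (2 : F) ≠ 0) (H : Hyp D) :
    ∃ g, g * D.z * g⁻¹ = D.w ∧ g * D.w * g⁻¹ = D.z ∧ ∀ t, ∃ s, g * kk D (ux t) * g⁻¹ = kk D (ux s) :=
  exists_swap_P h2 H.cent H.cent0 H.zw H.zu H.zk

end

end Cfsg.Agent.SpFourOdd.LnSwap
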