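import Cfsg.Agent.SpFourOdd.PtS

/-!
# The point part, VIII: the short root group
-/

set_option autoImplicit false

namespace Cfsg.Agent.SpFourOdd.Pt

open Matrix

variable {G F : Type*} [Group G] [Field F] {D : Pair G F} {K Y : Subgroup G} {p : ℕ}

theorem isSquare_mul_of_not [Finite F] {a b : F} (ha : ¬ IsSquare a) (hb : ¬ IsSquare b) : IsSquare (a * b) := by
  classical
  have := Fintype.ofFinite F
  have ha0 : a ≠ 0 := by rintro rfl; exact ha (IsSquare.zero)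
  have hb0 : b ≠ 0 := by rintro rfl; exact hb (IsSquare.zero)
  have h1 := quadraticChar_neg_one_iff_not_isSquare.2 ha
  have h3 := quadraticChar_neg_one_iff_not_isSquare.2 hb
  rw [← quadraticChar_one_iff_isSquare (mul_ne_zero ha0 hb0), map_mul, h1, h3]
  norm_num

namespace Co

variable {y : F → G} {f β : F → F → F}

theorem const_ne_zero [Finite G] [Finite F] [Fact p.Prime] [CharP F p] (h2 : (2 : F) ≠ 0) (hp : Odd p)
    (H : Hyp D) (k : KData D K) (L : Line p D Y) (C : Co D Y y f β) {c₀ : F}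
    (hβ : ∀ s t, β t s = c₀ * (-(2 * t * s))) : c₀ ≠ 0 := by
  rintro rfl
  have h1 : ∀ g ∈ Y, y2 D y 1 * g = g * y2 D y 1 := by
    intro g hg
    obtain ⟨t, rfl⟩ := C.surj g hg
    rw [C.rel2, hβ, zero_mul, ux_zero, map_one, mul_one]
  have hK : y2 D y 1 ∈ K := k.nrm _ (φ₂_mem _) _ (LineF.mem_K L k hp (C.mem 1))
  have hpw : y2 D y 1 ^ p = 1 := by rw [y2, conj_pow, L.exp _ (C.mem 1)]; group
  obtain ⟨s, e, he, h3⟩ := exists_of_comm h2 hp H k L hK hpw h1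
  have h4 : D.φ₂ nx * y 1 * (D.φ₂ nx)⁻¹ = e * D.φ₁ (ux s) := by
    rw [← LineF.x₁ L he]; exact h3
  have h5 := (inter h2 hp k L (C.mem 1) he h4).1
  rw [← C.y_zero] at h5
  exact one_ne_zero (C.inj h5)

/-- `Y` is conjugate to `{x₁(t) x₂(-c₀ t)}` -/
theorem conj_Pm (h2 : (2 : F) ≠ 0) (L : Line p D Y) (C : Co D Y y f β) {c₀ : F} (hc : c₀ ≠ 0)
    (hf : ∀ s t, f s t = c₀ * (s * s * t)) (hβ : ∀ s t, β t s = c₀ * (-(2 * t * s))) :
    ∃ g : G, ∀ x, x ∈ Y ↔ ∃ s ∈ Pm D c₀, x = g * s * g⁻¹ := by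
  have κ1 : ∀ a, MulAut.conj D.w (D.φ₁ a) = D.φ₂ a := fun a => by
    rw [MulAut.conj_apply, w_inv, D.conj]
  have κ2 : ∀ a, MulAut.conj D.w (D.φ₂ a) = D.φ₁ a := fun a => by
    rw [MulAut.conj_apply, w_inv, conj₂]
  have κy : ∀ t, MulAut.conj D.w (y t) = y t := fun t => by
    rw [MulAut.conj_apply, L.w _ (C.mem t), mul_inv_cancel_right]
  set v : G := MulAut.conj D.w (y2 D y 1) with hv
  set s : F := -(2 * c₀)⁻¹ with hs
  -- relations
  have r1 : ∀ t, y t * y2 D y s = y2 D y s * y t * D.φ₁ (ux t) := by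
    intro t
    rw [C.rel2, hβ]
    congr 3
    rw [hs]; field_simp
  have r2 : ∀ t, y t * v = v * y t * D.φ₂ (ux (-(2 * c₀ * t))) := by
    intro t
    have h1 := congrArg (MulAut.conj D.w) (C.rel2 1 t)
    rw [map_mul, map_mul, map_mul, κ1, κy, ← hv, hβ] at h1
    rw [h1]
    congr 3
    ring
  have r3 : ∀ t, D.φ₁ (ux t) * v = v * y (-t) * D.φ₂ (ux (c₀ * t)) * D.φ₁ (ux t) := by
    intro t
    have h1 := congrArg (MulAut.conj D.w) (C.rel 1 t)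
    rw [map_mul, map_mul, map_mul, map_mul, map_inv, κ1, κ2, κy, ← hv, mul_inv_eq_iff_eq_mul, mul_one, hf, mul_one,
      one_mul] at h1
    exact h1
  have key : ∀ t, y t = (y2 D y s * v) * (D.φ₁ (ux t) * D.φ₂ (ux (-(c₀ * t)))) * (y2 D y s * v)⁻¹ := by
    intro t
    rw [eq_mul_inv_iff_mul_eq]
    calc y t * (y2 D y s * v) = y2 D y s * y t * (D.φ₁ (ux t) * v) := by rw [← mul_assoc, r1]; simp only [mul_assoc]
      _ = y2 D y s * (y t * v) * y (-t) * D.φ₂ (ux (c₀ * t)) * D.φ₁ (ux t) := by rw [r3]; simp only [mul_assoc]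
      _ = y2 D y s * v * y t * (D.φ₂ (ux (-(2 * c₀ * t))) * y (-t)) * D.φ₂ (ux (c₀ * t)) * D.φ₁ (ux t) := by
          rw [r2]; simp only [mul_assoc]
      _ = y2 D y s * v * (y t * y (-t)) * (D.φ₂ (ux (-(2 * c₀ * t))) * D.φ₂ (ux (c₀ * t))) * D.φ₁ (ux t) := by
          rw [← L.x _ (C.mem _)]; simp only [mul_assoc]
      _ = y2 D y s * v * (D.φ₂ (ux (-(c₀ * t))) * D.φ₁ (ux t)) := by
          rw [C.y_neg, mul_inv_cancel, mul_one, ← map_mul, ← ux_add, mul_assoc]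
          congr 4
          ring
      _ = _ := by rw [← D.comm]
  refine ⟨y2 D y s * v, fun x => ⟨fun hx => ?_, ?_⟩⟩
  · obtain ⟨t, rfl⟩ := C.surj x hx
    exact ⟨_, ⟨t, rfl⟩, key t⟩
  · rintro ⟨_, ⟨t, rfl⟩, rfl⟩
    change (y2 D y s * v) * (D.φ₁ (ux t) * D.φ₂ (ux (-(c₀ * t)))) * (y2 D y s * v)⁻¹ ∈ Y
    rw [← key]
    exact C.mem t

theorem isSquare [Finite G] [Finite F] [CharP F p] (h2 : (2 : F) ≠ 0) (hp : Odd p)
    (H : Hyp D) (L : Line p D Y) (C : Co D Y y f β) {c₀ : F} (hc : c₀ ≠ 0)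
    (hf : ∀ s t, f s t = c₀ * (s * s * t)) (hβ : ∀ s t, β t s = c₀ * (-(2 * t * s))) : IsSquare c₀ := by
  obtain ⟨g, hg⟩ := C.conj_Pm h2 L hc hf hβ
  obtain ⟨g', hg'⟩ := L.conj
  have h1 : Nat.card (Subgroup.centralizer (Y : Set G)) = Nat.card (Subgroup.centralizer (Pm D c₀)) :=
    card_centralizer_conj g hg
  have h3 : Nat.card (Subgroup.centralizer (Y : Set G)) = Nat.card (Subgroup.centralizer (Pm D 1)) := by
    refine card_centralizer_conj g' (fun x => ?_)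
    rw [SetLike.mem_coe, hg']
    constructor
    · rintro ⟨t, rfl⟩
      exact ⟨_, ⟨t, rfl⟩, by simp only [one_mul]⟩
    · rintro ⟨_, ⟨t, rfl⟩, rfl⟩
      exact ⟨t, by simp only [one_mul]⟩
  have h4 : c₀ = (-1) * (-c₀) := by ring
  by_cases hs : IsSquare (-1 : F)
  · have h5 := four_dvd_of_sq (D := D) h2 one_ne_zero hs
    rw [← h3, h1] at h5
    rw [h4]
    exact hs.mul (sq_of_four_dvd h2 hp H hc h5)
  · rw [h4]
    refine isSquare_mul_of_not hs (fun hs' => hs ?_)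
    have h5 := four_dvd_of_sq (D := D) h2 hc hs'
    rw [← h1, h3] at h5
    exact sq_of_four_dvd h2 hp H one_ne_zero h5

end Co

/-- an element centralising `L₁` and `L₂` is `1` or `z` -/
theorem cent0 (h2 : (2 : F) ≠ 0) (H : Hyp D) {g : G} (h₁ : ∀ a, g * D.φ₁ a = D.φ₁ a * g)
    (h₂ : ∀ a, g * D.φ₂ a = D.φ₂ a * g) : g = 1 ∨ g = D.z :=
  H.cent0 g h₁ h₂

end Pt

open Pt in
/-- the short root group -/
theorem Line.exists_root {G F : Type*} [Group G] [Finite G] [Field F] [Finite F] (p : ℕ) [Fact p.Prime]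
    [CharP F p] (hp : p ≠ 2) {D : Pair G F} (H : Hyp D) {Y : Subgroup G} (L : Line p D Y) :
    ∃ y : F → G, Root D y ∧ ∀ g, g ∈ Y ↔ g ∈ Set.range y := by
  have hpp : p.Prime := Fact.out
  have hodd : Odd p := hpp.odd_of_ne_two hp
  have h2 : (2 : F) ≠ 0 := by
    intro h
    have h1 : ((2 : ℕ) : F) = 0 := by exact_mod_cast h
    rw [CharP.cast_eq_zero_iff F p] at h1
    exact hp ((Nat.prime_dvd_prime_iff_eq hpp Nat.prime_two).1 h1)
  obtain ⟨K, k⟩ := exists_K h2 p hodd H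
  obtain ⟨y, f, β, C⟩ := exists_Co h2 hodd H k L
  obtain ⟨c₀, hf, hβ⟩ := C.exists_const h2 L
  have hc := C.const_ne_zero h2 hodd H k L hβ
  obtain ⟨m, hm⟩ := C.isSquare h2 hodd H L hc hf hβ
  have hm0 : m ≠ 0 := by
    rintro rfl
    rw [mul_zero] at hm
    exact hc hm
  have hc1 : c₀ * (m⁻¹ * m⁻¹) = 1 := by
    rw [hm]; field_simp
  refine ⟨fun t => y (m⁻¹ * t), ⟨?_, ?_, ?_, ?_, ?_, ?_, ?_⟩, ?_⟩
  · intro s t
    change y (m⁻¹ * (s + t)) = y (m⁻¹ * s) * y (m⁻¹ * t)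
    rw [mul_add, C.add]
  · intro t
    change D.w * y (m⁻¹ * t) * D.w = y (m⁻¹ * t)
    rw [L.w _ (C.mem _), mul_assoc, D.ww, mul_one]
  · intro b t
    change D.φ₂ (hx b) * y (m⁻¹ * t) * (D.φ₂ (hx b))⁻¹ = y (m⁻¹ * (b * t))
    rw [C.h]
    congr 1
    ring
  · intro s t
    exact L.x _ (C.mem _) s
  · intro s t
    change D.φ₂ (ux t) * y2 D y (m⁻¹ * s) * (D.φ₂ (ux t))⁻¹ =
      y2 D y (m⁻¹ * s) * y (m⁻¹ * (-(t * s))) * D.φ₁ (ux (s * s * t))
    have e1 : -(t * (m⁻¹ * s)) = m⁻¹ * (-(t * s)) := by ring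
    have e2 : c₀ * (m⁻¹ * s * (m⁻¹ * s) * t) = s * s * t := by linear_combination (s * s * t) * hc1
    rw [C.rel, hf, e1, e2]
  · intro s t
    change y (m⁻¹ * t) * y2 D y (m⁻¹ * s) = y2 D y (m⁻¹ * s) * y (m⁻¹ * t) * D.φ₁ (ux (-(2 * t * s)))
    have e2 : c₀ * -(2 * (m⁻¹ * t) * (m⁻¹ * s)) = -(2 * t * s) := by linear_combination (-(2 * t * s)) * hc1
    rw [C.rel2, hβ, e2]
  · intro g h₁ h₂ h₃
    rcases Pt.cent0 h2 H h₁ h₂ with h | h
    · exact h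
    · exfalso
      have h4 := h₃ m
      rw [inv_mul_cancel₀ hm0, h] at h4
      have h5 := eq_one_of_inv (hodd.of_dvd_nat (orderOf_dvd_of_pow_eq_one (L.exp _ (C.mem 1)))) (L.inv _ (C.mem 1)) h4
      rw [← C.y_zero] at h5
      exact one_ne_zero (C.inj h5)
  · intro g
    constructor
    · intro hg
      obtain ⟨t, rfl⟩ := C.surj g hg
      refine ⟨m * t, ?_⟩
      change y (m⁻¹ * (m * t)) = y t
      rw [inv_mul_cancel_left₀ hm0]
    · rintro ⟨t, rfl⟩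
      exact C.mem _

end Cfsg.Agent.SpFourOdd
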