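import Cfsg.Agent.SpFourOdd.Final
import Cfsg.Agent.SpFourOdd.Point
import Cfsg.Agent.SpFourOdd.LnLine
import Cfsg.Agent.SpFourOdd.LnSwap
import Cfsg.Agent.SpFourOdd.LnIsol

/-!
# Recognition of `PSp₄(q)`, `q` odd
-/

set_option autoImplicit false

namespace Cfsg.Agent.SpFourOdd.Recog

open Matrix Closing

/-- **Recognition of `PSp₄(q)`**, `q` odd. -/
theorem iso {G F : Type*} [Group G] [Finite G] [IsSimpleGroup G] [Field F] [Finite F] (h2 : (2 : F) ≠ 0)
    {D : Pair G F} (H : Hyp D) : Nonempty (G ≃* Cfsg.PSp 2 F) := by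
  obtain ⟨p, hpc⟩ := CharP.exists F
  have hpp : p.Prime := by
    rcases CharP.char_is_prime_or_zero F p with h | h
    · exact h
    · subst h
      have := CharP.charP_to_charZero F
      exact absurd (inferInstance : Finite F) (by
        rw [not_finite_iff_infinite]
        exact Infinite.of_injective (fun n : ℕ => (n : F)) Nat.cast_injective)
  have hp : Fact p.Prime := ⟨hpp⟩
  have hp2 : p ≠ 2 := by
    rintro rfl
    exact h2 (by exact_mod_cast CharP.cast_eq_zero F 2)
  have hodd : Odd p := hpp.odd_of_ne_two hp2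
  obtain ⟨g, gz, gw, gP⟩ := LnSwap.exists_swap_hyp h2 H
  have I : LnA.Inp p D g :=
    { gz := gz
      gw := gw
      gP := gP
      zinv := by
        intro A hA hAu hAz a ha
        obtain ⟨O, hC⟩ := H.cu
        exact LnCore.zinv h2 H hC A hA hAu (fun b hb => by have := hAz b hb; rwa [z_inv] at this) ha
      iso := LnIsol.isolated h2 H
      pel := fun N hN c hcu hcP n hc => LnIsol.p_elem h2 H N hN c hcu hcP n hc }
  have L := LnLine.line hodd h2 H I
  obtain ⟨y, R, hy⟩ := Line.exists_root p hp2 H L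
  refine iso_of_root h2 H R ?_
  intro f hfz hfw hf t
  have h1 := L.norm f hfz hfw hf (y t) ((hy _).2 ⟨t, rfl⟩)
  obtain ⟨s, hs⟩ := (hy _).1 h1
  exact ⟨s, hs.symm⟩

end Cfsg.Agent.SpFourOdd.Recog
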