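import Cfsg.Agent.SpFourOdd.Fusion
import Cfsg.Agent.SpFourOdd.Fours
import Cfsg.Agent.S0270
import Cfsg.Agent.S1225

/-!
# Recognition of `PSp₄(q)`, `q` odd: the closing argument

If `G₀` is a simple subgroup of `G` containing `L₁`, `L₂`, `w` then `G₀ = G`.
-/

set_option autoImplicit false

namespace Cfsg.Agent.SpFourOdd.Closing

section

variable {G F : Type*} [Group G] [Field F] {D : Pair G F}

/-- the pair, in a subgroup -/
def restr (D : Pair G F) (G₀ : Subgroup G) (h₁ : ∀ a, D.φ₁ a ∈ G₀) (h₂ : ∀ a, D.φ₂ a ∈ G₀) (hw : D.w ∈ G₀) :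
    Pair G₀ F where
  φ₁ := D.φ₁.codRestrict G₀ h₁
  φ₂ := D.φ₂.codRestrict G₀ h₂
  z := ⟨D.z, by rw [← D.z₁]; exact h₁ _⟩
  w := ⟨D.w, hw⟩
  comm := fun a b => Subtype.ext (D.comm a b)
  z₁ := Subtype.ext D.z₁
  z₂ := Subtype.ext D.z₂
  ker := fun a b h => D.ker a b (congrArg Subtype.val h)
  ww := Subtype.ext D.ww
  conj := fun a => Subtype.ext (D.conj a)

theorem isConj_val {G₀ : Subgroup G} {x y : G₀} (h : IsConj x y) : IsConj (x : G) (y : G) := by
  obtain ⟨g, hg⟩ := isConj_iff.mp h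
  exact isConj_iff.mpr ⟨g, by rw [← hg]; rfl⟩

theorem weak_restr (W : Weak D) {G₀ : Subgroup G} (h₁ : ∀ a, D.φ₁ a ∈ G₀) (h₂ : ∀ a, D.φ₂ a ∈ G₀) (hw : D.w ∈ G₀) :
    Weak (restr D G₀ h₁ h₂ hw) where
  inv := by
    intro c hc hcc
    obtain ⟨a, b, h⟩ := W.inv c (congrArg Subtype.val hc) (congrArg Subtype.val hcc)
    refine ⟨a, b, ?_⟩
    rcases h with h | h
    · exact Or.inl (Subtype.ext h)
    · exact Or.inr (Subtype.ext h)
  nrm := by
    intro c hc x
    obtain ⟨y, h⟩ := W.nrm c (congrArg Subtype.val hc) x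
    refine ⟨y, ?_⟩
    rcases h with h | h
    · exact Or.inl (Subtype.ext h)
    · exact Or.inr (Subtype.ext h)
  zu := fun h => W.zu (isConj_val h)
  zk := fun a b ha hb h => W.zk a b ha hb (isConj_val h)

/-- `K₀ O(C(u))` is normal in `C(u)` (field `cu` of `Hyp`) -/
def CU (D : Pair G F) : Prop :=
  ∃ O : Subgroup G, Odd (Nat.card O) ∧ (∀ o ∈ O, o * (D.z * D.w) = (D.z * D.w) * o) ∧
    (∀ c, c * (D.z * D.w) = (D.z * D.w) * c → ∀ o ∈ O, c * o * c⁻¹ ∈ O) ∧
    ∀ c, c * (D.z * D.w) = (D.z * D.w) * c → ∀ a, ∃ b, ∃ o ∈ O,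
      c * (D.φ₁ a * D.φ₂ a) * c⁻¹ = D.φ₁ b * D.φ₂ b * o

theorem CU_of {O : Subgroup G} (h : CUData D O) : CU D := ⟨O, h.odd, h.le, h.norm, h.k0⟩

/-- a subgroup containing `C(z)` and fusing `z`, `w` contains `C(zw)` -/
theorem cent_u_le [Finite G] [Finite F] (hcU : CU D) (h2 : (2 : F) ≠ 0) {G₀ : Subgroup G}
    (hCz : ∀ c, c * D.z = D.z * c → c ∈ G₀) (hzw : ∃ g ∈ G₀, g * D.z * g⁻¹ = D.w) {c : G}
    (hc : c * (D.z * D.w) = (D.z * D.w) * c) : c ∈ G₀ := by
  classical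
  have h₁ : ∀ a, D.φ₁ a ∈ G₀ := fun a => hCz _ (z_comm₁ D a).symm
  have h₂ : ∀ a, D.φ₂ a ∈ G₀ := fun a => hCz _ (z_comm₂ D a).symm
  have hw : D.w ∈ G₀ := hCz _ (wz D)
  have hz : D.z ∈ G₀ := by rw [← D.z₁]; exact h₁ _
  -- centralizers of elements conjugate to `z` in `G₀`
  have hC : ∀ x, (∃ g ∈ G₀, g * D.z * g⁻¹ = x) → ∀ c, c * x = x * c → c ∈ G₀ := by
    rintro x ⟨g, hg, rfl⟩ c hc
    have h3 : g⁻¹ * c * g ∈ G₀ := by
      apply hCz
      have e1 : g⁻¹ * c * g * D.z = g⁻¹ * (c * (g * D.z * g⁻¹)) * g := by group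
      rw [e1, hc]
      group
    have h4 : c = g * (g⁻¹ * c * g) * g⁻¹ := by group
    rw [h4]
    exact mul_mem (mul_mem hg h3) (inv_mem hg)
  have hCw : ∀ a : SL2 F, ∀ c, c * (D.φ₁ a * D.w * (D.φ₁ a)⁻¹) = (D.φ₁ a * D.w * (D.φ₁ a)⁻¹) * c → c ∈ G₀ := by
    intro a
    apply hC
    obtain ⟨g, hg, hgw⟩ := hzw
    refine ⟨D.φ₁ a * g, mul_mem (h₁ _) hg, ?_⟩
    rw [← hgw]
    group
  -- `u k` for an involution `k ∈ K₀`
  have huk : ∀ a : SL2 F, a * a = -1 → D.z * D.w * kk D a = D.φ₁ a * D.w * (D.φ₁ a)⁻¹ := by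
    intro a ha
    have hainv : a⁻¹ = -a := by rw [inv_eq_iff_mul_eq_one, mul_neg, ha, neg_neg]
    rw [conj_w, hainv, neg₂, mul_assoc, kk_w]
    unfold kk
    rw [← mul_assoc, z_form]
    simp only [mul_assoc]
    rw [← mul_assoc D.z, z_comm₂, mul_assoc]
  have hCuk : ∀ a : SL2 F, a * a = -1 → ∀ c, c * (D.z * D.w) = (D.z * D.w) * c → c * kk D a = kk D a * c → c ∈ G₀ := by
    intro a ha c hc1 hc3
    apply hCw a c
    rw [← huk a ha]
    have h3 : c * (D.z * D.w * kk D a) = (c * (D.z * D.w)) * kk D a := by group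
    rw [h3, hc1, mul_assoc, hc3]
    group
  have kk_u : ∀ a, kk D a * (D.z * D.w) = D.z * D.w * kk D a := by
    intro a
    rw [← mul_assoc, ← kk_z, mul_assoc, ← kk_w, mul_assoc]
  have kk_mem : ∀ a, kk D a ∈ G₀ := fun a => mul_mem (h₁ _) (h₂ _)
  obtain ⟨O, hOodd, hOu, hOn, hcu⟩ := hcU
  obtain ⟨i, j, hi, hj, hij⟩ := exists_pair h2
  have hijij : (i * j) * (i * j) = -1 := by
    have h4 : j * i = -(i * j) := by rw [hij, neg_neg]
    have h3 : (i * j) * (i * j) = i * (j * i) * j := by group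
    rw [h3, h4]
    have h5 : i * -(i * j) * j = -((i * i) * (j * j)) := by
      rw [mul_neg, neg_mul]
      congr 1
      group
    rw [h5, hi, hj, neg_mul_neg, one_mul]
  -- `K₀`
  let K₀ : Subgroup G := (kkHom D).range
  have hK₀ : K₀ ≤ G₀ := by
    rintro _ ⟨a, rfl⟩
    exact kk_mem a
  -- the four-group
  have hkij : kk D i * kk D j = kk D j * kk D i := by
    rw [← kk_mul, ← kk_mul, hij, kk_neg]
  have kk_sq : ∀ a : SL2 F, a * a = -1 → kk D a * kk D a = 1 := by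
    intro a ha
    rw [← kk_mul, ha, kk_neg, kk_one]
  have kk_ne : ∀ a : SL2 F, a * a = -1 → kk D a ≠ 1 := by
    intro a ha h
    rcases D.ker _ _ h with h7 | h7
    · rw [h7.1, one_mul] at ha
      exact neg_one_ne_one h2 ha.symm
    · rw [h7.1, neg_mul_neg, one_mul] at ha
      exact neg_one_ne_one h2 ha.symm
  have hOG : O ≤ G₀ := by
    have hne : kk D i ≠ kk D j := by
      intro h
      apply kk_ne _ hijij
      rw [kk_mul, h, kk_sq j hj]
    refine le_of_fours (x := kk D i) (y := kk D j) hkij (kk_sq i hi) (kk_sq j hj) (kk_ne i hi) (kk_ne j hj) hne hOodd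
      (hOn _ (kk_u i)) (hOn _ (kk_u j)) ?_ ?_ ?_
    · intro o ho h
      exact hCuk i hi o (hOu o ho) h
    · intro o ho h
      exact hCuk j hj o (hOu o ho) h
    · intro o ho h
      rw [← kk_mul] at h
      exact hCuk (i * j) hijij o (hOu o ho) h
  -- conclusion
  obtain ⟨b, o, ho, hb⟩ := hcu c hc i
  have hy : c * kk D i * c⁻¹ * (c * kk D i * c⁻¹) = 1 := by
    have : c * kk D i * c⁻¹ * (c * kk D i * c⁻¹) = c * (kk D i * kk D i) * c⁻¹ := by group
    rw [this, kk_sq i hi, mul_one, mul_inv_cancel]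
  have hyKO : c * kk D i * c⁻¹ ∈ K₀ ⊔ O := by
    have : c * kk D i * c⁻¹ = kk D b * o := hb
    rw [this]
    exact mul_mem (le_sup_left (a := K₀) (b := O) ⟨b, rfl⟩) (le_sup_right (a := K₀) (b := O) ho)
  have hnorm : ∀ k ∈ K₀, ∀ o ∈ O, k * o * k⁻¹ ∈ O := by
    rintro _ ⟨a, rfl⟩ o ho
    exact hOn _ (kk_u a) o ho
  obtain ⟨g, hg, hgK⟩ := exists_conj_in K₀ O hOodd hnorm hy hyKO
  have hgG : g ∈ G₀ := (sup_le hK₀ hOG) hg
  have hgu : g * (D.z * D.w) = (D.z * D.w) * g := by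
    have h3 : K₀ ⊔ O ≤ Subgroup.centralizer {D.z * D.w} := by
      rw [sup_le_iff]
      constructor
      · rintro _ ⟨a, rfl⟩
        rw [Subgroup.mem_centralizer_singleton_iff]
        exact kk_u a
      · intro o ho
        rw [Subgroup.mem_centralizer_singleton_iff]
        exact hOu o ho
    exact Subgroup.mem_centralizer_singleton_iff.mp (h3 hg)
  obtain ⟨m, hm⟩ := hgK
  change kk D m = g⁻¹ * (c * kk D i * c⁻¹) * g at hm
  -- `m² = -1`
  have hmm : m * m = -1 := by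
    have h3 : kk D m * kk D m = 1 := by
      rw [hm]
      have h4 : g⁻¹ * (c * kk D i * c⁻¹) * g * (g⁻¹ * (c * kk D i * c⁻¹) * g) =
        g⁻¹ * (c * kk D i * c⁻¹ * (c * kk D i * c⁻¹)) * g := by group
      rw [h4, hy, mul_one, inv_mul_cancel]
    have h4 : kk D m ≠ 1 := by
      intro h
      apply kk_ne i hi
      have : kk D i = c⁻¹ * g * (g⁻¹ * (c * kk D i * c⁻¹) * g) * g⁻¹ * c := by group
      rw [this, ← hm, h]
      group
    rw [← kk_mul] at h3
    have h6 : D.φ₁ (m * m) * D.φ₂ (m * m) = 1 := h3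
    rcases D.ker _ _ h6 with h7 | h7
    · exfalso
      apply h4
      rcases sq_one h2 h7.1 with h8 | h8
      · rw [h8, kk_one]
      · rw [h8, kk_neg, kk_one]
    · exact h7.1
  obtain ⟨x, hx⟩ := conj_of_sq h2 hmm hi
  -- `kk x g⁻¹ c` centralizes `kk i` and `u`
  have h9 : kk D x * g⁻¹ * c ∈ G₀ := by
    apply hCuk i hi
    · have e1 : c * (D.z * D.w) * c⁻¹ = D.z * D.w := by rw [hc, mul_inv_cancel_right]
      have e2 : g⁻¹ * (D.z * D.w) = D.z * D.w * g⁻¹ := by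
        rw [inv_mul_eq_iff_eq_mul, ← mul_assoc, hgu, mul_inv_cancel_right]
      rw [mul_assoc, hc, ← mul_assoc, mul_assoc (kk D x), e2, ← mul_assoc, kk_u]
      simp only [mul_assoc]
    · have e1 : kk D i = kk D x * kk D m * (kk D x)⁻¹ := by
        rw [← kk_inv, ← kk_mul, ← kk_mul, hx]
      have e2 : kk D i * (kk D x * g⁻¹ * c) = kk D x * kk D m * (kk D x)⁻¹ * (kk D x * g⁻¹ * c) := by rw [← e1]
      rw [e2, hm]
      group
  have h10 : c = g * (kk D x)⁻¹ * (kk D x * g⁻¹ * c) := by group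
  rw [h10]
  exact mul_mem (mul_mem hgG (inv_mem (kk_mem x))) h9

/-- **Closing.**  A subgroup of `G` containing `C(z)` and fusing `z` and `w` is the whole group. -/
theorem eq_top [Finite G] [Finite F] (W₀ : Weak D) (hcU : CU D) (h2 : (2 : F) ≠ 0) (G₀ : Subgroup G)
    (hCz : ∀ c, c * D.z = D.z * c → c ∈ G₀) (hzw' : ∃ g ∈ G₀, g * D.z * g⁻¹ = D.w) : G₀ = ⊤ := by
  classical
  have h₁ : ∀ a, D.φ₁ a ∈ G₀ := fun a => hCz _ (z_comm₁ D a).symm
  have h₂ : ∀ a, D.φ₂ a ∈ G₀ := fun a => hCz _ (z_comm₂ D a).symm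
  have hw : D.w ∈ G₀ := hCz _ (wz D)
  have W := weak_restr W₀ h₁ h₂ hw
  have hz : D.z ∈ G₀ := by rw [← D.z₁]; exact h₁ _
  have hzw : IsConj (restr D G₀ h₁ h₂ hw).z (restr D G₀ h₁ h₂ hw).w := by
    obtain ⟨g, hg, hgz⟩ := hzw'
    exact isConj_iff.mpr ⟨⟨g, hg⟩, Subtype.ext hgz⟩
  have hCu : ∀ c, c * (D.z * D.w) = (D.z * D.w) * c → c ∈ G₀ := fun c hc => cent_u_le hcU h2 hCz hzw' hc
  -- two classes
  have hcl : ∀ y ∈ G₀, y * y = 1 → y ≠ 1 → (∃ g ∈ G₀, g * D.z * g⁻¹ = y) ∨ ∃ g ∈ G₀, g * (D.z * D.w) * g⁻¹ = y := by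
    intro y hy hyy hy1
    rcases two_classes W h2 hzw (t := ⟨y, hy⟩) (Subtype.ext hyy) (fun h => hy1 (congrArg Subtype.val h)) with h | h
    · left
      obtain ⟨g, hg⟩ := isConj_iff.mp h
      exact ⟨g, g.2, congrArg Subtype.val hg⟩
    · right
      obtain ⟨g, hg⟩ := isConj_iff.mp h
      exact ⟨g, g.2, congrArg Subtype.val hg⟩
  -- control of `G₀`-conjugation
  have hctl : ∀ y ∈ G₀, y * y = 1 → y ≠ 1 → ∀ g : G, g * y * g⁻¹ ∈ G₀ → g ∈ G₀ := by
    intro y hy hyy hy1 g hg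
    have hgg : g * y * g⁻¹ * (g * y * g⁻¹) = 1 := by
      have : g * y * g⁻¹ * (g * y * g⁻¹) = g * (y * y) * g⁻¹ := by group
      rw [this, hyy, mul_one, mul_inv_cancel]
    have hg1 : g * y * g⁻¹ ≠ 1 := by
      intro h
      apply hy1
      have : y = g⁻¹ * (g * y * g⁻¹) * g := by group
      rw [this, h]
      group
    -- same type
    have key : ∀ x : G, (∀ c, c * x = x * c → c ∈ G₀) → (∃ a ∈ G₀, a * x * a⁻¹ = y) →
        (∃ b ∈ G₀, b * x * b⁻¹ = g * y * g⁻¹) → g ∈ G₀ := by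
      rintro x hx ⟨a, ha, hay⟩ ⟨b, hb, hby⟩
      have h3 : b⁻¹ * g * a ∈ G₀ := by
        apply hx
        have e1 : b⁻¹ * g * a * x = b⁻¹ * g * (a * x * a⁻¹) * a := by group
        have e2 : x * (b⁻¹ * g * a) = b⁻¹ * (b * x * b⁻¹) * g * a := by group
        rw [e1, e2, hay, hby]
        group
      have h4 : g = b * (b⁻¹ * g * a) * a⁻¹ := by group
      rw [h4]
      exact mul_mem (mul_mem hb h3) (inv_mem ha)
    rcases hcl y hy hyy hy1 with h3 | h3 <;> rcases hcl _ hg hgg hg1 with h4 | h4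
    · exact key _ hCz h3 h4
    · exfalso
      obtain ⟨a, -, ha⟩ := h3
      obtain ⟨b, -, hb⟩ := h4
      apply W₀.zu
      have i1 : IsConj D.z y := isConj_iff.mpr ⟨a, ha⟩
      have i2 : IsConj y (g * y * g⁻¹) := isConj_iff.mpr ⟨g, rfl⟩
      have i3 : IsConj (D.z * D.w) (g * y * g⁻¹) := isConj_iff.mpr ⟨b, hb⟩
      exact (i1.trans i2).trans i3.symm
    · exfalso
      obtain ⟨a, -, ha⟩ := h3
      obtain ⟨b, -, hb⟩ := h4
      apply W₀.zu
      have i1 : IsConj (D.z * D.w) y := isConj_iff.mpr ⟨a, ha⟩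
      have i2 : IsConj y (g * y * g⁻¹) := isConj_iff.mpr ⟨g, rfl⟩
      have i3 : IsConj D.z (g * y * g⁻¹) := isConj_iff.mpr ⟨b, hb⟩
      exact (i3.trans i2.symm).trans i1.symm
    · exact key _ hCu h3 h4
  by_contra hne
  have hzord : orderOf D.z = 2 := orderOf_eq_prime (by rw [pow_two, zz]) (z_ne D h2)
  have : Fact (Nat.Prime 2) := ⟨Nat.prime_two⟩
  have hSE : Cfsg.IsStronglyEmbedded G₀ := by
    refine ⟨hne, ?_, ?_⟩
    · have h3 : orderOf (⟨D.z, hz⟩ : G₀) ∣ Nat.card G₀ := orderOf_dvd_natCard _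
      rw [Subgroup.orderOf_mk, hzord] at h3
      exact even_iff_two_dvd.mpr h3
    · intro g hg
      rw [← Nat.not_even_iff_odd]
      intro heven
      obtain ⟨⟨t, ht⟩, ht2⟩ := exists_prime_orderOf_dvd_card' 2 (even_iff_two_dvd.mp heven)
      rw [Subgroup.orderOf_mk] at ht2
      obtain ⟨ht0, t', ht', htt⟩ := ht
      change g * t' * g⁻¹ = t at htt
      have htsq : t * t = 1 := by rw [← pow_two, ← ht2, pow_orderOf_eq_one]
      have ht1 : t ≠ 1 := by
        rintro rfl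
        rw [orderOf_one] at ht2
        omega
      apply hg
      apply hctl t' ht'
      · have e : t' * t' = g⁻¹ * ((g * t' * g⁻¹) * (g * t' * g⁻¹)) * g := by group
        rw [e, htt, htsq]
        group
      · rintro rfl
        apply ht1
        rw [← htt]
        group
      · rw [htt]
        exact ht0
  -- an involution outside `G₀`
  obtain ⟨g, hg⟩ : ∃ g, g ∉ G₀ := by
    by_contra hcon
    push Not at hcon
    exact hne (eq_top_iff.mpr fun x _ => hcon x)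
  have hgz : g * D.z * g⁻¹ ∉ G₀ := fun h => hg (hctl D.z hz (zz D) (z_ne D h2) g h)
  have hgord : orderOf (g * D.z * g⁻¹) = 2 := by
    apply orderOf_eq_prime
    · rw [pow_two]
      have : g * D.z * g⁻¹ * (g * D.z * g⁻¹) = g * (D.z * D.z) * g⁻¹ := by group
      rw [this, zz, mul_one, mul_inv_cancel]
    · intro h
      apply hgz
      rw [h]
      exact one_mem _
  have huord : orderOf (D.z * D.w) = 2 := by
    apply orderOf_eq_prime
    · rw [pow_two]
      have : D.z * D.w * (D.z * D.w) = D.z * (D.w * D.z) * D.w := by group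
      rw [this, wz]
      have : D.z * (D.z * D.w) * D.w = (D.z * D.z) * (D.w * D.w) := by group
      rw [this, zz, D.ww, one_mul]
    · intro h
      apply w_ne_z D h2
      have : D.w = D.z * (D.z * D.w) := by rw [← mul_assoc, zz, one_mul]
      rw [this, h, mul_one]
  have hfin := (S1225.result G₀ hSE (g * D.z * g⁻¹) hgord hgz D.z D.z hzord hz hzord hz).2
  exact W₀.zu (hfin _ _ hzord huord)

/-- `gen` contains `φ₁`, `φ₂` -/
theorem gen₁ (D : Pair G F) (y : F → G) (a : SL2 F) : D.φ₁ a ∈ gen D y :=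
  Subgroup.subset_closure (Or.inl (Or.inl ⟨a, rfl⟩))

theorem gen₂ (D : Pair G F) (y : F → G) (a : SL2 F) : D.φ₂ a ∈ gen D y :=
  Subgroup.subset_closure (Or.inl (Or.inr ⟨a, rfl⟩))

/-- **Recognition of `PSp₄(q)`** from a root group: `G` simple. -/
theorem iso_of_weak [Finite G] [Finite F] [IsSimpleGroup G] (W : Weak D) (hcU : CU D) (h2 : (2 : F) ≠ 0) {y : F → G}
    (hiso : Nonempty (gen D y ≃* Cfsg.PSp 2 F)) (hw : D.w ∈ gen D y)
    (hnorm : ∀ c, c * D.z = D.z * c → c ∈ Subgroup.normalizer (gen D y : Set G)) : Nonempty (G ≃* Cfsg.PSp 2 F) := by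
  classical
  have := Fintype.ofFinite F
  obtain ⟨e⟩ := hiso
  have hs : IsSimpleGroup (Cfsg.PSp 2 F) := by
    refine S0270.result 2 le_rfl (fun _ => ?_)
    rw [← Nat.card_eq_fintype_card]
    have h3 : ({0, 1, -1} : Finset F).card = 3 := by
      rw [Finset.card_eq_three]
      refine ⟨0, 1, -1, zero_ne_one, ?_, ?_, rfl⟩
      · intro h
        exact one_ne_zero (neg_eq_zero.mp h.symm)
      · intro h
        apply h2
        linear_combination h
    rw [← h3, Nat.card_eq_fintype_card]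
    exact Finset.card_le_univ _
  have hs' : IsSimpleGroup (gen D y) := e.isSimpleGroup_congr.mpr hs
  -- `z ~ w` in `gen`
  have hzw := z_conj_w (weak_restr W (gen₁ D y) (gen₂ D y) hw) h2
  have hzw' : ∃ g ∈ Subgroup.normalizer (gen D y : Set G), g * D.z * g⁻¹ = D.w := by
    obtain ⟨g, hg⟩ := isConj_iff.mp hzw
    exact ⟨g, Subgroup.le_normalizer g.2, congrArg Subtype.val hg⟩
  have htop := eq_top W hcU h2 _ hnorm hzw'
  have hn : (gen D y).Normal := Subgroup.normalizer_eq_top_iff.mp htop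
  have hgen : gen D y = ⊤ := by
    rcases hn.eq_bot_or_eq_top with h | h
    · exfalso
      have h3 : D.z ∈ gen D y := by rw [← D.z₁]; exact gen₁ D y _
      rw [h, Subgroup.mem_bot] at h3
      exact z_ne D h2 h3
    · exact h
  exact ⟨(Subgroup.topEquiv.symm.trans (MulEquiv.subgroupCongr hgen.symm)).trans e⟩

end

end Cfsg.Agent.SpFourOdd.Closing
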