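import Mathlib
import Cfsg.Prelude.Def_Classical

/-!
# Recognition of `PSp₄(q)`, `q` odd: the interfaces

* `Pair G F` : two commuting copies `φ₁, φ₂` of `SL₂(F)` with common centre `⟨z⟩`, swapped by an involution `w`;
* `Hyp D` : the hypotheses of the recognition theorem (centralizer of `z`, fusion, weak information on `C(zw)`);
* `Root D y` : a parametrised short root group `y` with the relations of `Sp₄(F)`.
-/

set_option autoImplicit false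

namespace Cfsg.Agent.SpFourOdd

open Matrix

/-- `SL₂(F)` -/
abbrev SL2 (F : Type*) [Field F] : Type _ := Matrix.SpecialLinearGroup (Fin 2) F

section Mat

variable {F : Type*} [Field F]

/-- upper unipotent matrices -/
def ux (t : F) : SL2 F := ⟨!![1, t; 0, 1], by simp [Matrix.det_fin_two]⟩

/-- lower unipotent matrices -/
def lx (t : F) : SL2 F := ⟨!![1, 0; t, 1], by simp [Matrix.det_fin_two]⟩

/-- diagonal matrices -/
def hx (b : Fˣ) : SL2 F := ⟨!![(b : F), 0; 0, ((b⁻¹ : Fˣ) : F)], by simp [Matrix.det_fin_two]⟩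

/-- the Weyl element -/
def nx : SL2 F := ⟨!![0, 1; -1, 0], by simp [Matrix.det_fin_two]⟩

end Mat

/-- Two commuting copies of `SL₂(F)` with common centre `⟨z⟩`, interchanged by the involution `w`. -/
structure Pair (G F : Type*) [Group G] [Field F] where
  φ₁ : SL2 F →* G
  φ₂ : SL2 F →* G
  z : G
  w : G
  comm : ∀ a b, φ₁ a * φ₂ b = φ₂ b * φ₁ a
  z₁ : φ₁ (-1) = z
  z₂ : φ₂ (-1) = z
  ker : ∀ a b, φ₁ a * φ₂ b = 1 → (a = 1 ∧ b = 1) ∨ (a = -1 ∧ b = -1)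
  ww : w * w = 1
  conj : ∀ a, w * φ₁ a * w = φ₂ a

section

variable {G F : Type*} [Group G] [Field F]

/-- Weak information on `C(u)`, `u = zw`: `O = O(C(u))`, `K₀ = {φ₁ a φ₂ a}`. -/
structure CUData (D : Pair G F) (O : Subgroup G) : Prop where
  odd : Odd (Nat.card O)
  le : ∀ o ∈ O, o * (D.z * D.w) = (D.z * D.w) * o
  norm : ∀ c, c * (D.z * D.w) = (D.z * D.w) * c → ∀ o ∈ O, c * o * c⁻¹ ∈ O
  /-- `K₀ O` is normal in `C(u)` -/
  k0 : ∀ c, c * (D.z * D.w) = (D.z * D.w) * c → ∀ a, ∃ b, ∃ o ∈ O,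
    c * (D.φ₁ a * D.φ₂ a) * c⁻¹ = D.φ₁ b * D.φ₂ b * o
  /-- elements of odd order centralise `z` modulo `O` -/
  star : ∀ c, c * (D.z * D.w) = (D.z * D.w) * c → Odd (orderOf c) → c * D.z * c⁻¹ * D.z⁻¹ ∈ O

/-- The hypotheses of the recognition theorem. -/
structure Hyp (D : Pair G F) : Prop where
  /-- `C(z) = (L₁ ∘ L₂) Φ ⟨w⟩`, `Φ` a group of field automorphisms of odd order, acting in the same way on both
  factors -/
  cent : ∀ c, c * D.z = D.z * c → ∃ (d : G) (σ : F ≃+* F) (a b : SL2 F), (c = d ∨ c = d * D.w) ∧ Odd (orderOf σ) ∧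
    (∀ x, d * D.φ₁ x * d⁻¹ = D.φ₁ (a * SpecialLinearGroup.map (σ : F →+* F) x * a⁻¹)) ∧
    (∀ x, d * D.φ₂ x * d⁻¹ = D.φ₂ (b * SpecialLinearGroup.map (σ : F →+* F) x * b⁻¹))
  /-- the centralizer of `L₁ L₂` is `⟨z⟩` -/
  cent0 : ∀ c, (∀ x, c * D.φ₁ x = D.φ₁ x * c) → (∀ x, c * D.φ₂ x = D.φ₂ x * c) → c = 1 ∨ c = D.z
  /-- fusion -/
  zw : IsConj D.z D.w
  zu : ¬ IsConj D.z (D.z * D.w)
  zk : ∀ a b, a * a = -1 → b * b = -1 → ¬ IsConj D.z (D.φ₁ a * D.φ₂ b)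
  /-- `C(u)` -/
  cu : ∃ O : Subgroup G, CUData D O

/-- the second short root group -/
def y2 (D : Pair G F) (y : F → G) (s : F) : G := D.φ₂ nx * y s * (D.φ₂ nx)⁻¹

/-- The relations of `Sp₄(F)` satisfied by a short root group `y`. -/
structure Root (D : Pair G F) (y : F → G) : Prop where
  add : ∀ s t, y (s + t) = y s * y t
  w : ∀ t, D.w * y t * D.w = y t
  h : ∀ (b : Fˣ) (t : F), D.φ₂ (hx b) * y t * (D.φ₂ (hx b))⁻¹ = y (b * t)
  x : ∀ s t, y t * D.φ₂ (ux s) = D.φ₂ (ux s) * y t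
  /-- `x₂(t) y₂(s) x₂(t)⁻¹ = y₂(s) y(-ts) x₁(s²t)` -/
  rel : ∀ s t, D.φ₂ (ux t) * y2 D y s * (D.φ₂ (ux t))⁻¹ = y2 D y s * y (-(t * s)) * D.φ₁ (ux (s * s * t))
  /-- `y(t) y₂(s) = y₂(s) y(t) x₁(-2ts)` -/
  rel2 : ∀ s t, y t * y2 D y s = y2 D y s * y t * D.φ₁ (ux (-(2 * t * s)))
  /-- an element centralising `φ₁`, `φ₂` and `y` is trivial -/
  faithful : ∀ g, (∀ a, g * D.φ₁ a = D.φ₁ a * g) → (∀ a, g * D.φ₂ a = D.φ₂ a * g) →
    (∀ t, g * y t = y t * g) → g = 1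

/-- the group generated by `φ₁`, `φ₂`, `y` -/
def gen (D : Pair G F) (y : F → G) : Subgroup G :=
  Subgroup.closure (Set.range D.φ₁ ∪ Set.range D.φ₂ ∪ Set.range y)

end

end Cfsg.Agent.SpFourOdd
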