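import Cfsg.Agent.SpFourOdd.RootCalc
import Cfsg.Agent.S1077
import Cfsg.Agent.S1056
import Cfsg.Agent.ChevalleyStructure.StBasic
import Cfsg.Agent.ChevalleyStructure.B2Sp4

/-!
# Recognition of `PSp₄(q)`, `q` odd: the group generated by the root elements

A root group `y` for a pair `φ₁, φ₂` of copies of `SL₂(F)` gives a homomorphism of the group with Steinberg's
presentation of type `B₂` onto the group generated by `φ₁`, `φ₂` and `y`; this group has trivial centre and is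
therefore isomorphic to `PSp₄(F)`.
-/

set_option autoImplicit false

namespace Cfsg.Agent.SpFourOdd

open Cfsg.Lie

section Tables

/-- the permutations of the roots given by `φ₁ nx`, `φ₂ nx`, `w` -/
def sg (i r : ℕ) : ℕ :=
  (([[7, 5, 6, 3, 4, 1, 2, 0], [0, 2, 1, 4, 3, 6, 5, 7], [3, 1, 5, 0, 7, 2, 6, 4]] : List (List ℕ)).getD i []).getD r 0

/-- the signs in the action of `φ₁ nx`, `φ₂ nx`, `w` on the root elements -/
def es (i r : ℕ) : ℤ :=
  (([[-1, 1, -1, 1, 1, -1, 1, -1], [1, 1, -1, -1, -1, -1, 1, 1], [-1, 1, 1, -1, -1, 1, 1, -1]] :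
    List (List ℤ)).getD i []).getD r 1

theorem sg_lt : ∀ i < 3, ∀ r < 8, sg i r < 8 := by decide +kernel
theorem sg_sg : ∀ i < 3, ∀ r < 8, sg i (sg i r) = r := by decide +kernel
theorem sg_neg : ∀ i < 3, ∀ r < 8, chevB2.neg (sg i r) = sg i (chevB2.neg r) := by decide +kernel
theorem neg_lt : ∀ r < 8, chevB2.neg r < 8 := by decide +kernel
theorem es_neg : ∀ i < 3, ∀ r < 8, es i (chevB2.neg r) = es i r := by decide +kernel
theorem es_sq : ∀ i < 3, ∀ r < 8, es i r * es i r = 1 := by decide +kernel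
theorem terms_lt : ∀ r < 8, ∀ s < 8, ∀ c ∈ chevB2.commTerms r s, c.1 < 8 := by decide +kernel
set_option synthInstance.maxSize 1000 in
theorem terms_sg' : ∀ i < 3, ∀ r < 8, ∀ s < 8, s = r ∨ s = chevB2.neg r ∨
    chevB2.commTerms (sg i r) (sg i s) = (chevB2.commTerms r s).map fun c =>
      (sg i c.1, es i c.1 * es i r ^ c.2.2.1 * es i s ^ c.2.2.2 * c.2.1, c.2.2) := by decide +kernel

theorem terms_sg (i : ℕ) (hi : i < 3) (r : ℕ) (hr : r < 8) (s : ℕ) (hs : s < 8) (h1 : s ≠ r)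
    (h2 : s ≠ chevB2.neg r) :
    chevB2.commTerms (sg i r) (sg i s) = (chevB2.commTerms r s).map fun c =>
      (sg i c.1, es i c.1 * es i r ^ c.2.2.1 * es i s ^ c.2.2.2 * c.2.1, c.2.2) :=
  ((terms_sg' i hi r hr s hs).resolve_left h1).resolve_left h2

/-- the elements applied one after the other -/
def appl (w : List ℕ) (r : ℕ) : ℕ := w.foldl (fun r i => sg i r) r

theorem appl_cons (i : ℕ) (w : List ℕ) (r : ℕ) : appl (i :: w) r = appl w (sg i r) := rfl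

/-- the words used -/
def wrds : List (List ℕ) := [[], [0], [1], [2], [0, 1], [2, 0], [2, 1], [2, 0, 1], [0, 2], [1, 2], [0, 1, 2]]

theorem wrds_lt : ∀ w ∈ wrds, ∀ i ∈ w, i < 3 := by decide +kernel

theorem base_pairs : ∀ r < 8, ∀ s < 8, s = r ∨ s = chevB2.neg r ∨ ∃ w ∈ wrds,
    (appl w r, appl w s) ∈ [(7, 4), (4, 6), (6, 4), (6, 5), (4, 5), (5, 4)] := by decide +kernel

theorem base_roots : ∀ r < 8, ∃ w ∈ wrds, appl w r ∈ [7, 5] := by decide +kernel

end Tables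

section

variable {G F : Type*} [Group G] [Field F]

/-- the commutator relation for the pair `(r, s)` -/
def Rel (X : ℕ → F → G) (r s : ℕ) : Prop :=
  ∀ t u : F, (X s u)⁻¹ * (X r t)⁻¹ * X s u * X r t = ((chevB2.commWord F r s t u).map fun p => X p.1 p.2).prod

/-- relation (R3) for the root `r` -/
def HRel (X : ℕ → F → G) (r : ℕ) : Prop :=
  ∃ (h : Fˣ →* G) (n : G), ∀ t : Fˣ, X r t * X (chevB2.neg r) (-((t : F)⁻¹)) * X r t = h t * n

variable {X : ℕ → F → G} {n : ℕ → G}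

theorem es_cast_sq (F : Type*) [Field F] {i r : ℕ} (hi : i < 3) (hr : r < 8) : ((es i r : ℤ) : F) * ((es i r : ℤ) : F) = 1 := by
  rw [← Int.cast_mul, es_sq i hi r hr, Int.cast_one]

theorem Rel.conj (hn : ∀ i < 3, ∀ r < 8, ∀ t, n i * X r t * (n i)⁻¹ = X (sg i r) ((es i r : ℤ) * t))
    {i : ℕ} (hi : i < 3) {r s : ℕ} (hr : r < 8) (hs : s < 8) (h1 : s ≠ r) (h2 : s ≠ chevB2.neg r)
    (h : Rel X r s) : Rel X (sg i r) (sg i s) := by
  intro t u
  have er := es_cast_sq F hi hr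
  have es' := es_cast_sq F hi hs
  have hr' : X (sg i r) t = n i * X r ((es i r : ℤ) * t) * (n i)⁻¹ := by
    rw [hn i hi r hr, ← mul_assoc, er, one_mul]
  have hs' : X (sg i s) u = n i * X s ((es i s : ℤ) * u) * (n i)⁻¹ := by
    rw [hn i hi s hs, ← mul_assoc, es', one_mul]
  rw [hr', hs']
  have e1 : (n i * X s ((es i s : ℤ) * u) * (n i)⁻¹)⁻¹ * (n i * X r ((es i r : ℤ) * t) * (n i)⁻¹)⁻¹ *
      (n i * X s ((es i s : ℤ) * u) * (n i)⁻¹) * (n i * X r ((es i r : ℤ) * t) * (n i)⁻¹) =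
      MulAut.conj (n i) ((X s ((es i s : ℤ) * u))⁻¹ * (X r ((es i r : ℤ) * t))⁻¹ * X s ((es i s : ℤ) * u) *
        X r ((es i r : ℤ) * t)) := by
    simp only [map_mul, map_inv, MulAut.conj_apply]
  rw [e1, h, map_list_prod, List.map_map]
  unfold ChevalleyDatum.commWord
  rw [terms_sg i hi r hr s hs h1 h2, List.map_map, List.map_map, List.map_map]
  congr 1
  apply List.map_congr_left
  intro c hc
  show MulAut.conj (n i) (X c.1 _) = X (sg i c.1) _
  rw [MulAut.conj_apply, hn i hi c.1 (terms_lt r hr s hs c hc)]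
  congr 1
  push_cast
  rw [neg_mul_eq_mul_neg, mul_pow, mul_pow]
  ring

theorem Rel.of_word (hn : ∀ i < 3, ∀ r < 8, ∀ t, n i * X r t * (n i)⁻¹ = X (sg i r) ((es i r : ℤ) * t))
    (w : List ℕ) (hw : ∀ i ∈ w, i < 3) {r s : ℕ} (hr : r < 8) (hs : s < 8) (h1 : s ≠ r)
    (h2 : s ≠ chevB2.neg r) (h : Rel X (appl w r) (appl w s)) : Rel X r s := by
  induction w generalizing r s with
  | nil => exact h
  | cons i w ih =>
    have hi : i < 3 := hw i (List.mem_cons_self ..)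
    rw [appl_cons, appl_cons] at h
    have hr' := sg_lt i hi r hr
    have hs' := sg_lt i hi s hs
    have h1' : sg i s ≠ sg i r := fun e => h1 (by rw [← sg_sg i hi s hs, e, sg_sg i hi r hr])
    have h2' : sg i s ≠ chevB2.neg (sg i r) := fun e => h2 (by
      rw [sg_neg i hi r hr] at e
      rw [← sg_sg i hi s hs, e, sg_sg i hi _ (neg_lt r hr)])
    have h3 := ih (fun j hj => hw j (List.mem_cons_of_mem _ hj)) hr' hs' h1' h2' h
    have h4 := Rel.conj hn hi hr' hs' h1' h2' h3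
    rwa [sg_sg i hi r hr, sg_sg i hi s hs] at h4

theorem HRel.conj (hn : ∀ i < 3, ∀ r < 8, ∀ t, n i * X r t * (n i)⁻¹ = X (sg i r) ((es i r : ℤ) * t))
    {i : ℕ} (hi : i < 3) {r : ℕ} (hr : r < 8) (h : HRel X r) : HRel X (sg i r) := by
  obtain ⟨f, m, h⟩ := h
  have er := es_cast_sq F hi hr
  let e : Fˣ := ⟨((es i r : ℤ) : F), ((es i r : ℤ) : F), er, er⟩
  refine ⟨(MulAut.conj (n i)).toMonoidHom.comp f, MulAut.conj (n i) (f e * m), fun t => ?_⟩
  have h1 := congrArg (MulAut.conj (n i)) (h (e * t))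
  rw [map_mul, map_mul, MulAut.conj_apply, MulAut.conj_apply, hn i hi r hr, hn i hi _ (neg_lt r hr),
    ← sg_neg i hi r hr, es_neg i hi r hr] at h1
  have e1 : ((es i r : ℤ) : F) * ((e * t : Fˣ) : F) = t := by
    show ((es i r : ℤ) : F) * (((es i r : ℤ) : F) * (t : F)) = t
    rw [← mul_assoc, er, one_mul]
  have e2 : ((es i r : ℤ) : F) * -(((e * t : Fˣ) : F)⁻¹) = -((t : F)⁻¹) := by
    show ((es i r : ℤ) : F) * -((((es i r : ℤ) : F) * (t : F))⁻¹) = -((t : F)⁻¹)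
    rw [mul_inv, mul_neg, ← mul_assoc]
    have e0 : ((es i r : ℤ) : F)⁻¹ = ((es i r : ℤ) : F) := inv_eq_of_mul_eq_one_left er
    rw [e0, er, one_mul]
  rw [e1, e2] at h1
  rw [h1, mul_comm e t, map_mul f, mul_assoc (f t), map_mul]
  rfl

theorem HRel.of_word (hn : ∀ i < 3, ∀ r < 8, ∀ t, n i * X r t * (n i)⁻¹ = X (sg i r) ((es i r : ℤ) * t))
    (w : List ℕ) (hw : ∀ i ∈ w, i < 3) {r : ℕ} (hr : r < 8) (h : HRel X (appl w r)) : HRel X r := by
  induction w generalizing r with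
  | nil => exact h
  | cons i w ih =>
    have hi : i < 3 := hw i (List.mem_cons_self ..)
    rw [appl_cons] at h
    have h3 := ih (fun j hj => hw j (List.mem_cons_of_mem _ hj)) (sg_lt i hi r hr) h
    have h4 := HRel.conj hn hi (sg_lt i hi r hr) h3
    rwa [sg_sg i hi r hr] at h4

/-- **Criterion** for a homomorphism from the group given by Steinberg's presentation of type `B₂`. -/
theorem exists_hom (X1 : ∀ r t, ¬ r < 8 → X r t = 1)
    (hadd : ∀ r < 8, ∀ t u, X r t * X r u = X r (t + u))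
    (hn : ∀ i < 3, ∀ r < 8, ∀ t, n i * X r t * (n i)⁻¹ = X (sg i r) ((es i r : ℤ) * t))
    (hrel : ∀ p ∈ ([(7, 4), (4, 6), (6, 4), (6, 5), (4, 5), (5, 4)] : List (ℕ × ℕ)), Rel X p.1 p.2)
    (hh : ∀ r ∈ ([7, 5] : List ℕ), HRel X r) :
    ∃ ψ : chevB2.SteinbergGroup F →* G, ∀ r t, ψ (chevB2.stGen F r t) = X r t := by
  have hneg : ∀ r < 8, ∀ t, X r (-t) = (X r t)⁻¹ := by
    intro r hr t
    have h0 : X r 0 = 1 := by
      have := hadd r hr 0 0
      rw [add_zero] at this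
      exact mul_eq_left.1 this
    rw [eq_inv_iff_mul_eq_one, hadd r hr, neg_add_cancel, h0]
  refine ⟨ChevalleyStructure.StBasic.lift chevB2 X X1 (fun r t₁ t₂ hr => hadd r hr t₁ t₂) ?_ ?_, fun r t =>
    ChevalleyStructure.StBasic.lift_stGen chevB2 X X1 _ _ _ r t⟩
  · intro r s t u hr hs h1 h2
    obtain ⟨w, hw, h⟩ := ((base_pairs r hr s hs).resolve_left h1).resolve_left h2
    exact Rel.of_word hn w (wrds_lt w hw) hr hs h1 h2 (hrel _ h) t u
  · intro r t₁ t₂ hr ht₁ ht₂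
    obtain ⟨w, hw, h⟩ := base_roots r hr
    obtain ⟨f, m, h⟩ := HRel.of_word hn w (wrds_lt w hw) hr (hh _ h)
    have key : ∀ t : F, ∀ ht : t ≠ 0, ((chevB2.hWord r t).map fun p => X p.1 p.2).prod = f (Units.mk0 t ht) := by
      intro t ht
      simp only [ChevalleyDatum.hWord, ChevalleyDatum.nWord, List.map_append, List.map_cons, List.map_nil,
        List.prod_append, List.prod_cons, List.prod_nil, mul_one]
      have e1 : X r t * (X (chevB2.neg r) (-t⁻¹) * X r t) = f (Units.mk0 t ht) * m := by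
        rw [← mul_assoc]; exact h (Units.mk0 t ht)
      have e2 : X r (-1) * (X (chevB2.neg r) (-(-1)⁻¹) * X r (-1)) = m⁻¹ := by
        have h3 := h 1
        rw [map_one, one_mul, Units.val_one, inv_one] at h3
        rw [← h3, inv_neg, inv_one, hneg r hr, hneg _ (neg_lt r hr), hneg _ (neg_lt r hr), mul_inv_rev, mul_inv_rev,
          inv_inv]
      rw [e1, e2, mul_inv_cancel_right]
    rw [key t₁ ht₁, key t₂ ht₂, key (t₁ * t₂) (mul_ne_zero ht₁ ht₂), ← map_mul]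
    congr 1
    ext
    rfl

end

section

variable {G F : Type*} [Group G] [Field F] {D : Pair G F} {y : F → G}

theorem z_comm₁ (D : Pair G F) (a : SL2 F) : SemiconjBy (D.φ₁ a) D.z D.z := by
  rw [← D.z₂]; exact D.comm _ _

theorem z_comm₂ (D : Pair G F) (a : SL2 F) : SemiconjBy (D.φ₂ a) D.z D.z := by
  rw [← D.z₁]; exact (D.comm _ _).symm

theorem Root.z_y2 (R : Root D y) (a : F) : SemiconjBy D.z (y2 D y a) (y2 D y (-a)) :=
  Root.semiconj_conj (z_comm₂ D nx) (R.z_y a)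

theorem Root.z_x2 (R : Root D y) (a : F) : SemiconjBy D.z (x2 D y a) (x2 D y (-a)) :=
  Root.semiconj_conj (z_comm₁ D nx) (R.z_y a)

theorem Root.nx₁_c₀ (R : Root D y) (a : F) : SemiconjBy (D.φ₁ nx) (c₀ D * y a * (c₀ D)⁻¹) (y2 D y (-a)) := by
  have h2 : SemiconjBy (D.φ₁ nx * D.φ₁ nx) (y2 D y a) (y2 D y (-a)) := by
    rw [Root.nx₁_mul_nx₁]; exact R.z_y2 a
  have h3 := h2.mul_left (Root.nx₁_y2 (D := D) (y := y) a).inv_symm_left
  rwa [mul_inv_cancel_right] at h3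

theorem Root.nx₂_c₀ (R : Root D y) (a : F) : SemiconjBy (D.φ₂ nx) (c₀ D * y a * (c₀ D)⁻¹) (x2 D y (-a)) := by
  have h2 : SemiconjBy (D.φ₂ nx * D.φ₂ nx) (x2 D y a) (x2 D y (-a)) := by
    rw [Root.nx₂_mul_nx₂]; exact R.z_x2 a
  have h3 := h2.mul_left (Root.nx₂_x2 (D := D) (y := y) a).inv_symm_left
  rwa [mul_inv_cancel_right] at h3

/-- the root elements, indexed as in `chevB2` -/
def X (D : Pair G F) (y : F → G) (r : ℕ) (t : F) : G :=
  match r with
  | 0 => D.φ₁ (lx t)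
  | 1 => c₀ D * y (-t) * (c₀ D)⁻¹
  | 2 => x2 D y t
  | 3 => D.φ₂ (lx (-t))
  | 4 => D.φ₂ (ux (-t))
  | 5 => y2 D y t
  | 6 => y t
  | 7 => D.φ₁ (ux t)
  | _ => 1

/-- the elements representing reflections -/
def nn (D : Pair G F) (i : ℕ) : G :=
  match i with
  | 0 => D.φ₁ nx
  | 1 => D.φ₂ nx
  | _ => D.w

theorem nn_zero (R : Root D y) (r : ℕ) (hr : r < 8) (t : F) :
    SemiconjBy (D.φ₁ nx) (X D y r t) (X D y (sg 0 r) ((es 0 r : ℤ) * t)) := by
  have e1 : ((1 : ℤ) : F) * t = t := by rw [Int.cast_one, one_mul]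
  have e2 : ((-1 : ℤ) : F) * t = -t := by rw [Int.cast_neg, Int.cast_one, neg_mul, one_mul]
  interval_cases r
  · show SemiconjBy _ (D.φ₁ (lx t)) (D.φ₁ (ux (((-1 : ℤ) : F) * t)))
    rw [e2]
    show _ = _
    rw [← map_mul, nx_mul_lx, map_mul]
  · show SemiconjBy _ (c₀ D * y (-t) * (c₀ D)⁻¹) (y2 D y (((1 : ℤ) : F) * t))
    rw [e1]
    have := R.nx₁_c₀ (-t)
    rwa [neg_neg] at this
  · show SemiconjBy _ (x2 D y t) (y (((-1 : ℤ) : F) * t))
    rw [e2]
    exact R.nx₁_x2 t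
  · show SemiconjBy _ (D.φ₂ (lx (-t))) (D.φ₂ (lx (-(((1 : ℤ) : F) * t))))
    rw [e1]
    exact D.comm _ _
  · show SemiconjBy _ (D.φ₂ (ux (-t))) (D.φ₂ (ux (-(((1 : ℤ) : F) * t))))
    rw [e1]
    exact D.comm _ _
  · show SemiconjBy _ (y2 D y t) (c₀ D * y (-(((-1 : ℤ) : F) * t)) * (c₀ D)⁻¹)
    rw [e2, neg_neg]
    exact Root.nx₁_y2 t
  · show SemiconjBy _ (y t) (x2 D y (((1 : ℤ) : F) * t))
    rw [e1]
    exact Root.nx₁_y t
  · show SemiconjBy _ (D.φ₁ (ux t)) (D.φ₁ (lx (((-1 : ℤ) : F) * t)))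
    rw [e2]
    show _ = _
    rw [← map_mul, nx_mul_ux, map_mul]

theorem nn_one (R : Root D y) (r : ℕ) (hr : r < 8) (t : F) :
    SemiconjBy (D.φ₂ nx) (X D y r t) (X D y (sg 1 r) ((es 1 r : ℤ) * t)) := by
  have e1 : ((1 : ℤ) : F) * t = t := by rw [Int.cast_one, one_mul]
  have e2 : ((-1 : ℤ) : F) * t = -t := by rw [Int.cast_neg, Int.cast_one, neg_mul, one_mul]
  interval_cases r
  · show SemiconjBy _ (D.φ₁ (lx t)) (D.φ₁ (lx (((1 : ℤ) : F) * t)))
    rw [e1]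
    exact (D.comm _ _).symm
  · show SemiconjBy _ (c₀ D * y (-t) * (c₀ D)⁻¹) (x2 D y (((1 : ℤ) : F) * t))
    rw [e1]
    have := R.nx₂_c₀ (-t)
    rwa [neg_neg] at this
  · show SemiconjBy _ (x2 D y t) (c₀ D * y (-(((-1 : ℤ) : F) * t)) * (c₀ D)⁻¹)
    rw [e2, neg_neg]
    exact Root.nx₂_x2 t
  · show SemiconjBy _ (D.φ₂ (lx (-t))) (D.φ₂ (ux (-(((-1 : ℤ) : F) * t))))
    rw [e2]
    show _ = _
    rw [← map_mul, nx_mul_lx, map_mul]
  · show SemiconjBy _ (D.φ₂ (ux (-t))) (D.φ₂ (lx (-(((-1 : ℤ) : F) * t))))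
    rw [e2]
    show _ = _
    rw [← map_mul, nx_mul_ux, map_mul]
  · show SemiconjBy _ (y2 D y t) (y (((-1 : ℤ) : F) * t))
    rw [e2]
    exact R.nx₂_y2 t
  · show SemiconjBy _ (y t) (y2 D y (((1 : ℤ) : F) * t))
    rw [e1]
    exact Root.nx₂_y t
  · show SemiconjBy _ (D.φ₁ (ux t)) (D.φ₁ (ux (((1 : ℤ) : F) * t)))
    rw [e1]
    exact (D.comm _ _).symm

theorem nn_two (R : Root D y) (r : ℕ) (hr : r < 8) (t : F) :
    SemiconjBy D.w (X D y r t) (X D y (sg 2 r) ((es 2 r : ℤ) * t)) := by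
  have e1 : ((1 : ℤ) : F) * t = t := by rw [Int.cast_one, one_mul]
  have e2 : ((-1 : ℤ) : F) * t = -t := by rw [Int.cast_neg, Int.cast_one, neg_mul, one_mul]
  interval_cases r
  · show SemiconjBy _ (D.φ₁ (lx t)) (D.φ₂ (lx (-(((-1 : ℤ) : F) * t))))
    rw [e2, neg_neg]
    exact D.w_mul_φ₁ _
  · show SemiconjBy _ (c₀ D * y (-t) * (c₀ D)⁻¹) (c₀ D * y (-(((1 : ℤ) : F) * t)) * (c₀ D)⁻¹)
    rw [e1]
    exact Root.semiconj_conj Root.c₀_w (R.w_mul_y (-t))
  · show SemiconjBy _ (x2 D y t) (y2 D y (((1 : ℤ) : F) * t))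
    rw [e1]
    exact R.w_mul_x2 t
  · show SemiconjBy _ (D.φ₂ (lx (-t))) (D.φ₁ (lx (((-1 : ℤ) : F) * t)))
    rw [e2]
    exact D.w_mul_φ₂ _
  · show SemiconjBy _ (D.φ₂ (ux (-t))) (D.φ₁ (ux (((-1 : ℤ) : F) * t)))
    rw [e2]
    exact D.w_mul_φ₂ _
  · show SemiconjBy _ (y2 D y t) (x2 D y (((1 : ℤ) : F) * t))
    rw [e1]
    exact R.w_mul_y2 t
  · show SemiconjBy _ (y t) (y (((1 : ℤ) : F) * t))
    rw [e1]
    exact R.w_mul_y t
  · show SemiconjBy _ (D.φ₁ (ux t)) (D.φ₂ (ux (-(((-1 : ℤ) : F) * t))))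
    rw [e2, neg_neg]
    exact D.w_mul_φ₁ _

theorem nn_all (R : Root D y) : ∀ i < 3, ∀ r < 8, ∀ t, nn D i * X D y r t * (nn D i)⁻¹ =
    X D y (sg i r) ((es i r : ℤ) * t) := by
  intro i hi r hr t
  rw [mul_inv_eq_iff_eq_mul]
  interval_cases i
  · exact nn_zero R r hr t
  · exact nn_one R r hr t
  · exact nn_two R r hr t

theorem X_add (R : Root D y) : ∀ r < 8, ∀ t u, X D y r t * X D y r u = X D y r (t + u) := by
  intro r hr t u
  interval_cases r
  · show D.φ₁ (lx t) * D.φ₁ (lx u) = D.φ₁ (lx (t + u))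
    rw [lx_add, map_mul]
  · show c₀ D * y (-t) * (c₀ D)⁻¹ * (c₀ D * y (-u) * (c₀ D)⁻¹) = c₀ D * y (-(t + u)) * (c₀ D)⁻¹
    rw [neg_add, R.add]; group
  · exact (R.x2_add t u).symm
  · show D.φ₂ (lx (-t)) * D.φ₂ (lx (-u)) = D.φ₂ (lx (-(t + u)))
    rw [neg_add, lx_add, map_mul]
  · show D.φ₂ (ux (-t)) * D.φ₂ (ux (-u)) = D.φ₂ (ux (-(t + u)))
    rw [neg_add, ux_add, map_mul]
  · exact (R.y2_add t u).symm
  · exact (R.add t u).symm
  · show D.φ₁ (ux t) * D.φ₁ (ux u) = D.φ₁ (ux (t + u))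
    rw [ux_add, map_mul]

theorem terms_base : chevB2.commTerms 7 4 = [] ∧ chevB2.commTerms 4 6 = [] ∧ chevB2.commTerms 6 4 = [] ∧
    chevB2.commTerms 6 5 = [(7, -2, 1, 1)] ∧ chevB2.commTerms 4 5 = [(6, 1, 1, 1), (7, -1, 1, 2)] ∧
    chevB2.commTerms 5 4 = [(6, -1, 1, 1), (7, -1, 2, 1)] := by decide +kernel

theorem rel_of_commute {X : ℕ → F → G} {r s : ℕ} (h0 : chevB2.commTerms r s = [])
    (h : ∀ t u, Commute (X s u) (X r t)) : Rel X r s := by
  intro t u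
  unfold ChevalleyDatum.commWord
  rw [h0, List.map_nil, List.map_nil, List.prod_nil, mul_assoc, (h t u).eq]
  group

theorem rels (R : Root D y) : ∀ p ∈ ([(7, 4), (4, 6), (6, 4), (6, 5), (4, 5), (5, 4)] : List (ℕ × ℕ)),
    Rel (X D y) p.1 p.2 := by
  obtain ⟨h1, h2, h3, h4, h5, h6⟩ := terms_base
  intro p hp
  simp only [List.mem_cons, List.not_mem_nil, or_false] at hp
  rcases hp with rfl | rfl | rfl | rfl | rfl | rfl
  · exact rel_of_commute h1 fun t u => (D.comm _ _).symm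
  · exact rel_of_commute h2 fun t u => R.x _ _
  · exact rel_of_commute h3 fun t u => (R.x _ _).symm
  · intro t u
    unfold ChevalleyDatum.commWord
    rw [h4]
    show (y2 D y u)⁻¹ * (y t)⁻¹ * y2 D y u * y t =
      D.φ₁ (ux (((-2 : ℤ) : F) * (-t) ^ 1 * u ^ 1)) * 1
    have h : y2 D y (-u) * y (-t) = v D y (-t) (2 * -t * -u) 0 * y2 D y (-u) := R.y2_y (-u) (-t)
    rw [← R.y2_neg, ← R.y_neg, h, mul_assoc (v D y _ _ _), ← R.y2_add, neg_add_cancel, R.y2_zero, mul_one,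
      Root.y_eq (D := D) (y := y) t, R.v_mul, mul_one, R.φ₁_eq]
    congr 1
    · ring
    · push_cast; ring
    · ring
  · intro t u
    unfold ChevalleyDatum.commWord
    rw [h5]
    show (y2 D y u)⁻¹ * (D.φ₂ (ux (-t)))⁻¹ * y2 D y u * D.φ₂ (ux (-t)) =
      y (((1 : ℤ) : F) * (-t) ^ 1 * u ^ 1) * (D.φ₁ (ux (((-1 : ℤ) : F) * (-t) ^ 1 * u ^ 2)) * 1)
    have h : y2 D y (-u) * D.φ₂ (ux t) = v D y (t * -u) (-u * -u * t) t * y2 D y (-u) := R.y2_φ₂ (-u) t
    rw [← R.y2_neg, ← map_inv, ← ux_neg, neg_neg, h, mul_assoc (v D y _ _ _), ← R.y2_add, neg_add_cancel, R.y2_zero,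
      mul_one, R.φ₂_eq, R.v_mul, mul_one, R.φ₁_eq, Root.y_eq (D := D) (y := y) (((1 : ℤ) : F) * (-t) ^ 1 * u ^ 1), R.v_mul]
    congr 1
    · push_cast; ring
    · push_cast; ring
    · ring
  · intro t u
    unfold ChevalleyDatum.commWord
    rw [h6]
    show (D.φ₂ (ux (-u)))⁻¹ * (y2 D y t)⁻¹ * D.φ₂ (ux (-u)) * y2 D y t =
      y (((-1 : ℤ) : F) * (-t) ^ 1 * u ^ 1) * (D.φ₁ (ux (((-1 : ℤ) : F) * (-t) ^ 2 * u ^ 1)) * 1)
    have h : y2 D y (-t) * D.φ₂ (ux (-u)) = v D y (-u * -t) (-t * -t * -u) (-u) * y2 D y (-t) := R.y2_φ₂ (-t) (-u)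
    rw [← R.y2_neg, ← map_inv, ← ux_neg, neg_neg, mul_assoc (D.φ₂ (ux u)), h, mul_assoc (D.φ₂ (ux u)),
      mul_assoc (v D y _ _ _), ← R.y2_add, neg_add_cancel, R.y2_zero,
      mul_one, R.φ₂_eq, R.v_mul, mul_one, R.φ₁_eq, Root.y_eq (D := D) (y := y) (((-1 : ℤ) : F) * (-t) ^ 1 * u ^ 1), R.v_mul]
    congr 1
    · push_cast; ring
    · push_cast; ring
    · ring

theorem neg_seven : chevB2.neg 7 = 0 := by decide +kernel
theorem neg_five : chevB2.neg 5 = 2 := by decide +kernel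

theorem hrels (R : Root D y) : ∀ r ∈ ([7, 5] : List ℕ), HRel (X D y) r := by
  intro r hr
  simp only [List.mem_cons, List.not_mem_nil, or_false] at hr
  rcases hr with rfl | rfl
  · refine ⟨D.φ₁.comp (hxHom F), D.φ₁ nx, fun t => ?_⟩
    rw [neg_seven]
    show D.φ₁ (ux t) * D.φ₁ (lx (-((t : F)⁻¹))) * D.φ₁ (ux t) = D.φ₁ (hx t) * D.φ₁ nx
    rw [← Units.val_inv_eq_inv_val, ← map_mul, ← map_mul, ux_lx_ux, map_mul]
  · let h : Fˣ →* G :=
      { toFun := fun t => D.φ₁ (hx t) * D.φ₂ (hx t⁻¹)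
        map_one' := by rw [inv_one, hx_one, map_one, map_one, mul_one]
        map_mul' := fun a b => by
          rw [mul_inv, hx_mul, hx_mul, map_mul, map_mul]
          have e : D.φ₁ (hx b) * D.φ₂ (hx a⁻¹) = D.φ₂ (hx a⁻¹) * D.φ₁ (hx b) := D.comm _ _
          calc D.φ₁ (hx a) * D.φ₁ (hx b) * (D.φ₂ (hx a⁻¹) * D.φ₂ (hx b⁻¹))
              = D.φ₁ (hx a) * (D.φ₁ (hx b) * D.φ₂ (hx a⁻¹)) * D.φ₂ (hx b⁻¹) := by simp only [mul_assoc]
            _ = D.φ₁ (hx a) * D.φ₂ (hx a⁻¹) * (D.φ₁ (hx b) * D.φ₂ (hx b⁻¹)) := by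
                rw [e]; simp only [mul_assoc] }
    refine ⟨h, D.z * D.w, fun t => ?_⟩
    rw [neg_five]
    show y2 D y t * x2 D y (-((t : F)⁻¹)) * y2 D y t = D.φ₁ (hx t) * D.φ₂ (hx t⁻¹) * (D.z * D.w)
    have h1 := R.nt_eq t
    unfold Root.nt Root.nt' at h1
    rw [Units.val_inv_eq_inv_val] at h1
    have e : hx (-t⁻¹) = hx t⁻¹ * (-1 : SL2 F) := by
      rw [← hx_neg_one, ← hx_mul, mul_neg, mul_one]
    rw [h1, e, map_mul, D.z₂]
    simp only [mul_assoc]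

/-- Steinberg's presentation gives a homomorphism onto the group generated by `φ₁`, `φ₂` and `y`. -/
theorem Root.exists_hom (R : Root D y) :
    ∃ ψ : chevB2.SteinbergGroup F →* G, ∀ r t, ψ (chevB2.stGen F r t) = X D y r t := by
  refine SpFourOdd.exists_hom (n := nn D) ?_ (X_add R) (nn_all R) (rels R) (hrels R)
  intro r t hr
  match r, hr with
  | 0, h => exact absurd (by norm_num) h
  | 1, h => exact absurd (by norm_num) h
  | 2, h => exact absurd (by norm_num) h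
  | 3, h => exact absurd (by norm_num) h
  | 4, h => exact absurd (by norm_num) h
  | 5, h => exact absurd (by norm_num) h
  | 6, h => exact absurd (by norm_num) h
  | 7, h => exact absurd (by norm_num) h
  | n + 8, _ => rfl

/-- A nontrivial group with trivial centre which is an image of the group with Steinberg's presentation of type `B₂`
over a field other than `𝔽₂` is the Chevalley group. -/
theorem nonempty_mulEquiv {F H : Type*} [Field F] [Group H] (hF : ∃ a : F, a ≠ 0 ∧ a ≠ 1)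
    (hc : Subgroup.center H = ⊥) (hn : ∃ g : H, g ≠ 1)
    (ψ : chevB2.SteinbergGroup F →* H) (hψ : Function.Surjective ψ) : Nonempty (H ≃* ↥(chevB2.group F)) := by
  have hsimp : IsSimpleGroup ↥(chevB2.group F) := (Cfsg.Agent.S1056.result hF).1
  obtain ⟨θ, hθ, hker, -⟩ := Cfsg.Agent.S1077.result (K := F) chevB2 (by simp)
  have hle : θ.ker ≤ ψ.ker := by
    rw [hker]
    intro z hz
    rw [MonoidHom.mem_ker]
    have h1 : ψ z ∈ Subgroup.center H := by
      rw [Subgroup.mem_center_iff]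
      intro g
      obtain ⟨x, rfl⟩ := hψ g
      rw [← map_mul, ← map_mul, Subgroup.mem_center_iff.1 hz x]
    rw [hc] at h1
    exact h1
  let e := QuotientGroup.quotientKerEquivOfSurjective θ hθ
  let ψ' : ↥(chevB2.group F) →* H := (QuotientGroup.lift θ.ker ψ hle).comp e.symm.toMonoidHom
  have hsurj : Function.Surjective ψ' := by
    intro g
    obtain ⟨x, rfl⟩ := hψ g
    refine ⟨e (QuotientGroup.mk x), ?_⟩
    show QuotientGroup.lift θ.ker ψ hle (e.symm (e (QuotientGroup.mk x))) = ψ x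
    rw [MulEquiv.symm_apply_apply]
    rfl
  have hinj : Function.Injective ψ' := by
    rw [← MonoidHom.ker_eq_bot_iff]
    rcases (inferInstance : ψ'.ker.Normal).eq_bot_or_eq_top with h | h
    · exact h
    · exfalso
      obtain ⟨g, hg⟩ := hn
      apply hg
      obtain ⟨x, rfl⟩ := hsurj g
      have hx : x ∈ ψ'.ker := by rw [h]; trivial
      exact hx
  exact ⟨(MulEquiv.ofBijective ψ' ⟨hinj, hsurj⟩).symm⟩

theorem mem_gen₁ (D : Pair G F) (y : F → G) (a : SL2 F) : D.φ₁ a ∈ gen D y :=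
  Subgroup.subset_closure (Or.inl (Or.inl ⟨a, rfl⟩))

theorem mem_gen₂ (D : Pair G F) (y : F → G) (a : SL2 F) : D.φ₂ a ∈ gen D y :=
  Subgroup.subset_closure (Or.inl (Or.inr ⟨a, rfl⟩))

theorem mem_gen (D : Pair G F) (y : F → G) (a : F) : y a ∈ gen D y :=
  Subgroup.subset_closure (Or.inr ⟨a, rfl⟩)

theorem X_mem (D : Pair G F) (y : F → G) : ∀ r < 8, ∀ t, X D y r t ∈ gen D y := by
  intro r hr t
  interval_cases r
  · exact mem_gen₁ D y _
  · exact mul_mem (mul_mem (mul_mem (mem_gen₁ D y _) (mem_gen₂ D y _)) (mem_gen D y _))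
      (inv_mem (mul_mem (mem_gen₁ D y _) (mem_gen₂ D y _)))
  · exact mul_mem (mul_mem (mem_gen₁ D y _) (mem_gen D y _)) (inv_mem (mem_gen₁ D y _))
  · exact mem_gen₂ D y _
  · exact mem_gen₂ D y _
  · exact mul_mem (mul_mem (mem_gen₂ D y _) (mem_gen D y _)) (inv_mem (mem_gen₂ D y _))
  · exact mem_gen D y _
  · exact mem_gen₁ D y _

theorem range_eq (ψ : chevB2.SteinbergGroup F →* G)
    (hψ : ∀ r t, ψ (chevB2.stGen F r t) = X D y r t) : ψ.range = gen D y := by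
  apply le_antisymm
  · rw [MonoidHom.range_eq_map, ← ChevalleyStructure.StBasic.closure_stGen, MonoidHom.map_closure,
      Subgroup.closure_le]
    rintro _ ⟨_, ⟨r, t, hr, rfl⟩, rfl⟩
    rw [hψ]
    exact X_mem D y r hr t
  · unfold gen
    rw [Subgroup.closure_le]
    have h1 : ψ.range.comap D.φ₁ = ⊤ := by
      apply eq_top_of_ux_lx
      · intro t; exact ⟨_, hψ 7 t⟩
      · intro t; exact ⟨_, hψ 0 t⟩
    have h2 : ψ.range.comap D.φ₂ = ⊤ := by
      apply eq_top_of_ux_lx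
      · intro t
        refine ⟨_, (hψ 4 (-t)).trans ?_⟩
        show D.φ₂ (ux (- -t)) = _
        rw [neg_neg]
      · intro t
        refine ⟨_, (hψ 3 (-t)).trans ?_⟩
        show D.φ₂ (lx (- -t)) = _
        rw [neg_neg]
    rintro g ((⟨a, rfl⟩ | ⟨a, rfl⟩) | ⟨a, rfl⟩)
    · have ha : a ∈ ψ.range.comap D.φ₁ := by rw [h1]; trivial
      exact ha
    · have ha : a ∈ ψ.range.comap D.φ₂ := by rw [h2]; trivial
      exact ha
    · exact ⟨_, hψ 6 a⟩

/-- the group generated by `φ₁`, `φ₂` and `y` has trivial centre -/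
theorem Root.center_gen (R : Root D y) : Subgroup.center ↥(gen D y) = ⊥ := by
  rw [eq_bot_iff]
  intro g hg
  rw [Subgroup.mem_bot]
  rw [Subgroup.mem_center_iff] at hg
  apply Subtype.ext
  refine R.faithful g.1 (fun a => ?_) (fun a => ?_) (fun a => ?_)
  · exact (congrArg Subtype.val (hg ⟨D.φ₁ a, mem_gen₁ D y a⟩)).symm
  · exact (congrArg Subtype.val (hg ⟨D.φ₂ a, mem_gen₂ D y a⟩)).symm
  · exact (congrArg Subtype.val (hg ⟨y a, mem_gen D y a⟩)).symm

theorem Pair.z_ne_one (D : Pair G F) (h2 : (2 : F) ≠ 0) : D.z ≠ 1 := by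
  intro hz
  have h0 : (-1 : SL2 F) ≠ 1 := by
    intro h
    have h1 := congrArg (fun a : SL2 F => (a : Matrix (Fin 2) (Fin 2) F) 0 0) h
    simp only [Matrix.SpecialLinearGroup.coe_neg, Matrix.SpecialLinearGroup.coe_one, Matrix.neg_apply,
      Matrix.one_apply_eq] at h1
    apply h2
    linear_combination -h1
  rcases D.ker (-1) 1 (by rw [D.z₁, map_one, mul_one, hz]) with h | h
  · exact h0 h.1
  · exact h0 h.2.symm

/-- **The group generated by `φ₁`, `φ₂` and a root group `y` is `PSp₄(F)`.** -/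
theorem Root.iso (R : Root D y) (h2 : (2 : F) ≠ 0) : Nonempty (↥(gen D y) ≃* Cfsg.PSp 2 F) := by
  obtain ⟨ψ, hψ⟩ := R.exists_hom
  have hr := range_eq ψ hψ
  let ψ' : chevB2.SteinbergGroup F →* ↥(gen D y) := (MulEquiv.subgroupCongr hr).toMonoidHom.comp ψ.rangeRestrict
  have hs : Function.Surjective ψ' := (MulEquiv.subgroupCongr hr).surjective.comp ψ.rangeRestrict_surjective
  have hF : ∃ a : F, a ≠ 0 ∧ a ≠ 1 := by
    refine ⟨-1, neg_ne_zero.2 one_ne_zero, fun h => h2 ?_⟩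
    linear_combination -h
  have hn : ∃ g : ↥(gen D y), g ≠ 1 := by
    refine ⟨⟨D.φ₁ (-1), mem_gen₁ D y _⟩, fun h => D.z_ne_one h2 ?_⟩
    have := congrArg Subtype.val h
    rw [← D.z₁]
    exact this
  obtain ⟨e⟩ := nonempty_mulEquiv hF R.center_gen hn ψ' hs
  obtain ⟨e'⟩ := Cfsg.Agent.ChevalleyStructure.B2Sp4.chevB2_equiv_PSp F
  exact ⟨e.trans e'⟩

/-- The involution `w` interchanging the two copies of `SL₂(F)` lies in the group generated. -/
theorem Root.w_mem (R : Root D y) : D.w ∈ gen D y := R.w_mem'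

end

end Cfsg.Agent.SpFourOdd
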