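import Cfsg.Agent.SpFourOdd.Closing
import Cfsg.Agent.SpFourOdd.Field
import Cfsg.Agent.SpFourOdd.Steinberg

/-!
# Recognition of `PSp₄(q)`, `q` odd: conclusion from a root group
-/

set_option autoImplicit false

namespace Cfsg.Agent.SpFourOdd.Closing

open Matrix

section

variable {G F : Type*} [Group G] [Field F] {D : Pair G F}

/-- `C(z)` normalises `gen D y` as soon as `range y` is invariant under the field automorphisms -/
theorem norm_gen [Finite G] (hc : CentF D) (h0 : Cent0 D) (zw : IsConj D.z D.w) (zu : ¬ IsConj D.z (D.z * D.w))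
    {y : F → G} (hw : D.w ∈ gen D y)
    (hY : ∀ f, f * D.z = D.z * f → f * D.w = D.w * f →
      (∀ t, ∃ s, f * (D.φ₁ (ux t) * D.φ₂ (ux t)) * f⁻¹ = D.φ₁ (ux s) * D.φ₂ (ux s)) → ∀ t, ∃ s, f * y t * f⁻¹ = y s)
    {c : G} (hcz : c * D.z = D.z * c) : c ∈ Subgroup.normalizer (gen D y : Set G) := by
  obtain ⟨d, σ, a, b, hcd, hodd, h₁, h₂⟩ := hc c hcz
  have hw' : D.w ∈ Subgroup.normalizer (gen D y : Set G) := Subgroup.le_normalizer hw
  have hab : D.φ₁ a * D.φ₂ b ∈ Subgroup.normalizer (gen D y : Set G) :=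
    Subgroup.le_normalizer (mul_mem (gen₁ D y a) (gen₂ D y b))
  -- `f = (φ₁ a φ₂ b)⁻¹ d`
  set f := (D.φ₁ a * D.φ₂ b)⁻¹ * d with hf
  have hd : d = D.φ₁ a * D.φ₂ b * f := by rw [hf]; group
  have f₁ : ∀ x, f * D.φ₁ x * f⁻¹ = D.φ₁ (SpecialLinearGroup.map (σ : F →+* F) x) := by
    intro x
    have e : f * D.φ₁ x * f⁻¹ = (D.φ₁ a * D.φ₂ b)⁻¹ * (d * D.φ₁ x * d⁻¹) * (D.φ₁ a * D.φ₂ b) := by rw [hf]; group
    rw [e, h₁, inv_form]
    have i1 : ∀ x, D.φ₁ x = D.φ₁ x * D.φ₂ 1 := fun x => by rw [map_one, mul_one]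
    rw [i1 (a * _ * _), mul_form, mul_form, mul_one, inv_mul_cancel, ← i1]
    congr 1
    group
  have f₂ : ∀ x, f * D.φ₂ x * f⁻¹ = D.φ₂ (SpecialLinearGroup.map (σ : F →+* F) x) := by
    intro x
    have e : f * D.φ₂ x * f⁻¹ = (D.φ₁ a * D.φ₂ b)⁻¹ * (d * D.φ₂ x * d⁻¹) * (D.φ₁ a * D.φ₂ b) := by rw [hf]; group
    rw [e, h₂, inv_form]
    have i1 : ∀ x, D.φ₂ x = D.φ₁ 1 * D.φ₂ x := fun x => by rw [map_one, one_mul]
    rw [i1 (b * _ * _), mul_form, mul_form, mul_one, inv_mul_cancel, ← i1]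
    congr 1
    group
  have hneg : SpecialLinearGroup.map (σ : F →+* F) (-1 : SL2 F) = -1 := by
    apply ent_ext
    · rw [ent_map, ent_neg, one00]; simp
    · rw [ent_map, ent_neg, one01]; simp
    · rw [ent_map, ent_neg, one10]; simp
    · rw [ent_map, ent_neg, one11]; simp
  have hfz : f * D.z = D.z * f := by
    have := f₁ (-1)
    rw [hneg, D.z₁] at this
    exact mul_inv_eq_iff_eq_mul.mp this
  have hfw : f * D.w = D.w * f := by
    have h3 : f * D.w * f⁻¹ * D.w⁻¹ = 1 ∨ f * D.w * f⁻¹ * D.w⁻¹ = D.z := by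
      have key : ∀ x, f⁻¹ * D.φ₁ x * f = D.φ₁ (SpecialLinearGroup.map (σ.symm : F →+* F) x) ∧
          f⁻¹ * D.φ₂ x * f = D.φ₂ (SpecialLinearGroup.map (σ.symm : F →+* F) x) := by
        intro x
        have hx : SpecialLinearGroup.map (σ : F →+* F) (SpecialLinearGroup.map (σ.symm : F →+* F) x) = x := by
          rw [map_map']
          have : σ.symm.trans σ = RingEquiv.refl F := by ext t; simp
          rw [this, map_refl]
        constructor
        · have := f₁ (SpecialLinearGroup.map (σ.symm : F →+* F) x)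
          rw [hx] at this
          rw [← this]
          group
        · have := f₂ (SpecialLinearGroup.map (σ.symm : F →+* F) x)
          rw [hx] at this
          rw [← this]
          group
      have hσσ : ∀ x : SL2 F, SpecialLinearGroup.map (σ : F →+* F) (SpecialLinearGroup.map (σ.symm : F →+* F) x) = x := by
        intro x
        rw [map_map']
        have : σ.symm.trans σ = RingEquiv.refl F := by ext t; simp
        rw [this, map_refl]
      apply h0
      · intro x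
        rw [← mul_inv_eq_iff_eq_mul]
        have e : f * D.w * f⁻¹ * D.w⁻¹ * D.φ₁ x * (f * D.w * f⁻¹ * D.w⁻¹)⁻¹ =
          f * (D.w * (f⁻¹ * (D.w⁻¹ * D.φ₁ x * D.w) * f) * D.w⁻¹) * f⁻¹ := by group
        rw [e, w_inv, D.conj, (key x).2, w₂, mul_assoc (D.φ₁ _), D.ww, mul_one, f₁, hσσ]
      · intro x
        rw [← mul_inv_eq_iff_eq_mul]
        have e : f * D.w * f⁻¹ * D.w⁻¹ * D.φ₂ x * (f * D.w * f⁻¹ * D.w⁻¹)⁻¹ =
          f * (D.w * (f⁻¹ * (D.w⁻¹ * D.φ₂ x * D.w) * f) * D.w⁻¹) * f⁻¹ := by group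
        rw [e, w_inv, w₂, mul_assoc (D.φ₁ _), D.ww, mul_one, (key x).1, D.conj, f₂, hσσ]
    rcases h3 with h4 | h4
    · rw [mul_inv_eq_one] at h4
      exact mul_inv_eq_iff_eq_mul.mp h4
    · exfalso
      rw [mul_inv_eq_iff_eq_mul] at h4
      exact zu (zw.trans (isConj_iff.mpr ⟨f, h4⟩))
  have hYf := hY f hfz hfw (fun t => ⟨σ t, by
    have e : f * (D.φ₁ (ux t) * D.φ₂ (ux t)) * f⁻¹ = (f * D.φ₁ (ux t) * f⁻¹) * (f * D.φ₂ (ux t) * f⁻¹) := by group
    rw [e, f₁, f₂, map_ux]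
    rfl⟩)
  have hfn : f ∈ Subgroup.normalizer (gen D y : Set G) := by
    apply Subgroup.mem_normalizer_fintype
    intro g hg
    induction hg using Subgroup.closure_induction with
    | mem x hx =>
      rcases hx with (⟨a, rfl⟩ | ⟨a, rfl⟩) | ⟨t, rfl⟩
      · rw [f₁]; exact gen₁ D y _
      · rw [f₂]; exact gen₂ D y _
      · obtain ⟨s, hs⟩ := hYf t
        rw [hs]
        exact Subgroup.subset_closure (Or.inr ⟨s, rfl⟩)
    | one =>
      rw [mul_one, mul_inv_cancel]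
      exact one_mem _
    | mul x x' _ _ hx hx' =>
      have e : f * (x * x') * f⁻¹ = (f * x * f⁻¹) * (f * x' * f⁻¹) := by group
      rw [e]
      exact mul_mem hx hx'
    | inv x _ hx =>
      have e : f * x⁻¹ * f⁻¹ = (f * x * f⁻¹)⁻¹ := by group
      rw [e]
      exact inv_mem hx
  have hdn : d ∈ Subgroup.normalizer (gen D y : Set G) := by
    rw [hd]
    exact mul_mem hab hfn
  rcases hcd with rfl | rfl
  · exact hdn
  · exact mul_mem hdn hw'

/-- **Recognition of `PSp₄(q)`**, `q` odd: a simple group with `Hyp D` and a root group which is invariant under the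
elements of `C(z) ∩ C(w)` normalising `P`. -/
theorem iso_of_root [Finite G] [Finite F] [IsSimpleGroup G] (h2 : (2 : F) ≠ 0) (H : Hyp D) {y : F → G} (R : Root D y)
    (hY : ∀ f, f * D.z = D.z * f → f * D.w = D.w * f →
      (∀ t, ∃ s, f * (D.φ₁ (ux t) * D.φ₂ (ux t)) * f⁻¹ = D.φ₁ (ux s) * D.φ₂ (ux s)) → ∀ t, ∃ s, f * y t * f⁻¹ = y s) :
    Nonempty (G ≃* Cfsg.PSp 2 F) :=
  iso_of_weak (weak_of_field H.cent H.cent0 H.zu H.zk) (H.cu.elim fun _ h => CU_of h) h2 (R.iso h2) R.w_mem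
    (fun _ hc => norm_gen H.cent H.cent0 H.zw H.zu R.w_mem hY hc)

end

end Cfsg.Agent.SpFourOdd.Closing
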