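import Cfsg.Agent.SpFourOdd.Defs

/-!
# Recognition of `PSp₄(q)`, `q` odd: the interface between the line part and the point part
-/

set_option autoImplicit false

namespace Cfsg.Agent.SpFourOdd

open Matrix

variable {G F : Type*} [Group G] [Field F]

/-- What the line part delivers: the short root group `Y = [U, z]`, where `U = X₁ × X₂ × Y` is the elementary
abelian group of order `q³`. -/
structure Line (p : ℕ) (D : Pair G F) (Y : Subgroup G) : Prop where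
  card : Nat.card Y = Nat.card F
  exp : ∀ y ∈ Y, y ^ p = 1
  inv : ∀ y ∈ Y, D.z * y * D.z = y⁻¹
  w : ∀ y ∈ Y, D.w * y = y * D.w
  x : ∀ y ∈ Y, ∀ t : F, y * D.φ₂ (ux t) = D.φ₂ (ux t) * y
  h : ∀ b : Fˣ, ∀ y ∈ Y, D.φ₂ (hx b) * y * (D.φ₂ (hx b))⁻¹ ∈ Y
  /-- `Y` is conjugate to `P⁻ = {x₁(t) x₂(-t)}` -/
  conj : ∃ g : G, ∀ x, x ∈ Y ↔ ∃ t : F, x = g * (D.φ₁ (ux t) * D.φ₂ (ux (-t))) * g⁻¹
  /-- `Y` is canonical -/
  norm : ∀ f, f * D.z = D.z * f → f * D.w = D.w * f →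
    (∀ t, ∃ s, f * (D.φ₁ (ux t) * D.φ₂ (ux t)) * f⁻¹ = D.φ₁ (ux s) * D.φ₂ (ux s)) → ∀ y ∈ Y, f * y * f⁻¹ ∈ Y
  /-- the `p`-part of `|C(Y)|` is at most `q³` -/
  cen : ∀ A : Subgroup G, IsPGroup p A → (∀ a ∈ A, ∀ y ∈ Y, a * y = y * a) → Nat.card A ≤ Nat.card F ^ 3

end Cfsg.Agent.SpFourOdd
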