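import Cfsg.Agent.SpFourOdd.PtK
import Cfsg.Agent.Walter.OddCoreIn
import Cfsg.Agent.Lib.KleinGen
import Cfsg.Agent.Lib.PGroupCoprimeAction

/-!
# The line part: generic lemmas (isolated involutions, invariant Sylow subgroups)
-/

set_option autoImplicit false
set_option linter.all false

namespace Cfsg.Agent.SpFourOdd.LnGrp

open Cfsg.Agent.Walter.OddCoreIn

variable {G : Type*} [Group G] [Finite G]

theorem odd_card_OO (M : Subgroup G) : Odd (Nat.card (OO M)) := by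
  rw [← Nat.not_even_iff_odd, even_iff_two_dvd]
  exact OO_odd M

theorem odd_of_mem {S : Subgroup G} (hS : Odd (Nat.card S)) {x : G} (hx : x ∈ S) : Odd (orderOf x) := by
  refine Odd.of_dvd_nat hS ?_
  have : orderOf (⟨x, hx⟩ : S) ∣ Nat.card S := orderOf_dvd_natCard _
  rwa [Subgroup.orderOf_mk] at this

theorem mul_mem_OO {M : Subgroup G} {m n : G} (hm : m ∈ M) (hn : n ∈ OO M) : m * n * m⁻¹ ∈ OO M :=
  conj_mem (le_normalizer_OO M) hm hn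

/-- `g M g⁻¹ ≤ M` implies `g O(M) g⁻¹ ≤ O(M)` -/
theorem conj_OO {M : Subgroup G} {g : G} (hg : ∀ m ∈ M, g * m * g⁻¹ ∈ M) {n : G} (hn : n ∈ OO M) :
    g * n * g⁻¹ ∈ OO M := by
  have h1 : (OO M).map (MulAut.conj g).toMonoidHom ≤ OO M := by
    have hmap : M.map (MulAut.conj g).toMonoidHom = M := by
      apply Subgroup.eq_of_le_of_card_ge
      · rintro _ ⟨m, hm, rfl⟩
        exact hg m hm
      · rw [Subgroup.card_map_of_injective (MulAut.conj g).injective]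
    apply le_OO
    · rintro _ ⟨n, hn, rfl⟩
      exact hg n (OO_le M hn)
    · rw [le_normalizer_iff']
      rintro a ha _ ⟨n, hn, rfl⟩
      rw [← hmap] at ha
      obtain ⟨a, ha, rfl⟩ := ha
      refine ⟨a * n * a⁻¹, mul_mem_OO ha hn, ?_⟩
      change g * (a * n * a⁻¹) * g⁻¹ = g * a * g⁻¹ * (g * n * g⁻¹) * (g * a * g⁻¹)⁻¹
      group
    · rw [Subgroup.card_map_of_injective (MulAut.conj g).injective]
      exact OO_odd M
  exact h1 ⟨n, hn, rfl⟩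

/-- Z* inside a subgroup -/
theorem zstar_OO {M : Subgroup G} {v : G} (hv : v ∈ M) (hvv : v * v = 1) (hv1 : v ≠ 1)
    (hiso : ∀ m ∈ M, v * (m * v * m⁻¹) = (m * v * m⁻¹) * v → m * v * m⁻¹ = v) {m : G} (hm : m ∈ M) :
    v * m * v⁻¹ * m⁻¹ ∈ OO M := by
  have h1 : Cfsg.IsIsolatedInvolution (⟨v, hv⟩ : M) := by
    constructor
    · rw [Subgroup.orderOf_mk]
      exact orderOf_eq_prime (by rw [pow_two, hvv]) hv1
    · rintro ⟨g, hg⟩ hc
      apply Subtype.ext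
      exact hiso g hg (congrArg Subtype.val hc)
  obtain ⟨N, hN, hodd, h⟩ := Pt.zstar _ h1
  have h3 : N.map M.subtype ≤ OO M := by
    apply le_OO (Subgroup.map_subtype_le _)
    · rw [le_normalizer_iff']
      rintro a ha _ ⟨n, hn, rfl⟩
      exact ⟨⟨a, ha⟩ * n * ⟨a, ha⟩⁻¹, hN.conj_mem n hn _, rfl⟩
    · rw [Subgroup.card_map_of_injective (Subgroup.subtype_injective _), ← even_iff_two_dvd, Nat.not_even_iff_odd]
      exact hodd
  exact h3 ⟨_, h ⟨m, hm⟩, rfl⟩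

/-- the square root in an odd order subgroup -/
theorem mem_of_inv {M : Subgroup G} {v k : G} (hk : Odd (orderOf k)) (h : v * k * v⁻¹ = k⁻¹)
    (hm : v * k * v⁻¹ * k⁻¹ ∈ M) : k ∈ M := by
  obtain ⟨n, hn⟩ := hk
  rw [h] at hm
  have h1 : (k⁻¹ * k⁻¹) ^ n = k := by
    have : k⁻¹ * k⁻¹ = (k ^ 2)⁻¹ := by rw [pow_two, mul_inv_rev]
    rw [this, inv_pow, ← pow_mul]
    have h3 : k ^ (2 * n) * k = 1 := by rw [← pow_succ, ← hn, pow_orderOf_eq_one]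
    exact inv_eq_of_mul_eq_one_right h3
  rw [← h1]
  exact M.pow_mem hm n

/-- `M = N C_M(v)` -/
theorem decomp {M N : Subgroup G} (hodd : Odd (Nat.card N)) {v : G} (hvv : v * v = 1)
    (hvN : ∀ n ∈ N, v * n * v⁻¹ ∈ N) (hZ : ∀ m ∈ M, v * m * v⁻¹ * m⁻¹ ∈ N) {m : G} (hm : m ∈ M) :
    ∃ n ∈ N, ∃ c, c * v = v * c ∧ m = n * c := by
  have hvi : v⁻¹ = v := inv_eq_of_mul_eq_one_right hvv
  obtain ⟨k, hk⟩ := Lib.KleinGen.exists_sqrt_exponent N hodd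
  -- `t = m v m⁻¹`, `t v ∈ N`
  have h0 : m * v * m⁻¹ * v ∈ N := by
    have h1 := N.inv_mem (hZ m hm)
    have h2 : (v * m * v⁻¹ * m⁻¹)⁻¹ = m * v * m⁻¹ * v⁻¹ := by group
    rw [h2] at h1
    rwa [hvi] at h1
  set n0 := m * v * m⁻¹ * v with hn0
  have h1 : v * n0 * v⁻¹ = n0⁻¹ := by
    rw [hn0, hvi]
    simp only [mul_inv_rev, inv_inv, hvi]
    calc v * (m * v * m⁻¹ * v) * v = v * (m * v * m⁻¹) * (v * v) := by group
      _ = v * (m * (v * m⁻¹)) := by rw [hvv]; group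
      _ = v * (m * (v * m⁻¹)) := rfl
  refine ⟨n0 ^ k, N.pow_mem h0 k, (n0 ^ k)⁻¹ * m, ?_, by group⟩
  have h3 : v * (n0 ^ k) * v⁻¹ = (n0 ^ k)⁻¹ := by
    rw [← inv_pow, ← h1, conj_pow]
  have h4 : n0 ^ k * v * (n0 ^ k)⁻¹ = m * v * m⁻¹ := by
    have h5 : v * (n0 ^ k)⁻¹ = n0 ^ k * v := by
      rw [← h3]
      calc v * (v * n0 ^ k * v⁻¹) = (v * v) * n0 ^ k * v⁻¹ := by group
        _ = n0 ^ k * v := by rw [hvv, one_mul, hvi]
    rw [mul_assoc, h5, ← mul_assoc, (hk n0 h0).1, hn0, mul_assoc _ v v, hvv, mul_one]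
  calc (n0 ^ k)⁻¹ * m * v = (n0 ^ k)⁻¹ * (m * v * m⁻¹) * m := by group
    _ = (n0 ^ k)⁻¹ * (n0 ^ k * v * (n0 ^ k)⁻¹) * m := by rw [h4]
    _ = v * ((n0 ^ k)⁻¹ * m) := by group

section InvSyl

variable {p : ℕ}

/-- `S` is an `A`-invariant Sylow `p`-subgroup of `H` -/
def InvSyl (p : ℕ) (A H S : Subgroup G) : Prop :=
  (∃ T : Sylow p H, (T : Subgroup H).map H.subtype = S) ∧ ∀ b ∈ A, ∀ u ∈ S, b * u * b⁻¹ ∈ S

theorem InvSyl.le {A H S : Subgroup G} (h : InvSyl p A H S) : S ≤ H :=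
  (Blocks.SylowIn.exists_sylow_map_eq_iff.1 h.1).1

theorem InvSyl.isPGroup {A H S : Subgroup G} (h : InvSyl p A H S) : IsPGroup p S :=
  (Blocks.SylowIn.exists_sylow_map_eq_iff.1 h.1).2.1

variable [Fact p.Prime]

omit [Finite G] in
theorem two_not_dvd {H : Subgroup G} (hH : Odd (Nat.card H)) : ¬ 2 ∣ Nat.card H := by
  rw [← even_iff_two_dvd, Nat.not_even_iff_odd]
  exact hH

/-- the invariant Sylow subgroup is unique if `C_H(A)` normalises it -/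
theorem InvSyl.unique {A H S T : Subgroup G} (hA : IsPGroup 2 A) (hH : Odd (Nat.card H))
    (hAH : ∀ b ∈ A, ∀ u ∈ H, b * u * b⁻¹ ∈ H) (hS : InvSyl p A H S) (hT : InvSyl p A H T)
    (hc : ∀ c ∈ H, (∀ b ∈ A, b * c = c * b) → ∀ s ∈ S, c * s * c⁻¹ ∈ S) : T = S := by
  have : Fact (Nat.Prime 2) := ⟨Nat.prime_two⟩
  obtain ⟨c, ⟨hcH, hcA⟩, h⟩ := Lib.PGroupCoprimeAction.exists_centralizer_conj hA (two_not_dvd hH) hAH hS.1 hT.1
    hS.2 hT.2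
  rw [← h]
  apply Subgroup.eq_of_le_of_card_ge
  · rintro _ ⟨s, hs, rfl⟩
    exact hc c hcH (fun b hb => Subgroup.mem_centralizer_iff.1 hcA b hb) s hs
  · rw [Subgroup.card_map_of_injective (MulAut.conj c).injective]

theorem exists_InvSyl_ge {A H R : Subgroup G} (hA : IsPGroup 2 A) (hH : Odd (Nat.card H))
    (hAH : ∀ b ∈ A, ∀ u ∈ H, b * u * b⁻¹ ∈ H) (hRH : R ≤ H) (hR : IsPGroup p R)
    (hAR : ∀ b ∈ A, ∀ u ∈ R, b * u * b⁻¹ ∈ R) : ∃ S, InvSyl p A H S ∧ R ≤ S := by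
  have : Fact (Nat.Prime 2) := ⟨Nat.prime_two⟩
  obtain ⟨S, h1, h2, h3⟩ := Lib.PGroupCoprimeAction.exists_invariant_sylow_ge hA (two_not_dvd hH) hAH hRH hR hAR
  exact ⟨S, ⟨h1, h2⟩, h3⟩

/-- invariant Sylow subgroups are mapped to invariant Sylow subgroups -/
theorem InvSyl.conj {A H S : Subgroup G} (hS : InvSyl p A H S) {f : G} (hfA : ∀ a ∈ A, f⁻¹ * a * f ∈ A)
    (hfH : ∀ a ∈ H, f * a * f⁻¹ ∈ H) : InvSyl p A H (S.map (MulAut.conj f).toMonoidHom) := by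
  have hmap : H.map (MulAut.conj f).toMonoidHom = H := by
    apply Subgroup.eq_of_le_of_card_ge
    · rintro _ ⟨m, hm, rfl⟩
      exact hfH m hm
    · rw [Subgroup.card_map_of_injective (MulAut.conj f).injective]
  obtain ⟨h1, h2, h3⟩ := Blocks.SylowIn.exists_sylow_map_eq_iff.1 hS.1
  refine ⟨Blocks.SylowIn.exists_sylow_map_eq_iff.2 ⟨?_, h2.map _, ?_⟩, ?_⟩
  · rw [← hmap]
    exact Subgroup.map_mono h1
  · intro Q hQH hQ hSQ
    have h4 : Q.map (MulAut.conj f⁻¹).toMonoidHom ≤ H := by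
      rintro _ ⟨q, hq, rfl⟩
      have h5 := hQH hq
      rw [← hmap] at h5
      obtain ⟨h, hh, rfl⟩ := h5
      change f⁻¹ * (f * h * f⁻¹) * f⁻¹⁻¹ ∈ H
      have e : f⁻¹ * (f * h * f⁻¹) * f⁻¹⁻¹ = h := by group
      rw [e]
      exact hh
    have h5 : S ≤ Q.map (MulAut.conj f⁻¹).toMonoidHom := by
      intro s hs
      refine ⟨f * s * f⁻¹, hSQ ⟨s, hs, rfl⟩, ?_⟩
      change f⁻¹ * (f * s * f⁻¹) * f⁻¹⁻¹ = s
      group
    have h6 := h3 _ h4 (hQ.map _) h5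
    rw [← h6]
    ext x
    constructor
    · intro hx
      refine ⟨f⁻¹ * x * f, ⟨x, hx, by simp⟩, ?_⟩
      change f * (f⁻¹ * x * f) * f⁻¹ = x
      group
    · rintro ⟨_, ⟨y, hy, rfl⟩, rfl⟩
      change f * (f⁻¹ * y * f⁻¹⁻¹) * f⁻¹ ∈ Q
      have e : f * (f⁻¹ * y * f⁻¹⁻¹) * f⁻¹ = y := by group
      rw [e]
      exact hy
  · rintro b hb _ ⟨s, hs, rfl⟩
    refine ⟨(f⁻¹ * b * f) * s * (f⁻¹ * b * f)⁻¹, hS.2 _ (hfA b hb) s hs, ?_⟩
    change f * ((f⁻¹ * b * f) * s * (f⁻¹ * b * f)⁻¹) * f⁻¹ = b * (f * s * f⁻¹) * b⁻¹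
    group

end InvSyl

end Cfsg.Agent.SpFourOdd.LnGrp
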