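import Cfsg.Agent.SpFourOdd.LnMax
import Cfsg.Agent.SpFourOdd.LnGrp

/-!
# The line part: `X₁X₂` and its conjugate under the swap lie in one `p`-group of `O(C(P))`
-/

set_option autoImplicit false
set_option linter.all false

namespace Cfsg.Agent.SpFourOdd.LnA

open Matrix LnX LnGrp
open Cfsg.Agent.Walter.OddCoreIn
open Closing (kk kk_mul kk_inv kk_one kk_neg kk_w kk_z zz z_ne neg₁ neg₂ z_comm₁ z_comm₂ w_inv z_inv w₁ w₂ wz
  eq_iff inj₁ inj₂ eq₁₂ mul_form inv_form w_form z_form)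

variable {G F : Type*} [Group G] [Field F]

/-- the input of the line part -/
structure Inp (p : ℕ) (D : Pair G F) (g : G) : Prop where
  gz : g * D.z * g⁻¹ = D.w
  gw : g * D.w * g⁻¹ = D.z
  gP : ∀ t, ∃ s, g * kk D (ux t) * g⁻¹ = kk D (ux s)
  zinv : ∀ A : Subgroup G, IsPGroup p A → (∀ a ∈ A, a * (D.z * D.w) = D.z * D.w * a) →
    (∀ a ∈ A, D.z * a * D.z⁻¹ ∈ A) → ∀ a ∈ A, a * D.z = D.z * a
  iso : ∀ m, (∀ t, m * kk D (ux t) = kk D (ux t) * m) →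
    D.z * D.w * (m * (D.z * D.w) * m⁻¹) = m * (D.z * D.w) * m⁻¹ * (D.z * D.w) → m * (D.z * D.w) * m⁻¹ = D.z * D.w
  pel : ∀ N : Subgroup G, (∀ t, kk D (ux t) ∈ N) → ∀ c, c * (D.z * D.w) = D.z * D.w * c →
    (∀ t, c * kk D (ux t) = kk D (ux t) * c) → ∀ n, c ^ (p ^ n) ∈ N → c ∈ N

section basics

variable (D : Pair G F)

/-- `{1, z}` -/
def ZZ : Subgroup G where
  carrier := {v | v = 1 ∨ v = D.z}
  one_mem' := Or.inl rfl
  mul_mem' := by
    rintro a b (rfl | rfl) (rfl | rfl)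
    · exact Or.inl (mul_one _)
    · exact Or.inr (one_mul _)
    · exact Or.inr (mul_one _)
    · exact Or.inl (zz D)
  inv_mem' := by
    rintro a (rfl | rfl)
    · exact Or.inl inv_one
    · exact Or.inr (z_inv D)

/-- `{1, z, w, zw}` -/
def VV : Subgroup G where
  carrier := {v | v = 1 ∨ v = D.z ∨ v = D.w ∨ v = D.z * D.w}
  one_mem' := Or.inl rfl
  mul_mem' := by
    have hz := zz D
    have hw := D.ww
    have hwz := wz D
    have e1 : D.z * (D.z * D.w) = D.w := by rw [← mul_assoc, hz, one_mul]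
    have e2 : D.w * (D.z * D.w) = D.z := by rw [← mul_assoc, hwz, mul_assoc, hw, mul_one]
    have e3 : D.z * D.w * D.z = D.w := by rw [mul_assoc, hwz, e1]
    have e4 : D.z * D.w * D.w = D.z := by rw [mul_assoc, hw, mul_one]
    have e5 : D.z * D.w * (D.z * D.w) = 1 := by rw [← mul_assoc, e3, hw]
    rintro a b (rfl | rfl | rfl | rfl) (rfl | rfl | rfl | rfl)
    · left; rw [mul_one]
    · right; left; rw [one_mul]
    · right; right; left; rw [one_mul]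
    · right; right; right; rw [one_mul]
    · right; left; rw [mul_one]
    · left; exact hz
    · right; right; right; rfl
    · right; right; left; exact e1
    · right; right; left; rw [mul_one]
    · right; right; right; exact hwz
    · left; exact hw
    · right; left; exact e2
    · right; right; right; rw [mul_one]
    · right; right; left; exact e3
    · right; left; exact e4
    · left; exact e5
  inv_mem' := by
    intro a ha
    have : a⁻¹ = a := inv_eq_of_mul_eq_one_right (v_sq ha)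
    change a⁻¹ = 1 ∨ a⁻¹ = D.z ∨ a⁻¹ = D.w ∨ a⁻¹ = D.z * D.w
    rw [this]
    exact ha

theorem z_VV : D.z ∈ VV D := Or.inr (Or.inl rfl)
theorem w_VV : D.w ∈ VV D := Or.inr (Or.inr (Or.inl rfl))
theorem u_VV : D.z * D.w ∈ VV D := Or.inr (Or.inr (Or.inr rfl))
theorem z_ZZ : D.z ∈ ZZ D := Or.inr rfl

theorem uu : D.z * D.w * (D.z * D.w) = 1 := v_sq (u_VV D)

theorem isPGroup_VV : IsPGroup 2 (VV D) := by
  intro a
  exact ⟨1, Subtype.ext (by rw [pow_one, pow_two]; exact v_sq a.2)⟩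

theorem isPGroup_ZZ : IsPGroup 2 (ZZ D) := by
  intro a
  refine ⟨1, Subtype.ext ?_⟩
  rw [pow_one, pow_two]
  rcases a.2 with h | h
  · change (a : G) * a = 1; rw [h, mul_one]
  · change (a : G) * a = 1; rw [h]; exact zz D

variable {D}

theorem VV_inv {S : Subgroup G} (hz : ∀ u ∈ S, D.z * u * D.z⁻¹ ∈ S) (hw : ∀ u ∈ S, D.w * u * D.w⁻¹ ∈ S) :
    ∀ b ∈ VV D, ∀ u ∈ S, b * u * b⁻¹ ∈ S := by
  rintro b (rfl | rfl | rfl | rfl) u hu
  · simpa using hu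
  · exact hz u hu
  · exact hw u hu
  · have : D.z * D.w * u * (D.z * D.w)⁻¹ = D.z * (D.w * u * D.w⁻¹) * D.z⁻¹ := by group
    rw [this]
    exact hz _ (hw u hu)

theorem ZZ_inv {S : Subgroup G} (hz : ∀ u ∈ S, D.z * u * D.z⁻¹ ∈ S) :
    ∀ b ∈ ZZ D, ∀ u ∈ S, b * u * b⁻¹ ∈ S := by
  rintro b (rfl | rfl) u hu
  · simpa using hu
  · exact hz u hu

/-- `C(P)` -/
def MP (D : Pair G F) : Subgroup G := Subgroup.centralizer (PP D : Set G)
/-- `C(X₁X₂)` -/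
def MX (D : Pair G F) : Subgroup G := Subgroup.centralizer (XX D : Set G)
/-- `C(P⁻)` -/
def MN (D : Pair G F) : Subgroup G := Subgroup.centralizer (PN D : Set G)

theorem mem_MP {m : G} : m ∈ MP D ↔ ∀ a ∈ PP D, m * a = a * m := by
  rw [MP, Subgroup.mem_centralizer_iff]
  exact ⟨fun h a ha => (h a ha).symm, fun h a ha => (h a ha).symm⟩

theorem mem_MX {m : G} : m ∈ MX D ↔ ∀ a ∈ XX D, m * a = a * m := by
  rw [MX, Subgroup.mem_centralizer_iff]
  exact ⟨fun h a ha => (h a ha).symm, fun h a ha => (h a ha).symm⟩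

theorem mem_MN {m : G} : m ∈ MN D ↔ ∀ a ∈ PN D, m * a = a * m := by
  rw [MN, Subgroup.mem_centralizer_iff]
  exact ⟨fun h a ha => (h a ha).symm, fun h a ha => (h a ha).symm⟩

theorem MX_le : MX D ≤ MP D := fun _ hm => mem_MP.2 fun a ha => mem_MX.1 hm a (PP_le D ha)

theorem XX_MX : XX D ≤ MX D := fun _ hm => mem_MX.2 fun a ha => comm_XX D hm ha
theorem XX_MN : XX D ≤ MN D := fun _ hm => mem_MN.2 fun a ha => comm_XX D hm (PN_le D ha)
theorem z_MX : D.z ∈ MX D := mem_MX.2 fun a ha => z_XX D ha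
theorem z_MN : D.z ∈ MN D := mem_MN.2 fun a ha => z_XX D (PN_le D ha)
theorem z_MP : D.z ∈ MP D := MX_le z_MX
theorem w_MP : D.w ∈ MP D := mem_MP.2 fun a ha => w_PP D ha
theorem u_MP : D.z * D.w ∈ MP D := mul_mem z_MP w_MP

theorem u_PN {a : G} (ha : a ∈ PN D) : D.z * D.w * a * (D.z * D.w)⁻¹ = a⁻¹ := by
  have : D.z * D.w * a * (D.z * D.w)⁻¹ = D.z * (D.w * a * D.w⁻¹) * D.z⁻¹ := by group
  rw [this, w_PN D ha, z_XX D (inv_mem (PN_le D ha)), mul_inv_cancel_right]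

theorem ker_conj {a : G} : D.z * D.w * a = a * (D.z * D.w) → a * D.z = D.z * a → a * D.w = D.w * a := by
  intro h1 h2
  have h3 : D.w = D.z * (D.z * D.w) := by rw [← mul_assoc, zz, one_mul]
  rw [h3]
  calc a * (D.z * (D.z * D.w)) = (a * D.z) * (D.z * D.w) := by group
    _ = D.z * (a * (D.z * D.w)) := by rw [h2]; group
    _ = D.z * (D.z * D.w) * a := by rw [← h1]; group

end basics

section main

variable [Finite G] [Finite F] {D : Pair G F} {p : ℕ} [Fact p.Prime] [CharP F p] {g : G}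

theorem card_odd_of_pGroup (hp : Odd p) {A : Subgroup G} (hA : IsPGroup p A) : Odd (Nat.card A) := by
  obtain ⟨n, hn⟩ := IsPGroup.iff_card.1 hA
  rw [hn]
  exact hp.pow

theorem odd_of_pGroup (hp : Odd p) {A : Subgroup G} (hA : IsPGroup p A) {a : G} (ha : a ∈ A) : Odd (orderOf a) :=
  odd_of_mem (card_odd_of_pGroup hp hA) ha

/-- `g` normalises `P` -/
theorem g_PP (I : Inp p D g) {a : G} (ha : a ∈ PP D) : g * a * g⁻¹ ∈ PP D := by
  obtain ⟨t, rfl⟩ := ha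
  obtain ⟨s, hs⟩ := I.gP t
  exact ⟨s, hs⟩

theorem g_PP_eq (I : Inp p D g) : (PP D).map (MulAut.conj g).toMonoidHom = PP D := by
  apply Subgroup.eq_of_le_of_card_ge
  · rintro _ ⟨a, ha, rfl⟩
    exact g_PP I ha
  · rw [Subgroup.card_map_of_injective (MulAut.conj g).injective]

theorem gi_PP (I : Inp p D g) {a : G} (ha : a ∈ PP D) : g⁻¹ * a * g ∈ PP D := by
  rw [← g_PP_eq I] at ha
  obtain ⟨b, hb, rfl⟩ := ha
  change g⁻¹ * (g * b * g⁻¹) * g ∈ PP D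
  have : g⁻¹ * (g * b * g⁻¹) * g = b := by group
  rw [this]
  exact hb

theorem g_MP (I : Inp p D g) {m : G} (hm : m ∈ MP D) : g * m * g⁻¹ ∈ MP D := by
  rw [mem_MP] at hm ⊢
  intro a ha
  have h1 := hm _ (gi_PP I ha)
  calc g * m * g⁻¹ * a = g * (m * (g⁻¹ * a * g)) * g⁻¹ := by group
    _ = a * (g * m * g⁻¹) := by rw [h1]; group

theorem gi_MP (I : Inp p D g) {m : G} (hm : m ∈ MP D) : g⁻¹ * m * g ∈ MP D := by
  rw [mem_MP] at hm ⊢
  intro a ha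
  have h1 := hm _ (g_PP I ha)
  calc g⁻¹ * m * g * a = g⁻¹ * (m * (g * a * g⁻¹)) * g := by group
    _ = a * (g⁻¹ * m * g) := by rw [h1]; group

theorem hZ (I : Inp p D g) (h2 : (2 : F) ≠ 0) {m : G} (hm : m ∈ MP D) :
    D.z * D.w * m * (D.z * D.w)⁻¹ * m⁻¹ ∈ OO (MP D) := by
  apply zstar_OO u_MP (uu D)
  · intro h
    apply Closing.w_ne_z D h2
    calc D.w = D.z * (D.z * D.w) := by rw [← mul_assoc, zz, one_mul]
      _ = D.z := by rw [h, mul_one]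
  · intro m hm
    exact I.iso m (fun t => mem_MP.1 hm _ ⟨t, rfl⟩)
  · exact hm

theorem PP_OO (hp : Odd p) : PP D ≤ OO (MP D) := by
  apply le_OO ((PP_le D).trans (XX_MX.trans MX_le))
  · rw [le_normalizer_iff']
    intro a ha x hx
    rwa [mem_MP.1 ha x hx, mul_inv_cancel_right]
  · rw [← even_iff_two_dvd, Nat.not_even_iff_odd]
    exact card_odd_of_pGroup hp (isPGroup_PP D (p := p))

theorem XX_OO (hp : Odd p) (h2 : (2 : F) ≠ 0) (I : Inp p D g) : XX D ≤ OO (MP D) := by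
  intro x hx
  obtain ⟨b, hb, c, hc, rfl⟩ := XX_eq D h2 hx
  refine mul_mem (PP_OO hp hb) ?_
  have h1 := hZ I h2 ((XX_MX.trans MX_le) (PN_le D hc))
  exact mem_of_inv (odd_of_pGroup hp (isPGroup_PN D (p := p)) hc) (u_PN hc) h1

theorem g_OO (I : Inp p D g) {n : G} (hn : n ∈ OO (MP D)) : g * n * g⁻¹ ∈ OO (MP D) :=
  conj_OO (fun m hm => g_MP I hm) hn

theorem conj_v_OO {v n : G} (hv : v ∈ MP D) (hn : n ∈ OO (MP D)) : v * n * v⁻¹ ∈ OO (MP D) :=
  mul_mem_OO hv hn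

/-- an element of `C(z) ∩ C(w)` in `O(C(P))` lies in `P` -/
theorem fix_PP (h2 : (2 : F) ≠ 0) (H : Hyp D) {c : G} (hc : c ∈ OO (MP D)) (hz : c * D.z = D.z * c)
    (hw : c * D.w = D.w * c) : c ∈ PP D :=
  odd_of_MP_w h2 H (mem_MP.1 (OO_le _ hc)) hz hw (odd_of_mem (odd_card_OO _) hc)

/-- the unique `V`-invariant Sylow `p`-subgroup of `O(C(P))` -/
theorem unique_A (h2 : (2 : F) ≠ 0) (H : Hyp D) {A B : Subgroup G} (hA : InvSyl p (VV D) (OO (MP D)) A)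
    (hB : InvSyl p (VV D) (OO (MP D)) B) : B = A := by
  apply hA.unique (isPGroup_VV D) (odd_card_OO _) (VV_inv (fun u hu => mul_mem_OO z_MP hu)
    (fun u hu => mul_mem_OO w_MP hu)) hB
  intro c hc hcV s hs
  have h1 : c ∈ PP D := fix_PP h2 H hc (hcV _ (z_VV D)).symm (hcV _ (w_VV D)).symm
  rwa [← mem_MP.1 (OO_le _ (hA.le hs)) c h1, mul_inv_cancel_right]

theorem VV_XX : ∀ b ∈ VV D, ∀ u ∈ XX D, b * u * b⁻¹ ∈ XX D := fun b hb u hu => v_XX hb hu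

theorem exists_A (hp : Odd p) (h2 : (2 : F) ≠ 0) (I : Inp p D g) : ∃ A, InvSyl p (VV D) (OO (MP D)) A ∧ XX D ≤ A :=
  exists_InvSyl_ge (isPGroup_VV D) (odd_card_OO _) (VV_inv (fun u hu => mul_mem_OO z_MP hu)
    (fun u hu => mul_mem_OO w_MP hu)) (XX_OO hp h2 I) (isPGroup_XX D) VV_XX

/-- the conjugate `g X₁X₂ g⁻¹` -/
def gX (D : Pair G F) (g : G) : Subgroup G := (XX D).map (MulAut.conj g).toMonoidHom

/-- `Y = g P⁻ g⁻¹` -/
def YY (D : Pair G F) (g : G) : Subgroup G := (PN D).map (MulAut.conj g).toMonoidHom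

theorem mem_YY {y : G} : y ∈ YY D g ↔ ∃ r ∈ PN D, y = g * r * g⁻¹ := by
  constructor
  · rintro ⟨r, hr, rfl⟩; exact ⟨r, hr, rfl⟩
  · rintro ⟨r, hr, rfl⟩; exact ⟨r, hr, rfl⟩

theorem mem_gX {y : G} : y ∈ gX D g ↔ ∃ r ∈ XX D, y = g * r * g⁻¹ := by
  constructor
  · rintro ⟨r, hr, rfl⟩; exact ⟨r, hr, rfl⟩
  · rintro ⟨r, hr, rfl⟩; exact ⟨r, hr, rfl⟩

theorem YY_le : YY D g ≤ gX D g := Subgroup.map_mono (PN_le D)

theorem w_YY (I : Inp p D g) {y : G} (hy : y ∈ YY D g) : D.w * y = y * D.w := by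
  obtain ⟨r, hr, rfl⟩ := mem_YY.1 hy
  rw [← I.gz]
  calc g * D.z * g⁻¹ * (g * r * g⁻¹) = g * (D.z * r) * g⁻¹ := by group
    _ = g * r * g⁻¹ * (g * D.z * g⁻¹) := by rw [z_XX D (PN_le D hr)]; group

theorem z_YY (I : Inp p D g) {y : G} (hy : y ∈ YY D g) : D.z * y * D.z⁻¹ = y⁻¹ := by
  obtain ⟨r, hr, rfl⟩ := mem_YY.1 hy
  rw [← I.gw]
  calc g * D.w * g⁻¹ * (g * r * g⁻¹) * (g * D.w * g⁻¹)⁻¹ = g * (D.w * r * D.w⁻¹) * g⁻¹ := by group
    _ = (g * r * g⁻¹)⁻¹ := by rw [w_PN D hr]; group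

theorem u_YY (I : Inp p D g) {y : G} (hy : y ∈ YY D g) : D.z * D.w * y * (D.z * D.w)⁻¹ = y⁻¹ := by
  have : D.z * D.w * y * (D.z * D.w)⁻¹ = D.z * (D.w * y * D.w⁻¹) * D.z⁻¹ := by group
  rw [this, w_YY I hy, mul_inv_cancel_right, z_YY I hy]

theorem isPGroup_gX : IsPGroup p (gX D g) := (isPGroup_XX D (p := p)).map _
theorem isPGroup_YY : IsPGroup p (YY D g) := (isPGroup_PN D (p := p)).map _

theorem VV_gX (I : Inp p D g) : ∀ b ∈ VV D, ∀ u ∈ gX D g, b * u * b⁻¹ ∈ gX D g := by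
  apply VV_inv
  · intro y hy
    obtain ⟨r, hr, rfl⟩ := mem_gX.1 hy
    refine mem_gX.2 ⟨D.w * r * D.w⁻¹, w_XX D hr, ?_⟩
    rw [← I.gw]; group
  · intro y hy
    obtain ⟨r, hr, rfl⟩ := mem_gX.1 hy
    refine mem_gX.2 ⟨r, hr, ?_⟩
    rw [← I.gz]
    calc g * D.z * g⁻¹ * (g * r * g⁻¹) * (g * D.z * g⁻¹)⁻¹ = g * (D.z * r) * D.z⁻¹ * g⁻¹ := by group
      _ = g * r * g⁻¹ := by rw [z_XX D hr]; group

theorem gX_OO (hp : Odd p) (h2 : (2 : F) ≠ 0) (I : Inp p D g) : gX D g ≤ OO (MP D) := by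
  intro y hy
  obtain ⟨r, hr, rfl⟩ := mem_gX.1 hy
  exact g_OO I (XX_OO hp h2 I hr)

theorem gX_le_A (hp : Odd p) (h2 : (2 : F) ≠ 0) (H : Hyp D) (I : Inp p D g) {A : Subgroup G}
    (hA : InvSyl p (VV D) (OO (MP D)) A) : gX D g ≤ A := by
  obtain ⟨B, hB, h⟩ := exists_InvSyl_ge (isPGroup_VV D) (odd_card_OO _) (VV_inv (fun u hu => mul_mem_OO z_MP hu)
    (fun u hu => mul_mem_OO w_MP hu)) (gX_OO hp h2 I) (isPGroup_gX (p := p)) (VV_gX I)
  rwa [unique_A h2 H hA hB] at h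

theorem XX_le_A (hp : Odd p) (h2 : (2 : F) ≠ 0) (H : Hyp D) (I : Inp p D g) {A : Subgroup G}
    (hA : InvSyl p (VV D) (OO (MP D)) A) : XX D ≤ A := by
  obtain ⟨B, hB, h⟩ := exists_A hp h2 I
  rwa [unique_A h2 H hA hB] at h

/-- in a `z`-invariant `p`-group, an element commuting with `u` commutes with `z` and `w` -/
theorem comm_of_u (I : Inp p D g) {A : Subgroup G} (hA : IsPGroup p A) (hz : ∀ a ∈ A, D.z * a * D.z⁻¹ ∈ A)
    {x : G} (hx : x ∈ A) (hu : D.z * D.w * x = x * (D.z * D.w)) : x * D.z = D.z * x ∧ x * D.w = D.w * x := by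
  have h1 : x * D.z = D.z * x := by
    refine I.zinv (A ⊓ Subgroup.centralizer {D.z * D.w}) (hA.to_le inf_le_left) ?_ ?_ x
      ⟨hx, Subgroup.mem_centralizer_singleton_iff.2 hu.symm⟩
    · rintro a ⟨-, ha⟩
      exact Subgroup.mem_centralizer_singleton_iff.1 ha
    · rintro a ⟨ha, ha'⟩
      refine ⟨hz a ha, Subgroup.mem_centralizer_singleton_iff.2 ?_⟩
      have h3 := Subgroup.mem_centralizer_singleton_iff.1 ha'
      have h4 : D.z * (D.z * D.w) = D.z * D.w * D.z := by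
        rw [mul_assoc, wz]
      calc D.z * a * D.z⁻¹ * (D.z * D.w) = D.z * a * (D.z⁻¹ * (D.z * D.w) * D.z) * D.z⁻¹ := by group
        _ = D.z * a * (D.z * D.w) * D.z⁻¹ := by
          have : D.z⁻¹ * (D.z * D.w) * D.z = D.z * D.w := by
            rw [mul_assoc, ← h4, inv_mul_cancel_left]
          rw [this]
        _ = D.z * (a * (D.z * D.w)) * D.z⁻¹ := by group
        _ = D.z * (D.z * D.w) * a * D.z⁻¹ := by rw [h3]; group
        _ = D.z * D.w * (D.z * a * D.z⁻¹) := by rw [h4]; group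
  exact ⟨h1, ker_conj hu h1⟩

theorem fix_u_A (h2 : (2 : F) ≠ 0) (H : Hyp D) (I : Inp p D g) {A : Subgroup G}
    (hA : InvSyl p (VV D) (OO (MP D)) A) {x : G} (hx : x ∈ A) (hu : D.z * D.w * x = x * (D.z * D.w)) : x ∈ PP D := by
  have h1 := comm_of_u I hA.isPGroup (fun a ha => hA.2 _ (z_VV D) a ha) hx hu
  exact fix_PP h2 H (hA.le hx) h1.1 h1.2

/-- `Y` commutes with `P⁻` -/
theorem YY_PN (hp : Odd p) (h2 : (2 : F) ≠ 0) (H : Hyp D) (I : Inp p D g) {r y : G} (hr : r ∈ PN D)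
    (hy : y ∈ YY D g) : y * r = r * y := by
  obtain ⟨A, hA, hXA⟩ := exists_A hp h2 I
  have hrA : r ∈ A := hXA (PN_le D hr)
  have hyA : y ∈ A := gX_le_A hp h2 H I hA (YY_le hy)
  obtain ⟨c, hc, k, hk, h1, h3, h4⟩ := Lib.KleinGen.exists_centralizer_mul_inverted A
    (card_odd_of_pGroup hp hA.isPGroup) (D.z * D.w) (uu D) (fun h hh => hA.2 _ (u_VV D) h hh) (mul_mem hrA hyA)
  have hcP : c ∈ PP D := fix_u_A h2 H I hA hc h1
  have hcen : ∀ a ∈ A, a * c = c * a := fun a ha => mem_MP.1 (OO_le _ (hA.le ha)) c hcP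
  -- `r⁻¹ y⁻¹ = c² y⁻¹ r⁻¹`
  have e1 : D.z * D.w * (r * y) * (D.z * D.w)⁻¹ = r⁻¹ * y⁻¹ := by
    rw [← u_PN hr, ← u_YY I hy]; group
  have e2 : D.z * D.w * (r * y) * (D.z * D.w)⁻¹ = c * k⁻¹ := by
    rw [h4]
    have : D.z * D.w * (c * k) * (D.z * D.w)⁻¹ = (D.z * D.w * c * (D.z * D.w)⁻¹) * (D.z * D.w * k * (D.z * D.w)⁻¹) := by
      group
    rw [this, h3, h1, mul_inv_cancel_right]
  have e3 : k⁻¹ = y⁻¹ * r⁻¹ * c := by
    have : k = c⁻¹ * (r * y) := by rw [h4, inv_mul_cancel_left]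
    rw [this]; group
  have e4 : r⁻¹ * y⁻¹ = c * c * (y⁻¹ * r⁻¹) := by
    rw [← e1, e2, e3, hcen _ (mul_mem (inv_mem hyA) (inv_mem hrA))]
    group
  -- `e := c²`
  obtain ⟨e, he⟩ : ∃ e, e = c * c := ⟨_, rfl⟩
  have heP : e ∈ PP D := by rw [he]; exact mul_mem hcP hcP
  have hecen : ∀ a ∈ A, a * e = e * a := fun a ha => mem_MP.1 (OO_le _ (hA.le ha)) e heP
  rw [← he] at e4
  have f1 : y⁻¹ * r * y = r * e := by
    have : r⁻¹ * (y⁻¹ * r * y) = e := by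
      calc r⁻¹ * (y⁻¹ * r * y) = (r⁻¹ * y⁻¹) * (r * y) := by group
        _ = e := by rw [e4]; group
    rw [← this]; group
  have f2 : y * r * y⁻¹ = r * e := by
    have h5 : D.z * (y⁻¹ * r * y) * D.z⁻¹ = y * r * y⁻¹ := by
      calc D.z * (y⁻¹ * r * y) * D.z⁻¹ = (D.z * y * D.z⁻¹)⁻¹ * (D.z * r * D.z⁻¹) * (D.z * y * D.z⁻¹) := by group
        _ = y * r * y⁻¹ := by rw [z_YY I hy, z_XX D (PN_le D hr), inv_inv, mul_inv_cancel_right]
    rw [← h5, f1]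
    calc D.z * (r * e) * D.z⁻¹ = (D.z * r) * e * D.z⁻¹ := by group
      _ = r * (D.z * e) * D.z⁻¹ := by rw [z_XX D (PN_le D hr)]; group
      _ = r * e := by rw [z_XX D (PP_le D heP)]; group
  have f3 : e * e = 1 := by
    have h5 : r = y * (y⁻¹ * r * y) * y⁻¹ := by group
    rw [f1] at h5
    have h6 : y * (r * e) * y⁻¹ = (y * r * y⁻¹) * e := by
      calc y * (r * e) * y⁻¹ = y * r * (e * y⁻¹) := by group
        _ = y * r * (y⁻¹ * e) := by rw [hecen _ (inv_mem hyA)]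
        _ = (y * r * y⁻¹) * e := by group
    rw [h6, f2, mul_assoc] at h5
    exact (mul_eq_left.1 h5.symm)
  have f4 : e = 1 := sq_XX h2 (PP_le D heP) f3
  rw [f4, mul_one] at f2
  exact mul_inv_eq_iff_eq_mul.1 f2

theorem YY_MX (hp : Odd p) (h2 : (2 : F) ≠ 0) (H : Hyp D) (I : Inp p D g) : YY D g ≤ MX D := by
  intro y hy
  rw [mem_MX]
  intro x hx
  obtain ⟨b, hb, c, hc, rfl⟩ := XX_eq D h2 hx
  have h1 : y * b = b * y := mem_MP.1 (OO_le _ (gX_OO hp h2 I (YY_le hy))) b hb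
  have h3 := YY_PN hp h2 H I hc hy
  calc y * (b * c) = (y * b) * c := by group
    _ = b * (y * c) := by rw [h1]; group
    _ = b * c * y := by rw [h3]; group

end main

end Cfsg.Agent.SpFourOdd.LnA
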