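import Cfsg.Agent.SpFourOdd.LnX

/-!
# The line part: `X₁X₂` is a Sylow `p`-subgroup of `C(z)`, in the presence of field automorphisms
-/

set_option autoImplicit false
set_option linter.all false

namespace Cfsg.Agent.SpFourOdd.LnMax

open Matrix LnX
open Closing (kk kk_mul kk_inv kk_one kk_neg kk_w kk_z zz z_ne neg₁ neg₂ z_comm₁ z_comm₂ w_inv z_inv w₁ w₂ wz
  eq_iff inj₁ inj₂ eq₁₂ mul_form inv_form w_form z_form)

variable {G F : Type*} [Group G] [Field F] {D : Pair G F} {p : ℕ} [Fact p.Prime] [CharP F p]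

theorem form_pow (a b : SL2 F) (n : ℕ) : (D.φ₁ a * D.φ₂ b) ^ n = D.φ₁ (a ^ n) * D.φ₂ (b ^ n) := by
  induction n with
  | zero => simp
  | succ n ih => rw [pow_succ, ih, mul_form, pow_succ, pow_succ]

theorem pow_of_form {a b : SL2 F} {n : ℕ} (h : (D.φ₁ a * D.φ₂ b) ^ n = 1) :
    (a ^ n = 1 ∨ a ^ n = -1) ∧ (b ^ n = 1 ∨ b ^ n = -1) := by
  rw [form_pow] at h
  rcases D.ker _ _ h with ⟨h1, h3⟩ | ⟨h1, h3⟩
  · exact ⟨Or.inl h1, Or.inl h3⟩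
  · exact ⟨Or.inr h1, Or.inr h3⟩

/-- `p`-groups of `L₁L₂` containing `X₁X₂` -/
theorem mem_of_form (hp : Odd p) (h2 : (2 : F) ≠ 0) {R : Subgroup G} (hR : IsPGroup p R) (hX : XX D ≤ R)
    {a b : SL2 F} (h : D.φ₁ a * D.φ₂ b ∈ R) : D.φ₁ a * D.φ₂ b ∈ XX D := by
  have hpow : ∀ r ∈ R, ∃ k, r ^ (p ^ k) = 1 := by
    intro r hr
    obtain ⟨k, hk⟩ := hR ⟨r, hr⟩
    exact ⟨k, congrArg Subtype.val hk⟩
  have ha : ∃ s, a = ux s ∨ a = -ux s := by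
    apply LnSL.ux_of_all hp h2
    intro t
    have h1 : D.φ₁ (a * ux t) * D.φ₂ (b * ux 0) ∈ R := by
      rw [← mul_form]
      exact mul_mem h (hX ⟨t, 0, rfl⟩)
    obtain ⟨k, hk⟩ := hpow _ h1
    exact ⟨k, (pow_of_form hk).1⟩
  have hb : ∃ s, b = ux s ∨ b = -ux s := by
    apply LnSL.ux_of_all hp h2
    intro t
    have h1 : D.φ₁ (a * ux 0) * D.φ₂ (b * ux t) ∈ R := by
      rw [← mul_form]
      exact mul_mem h (hX ⟨0, t, rfl⟩)
    obtain ⟨k, hk⟩ := hpow _ h1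
    exact ⟨k, (pow_of_form hk).2⟩
  obtain ⟨s, hs⟩ := ha
  obtain ⟨t, ht⟩ := hb
  have hcases : D.φ₁ a * D.φ₂ b = xx D s t ∨ D.φ₁ a * D.φ₂ b = D.z * xx D s t := by
    unfold xx
    rcases hs with rfl | rfl <;> rcases ht with rfl | rfl
    · exact Or.inl rfl
    · right; rw [← mul_assoc, ← neg₁]; exact (eq_iff D _ _ _ _).2 (Or.inr ⟨by rw [neg_neg], rfl⟩)
    · right; rw [← mul_assoc, ← neg₁]
    · left; exact (eq_iff D _ _ _ _).2 (Or.inr ⟨rfl, rfl⟩)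
  rcases hcases with h1 | h1
  · rw [h1]; exact ⟨s, t, rfl⟩
  · exfalso
    obtain ⟨k, hk⟩ := hpow _ h
    have hz : D.z ∈ R := by
      have h3 : D.z = D.φ₁ a * D.φ₂ b * (xx D s t)⁻¹ := by rw [h1, mul_inv_cancel_right]
      rw [h3]
      exact mul_mem h (inv_mem (hX ⟨s, t, rfl⟩))
    obtain ⟨m, hm⟩ := hpow _ hz
    have h4 : Odd (orderOf D.z) := odd_orderOf_of_pow (hp.pow (n := m)) hm
    have h5 : D.z ∈ (⊥ : Subgroup G) := mem_of_sq_mem h4 (by rw [zz]; exact one_mem _)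
    exact z_ne D h2 (Subgroup.mem_bot.1 h5)

/-- an element of odd order of `C(z)` does not interchange `L₁` and `L₂` -/
theorem no_swap (h2 : (2 : F) ≠ 0) {b d : G} (ho : Odd (orderOf b)) {a a' : SL2 F} {σ : F ≃+* F}
    (h₁ : ∀ x, d * D.φ₁ x * d⁻¹ = D.φ₁ (a * SpecialLinearGroup.map (σ : F →+* F) x * a⁻¹))
    (h₂ : ∀ x, d * D.φ₂ x * d⁻¹ = D.φ₂ (a' * SpecialLinearGroup.map (σ : F →+* F) x * a'⁻¹))
    (hb : b = d * D.w) : False := by
  -- `b²` preserves `L₁`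
  have hbb : ∀ x, ∃ y, b * b * D.φ₁ x * (b * b)⁻¹ = D.φ₁ y := by
    intro x
    have e : ∀ x, b * x * b⁻¹ = d * (D.w * x * D.w⁻¹) * d⁻¹ := fun x => by rw [hb]; group
    have e' : b * b * D.φ₁ x * (b * b)⁻¹ = b * (b * D.φ₁ x * b⁻¹) * b⁻¹ := by group
    rw [e', e (D.φ₁ x), w₁, mul_inv_cancel_right, h₂, e, w₂, mul_inv_cancel_right, h₁]
    exact ⟨_, rfl⟩
  have hpow : ∀ n : ℕ, ∀ x, ∃ y, (b * b) ^ n * D.φ₁ x * ((b * b) ^ n)⁻¹ = D.φ₁ y := by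
    intro n
    induction n with
    | zero => intro x; exact ⟨x, by simp⟩
    | succ n ih =>
      intro x
      obtain ⟨y, hy⟩ := hbb x
      obtain ⟨y', hy'⟩ := ih y
      refine ⟨y', ?_⟩
      rw [← hy', ← hy, pow_succ]; group
  obtain ⟨k, hk⟩ := ho
  have h1 : (b * b) ^ (k + 1) = b := by
    rw [← pow_two, ← pow_mul]
    have : 2 * (k + 1) = orderOf b + 1 := by omega
    rw [this, pow_succ, pow_orderOf_eq_one, one_mul]
  obtain ⟨y, hy⟩ := hpow (k + 1) (ux 1)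
  rw [h1] at hy
  have e : b * D.φ₁ (ux 1) * b⁻¹ = d * (D.w * D.φ₁ (ux 1) * D.w⁻¹) * d⁻¹ := by rw [hb]; group
  rw [e, w₁, mul_inv_cancel_right, h₂] at hy
  have hmm : a' * SpecialLinearGroup.map (σ : F →+* F) (ux 1) * a'⁻¹ = 1 ∨
      a' * SpecialLinearGroup.map (σ : F →+* F) (ux 1) * a'⁻¹ = -1 := by
    rcases eq₁₂ D hy.symm with h | h
    · exact Or.inl h.2
    · exact Or.inr h.2
  rw [Closing.map_ux] at hmm
  have h3 : (σ : F →+* F) 1 = 1 := map_one _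
  rw [h3] at hmm
  rcases hmm with h | h
  · have h5 : (ux 1 : SL2 F) = 1 := by
      have : ux 1 = a'⁻¹ * (a' * ux 1 * a'⁻¹) * a' := by group
      rw [this, h]; group
    rw [← LnSL.ux_zero] at h5
    exact one_ne_zero (LnSL.ux_inj h5)
  · have h5 : (ux 1 : SL2 F) = -1 := by
      have : ux 1 = a'⁻¹ * (a' * ux 1 * a'⁻¹) * a' := by group
      rw [this, h, mul_neg, mul_one, neg_mul, inv_mul_cancel]
    have := congrArg (fun A : SL2 F => A 0 0) h5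
    simp only [LnSL.ux00, LnSL.neg_ap, LnSL.one00] at this
    apply h2
    linear_combination this

/-- **maximality** of `X₁X₂` -/
theorem le_XX (hp : Odd p) (h2 : (2 : F) ≠ 0) (H : Hyp D) {R : Subgroup G} (hR : IsPGroup p R)
    (hRz : ∀ r ∈ R, r * D.z = D.z * r) (hX : XX D ≤ R) (hw : ∀ r ∈ R, D.w * r * D.w⁻¹ ∈ R)
    (hfix : ∀ r ∈ R, r * D.w = D.w * r → r ∈ XX D) : R ≤ XX D := by
  intro b hb
  have ho : Odd (orderOf b) := by
    obtain ⟨k, hk⟩ := hR ⟨b, hb⟩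
    exact odd_orderOf_of_pow (hp.pow (n := k)) (congrArg Subtype.val hk)
  obtain ⟨d, σ, a, a', hcd, -, h₁, h₂⟩ := H.cent b (hRz b hb)
  rcases hcd with rfl | hbd
  swap
  · exact (no_swap h2 ho h₁ h₂ hbd).elim
  -- `c = b⁻¹ (w b w⁻¹)` is in `L₁L₂`
  obtain ⟨c, hc⟩ : ∃ c, c = b⁻¹ * (D.w * b * D.w⁻¹) := ⟨_, rfl⟩
  have hcR : c ∈ R := by rw [hc]; exact mul_mem (inv_mem hb) (hw b hb)
  have hsurj : ∀ y : SL2 F, ∃ x, SpecialLinearGroup.map (σ : F →+* F) x = y := by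
    intro y
    refine ⟨SpecialLinearGroup.map (σ.symm : F →+* F) y, ?_⟩
    rw [Closing.map_map']
    have : (σ.symm.trans σ : F ≃+* F) = RingEquiv.refl F := by ext x; simp
    rw [this, Closing.map_refl]
  obtain ⟨e, he⟩ := hsurj (a⁻¹ * a')
  obtain ⟨e', he'⟩ := hsurj (a'⁻¹ * a)
  have hc₁ : ∀ x, c * D.φ₁ x * c⁻¹ = D.φ₁ (e * x * e⁻¹) := by
    intro x
    have e1 : c * D.φ₁ x * c⁻¹ = b⁻¹ * (D.w * (b * (D.w⁻¹ * D.φ₁ x * D.w) * b⁻¹) * D.w⁻¹) * b := by rw [hc]; group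
    have e2 : D.w⁻¹ * D.φ₁ x * D.w = D.φ₂ x := by rw [w_inv, D.conj]
    have e3 : b * D.φ₁ (e * x * e⁻¹) * b⁻¹ = D.φ₁ (a' * SpecialLinearGroup.map (σ : F →+* F) x * a'⁻¹) := by
      have e4 : SpecialLinearGroup.map (σ : F →+* F) (e * x * e⁻¹) =
          a⁻¹ * a' * SpecialLinearGroup.map (σ : F →+* F) x * (a⁻¹ * a')⁻¹ := by
        rw [Closing.map_conj', he]
      rw [h₁, e4]
      congr 1; group
    rw [e1, e2, h₂, w₂, mul_inv_cancel_right, ← e3]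
    group
  have hc₂ : ∀ x, c * D.φ₂ x * c⁻¹ = D.φ₂ (e' * x * e'⁻¹) := by
    intro x
    have e1 : c * D.φ₂ x * c⁻¹ = b⁻¹ * (D.w * (b * (D.w⁻¹ * D.φ₂ x * D.w) * b⁻¹) * D.w⁻¹) * b := by rw [hc]; group
    have e2 : D.w⁻¹ * D.φ₂ x * D.w = D.φ₁ x := by rw [w_inv, w₂, mul_assoc, D.ww, mul_one]
    have e3 : b * D.φ₂ (e' * x * e'⁻¹) * b⁻¹ = D.φ₂ (a * SpecialLinearGroup.map (σ : F →+* F) x * a⁻¹) := by
      have e4 : SpecialLinearGroup.map (σ : F →+* F) (e' * x * e'⁻¹) =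
          a'⁻¹ * a * SpecialLinearGroup.map (σ : F →+* F) x * (a'⁻¹ * a)⁻¹ := by
        rw [Closing.map_conj', he']
      rw [h₂, e4]
      congr 1; group
    rw [e1, e2, h₁, w₁, mul_inv_cancel_right, ← e3]
    group
  have hcX : c ∈ XX D := by
    rcases Closing.inner_mem H.cent0 hc₁ hc₂ with h | h
    · rw [h]; rw [h] at hcR; exact mem_of_form hp h2 hR hX hcR
    · rw [h]; rw [h] at hcR; exact mem_of_form hp h2 hR hX hcR
  have hwc : D.w * c * D.w⁻¹ = c⁻¹ := by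
    rw [hc, w_inv]
    have e1 : D.w * (b⁻¹ * (D.w * b * D.w)) * D.w = D.w * b⁻¹ * D.w * b * (D.w * D.w) := by group
    rw [e1, D.ww, mul_one]
    have e2 : (b⁻¹ * (D.w * b * D.w))⁻¹ = D.w⁻¹ * b⁻¹ * D.w⁻¹ * b := by group
    rw [e2, w_inv]
  obtain ⟨s, t, hst⟩ := hcX
  have hts : t = -s := by
    rw [hst, w_xx, xx_inv] at hwc
    exact (xx_injective h2 hwc).1
  -- `r = √c`
  have hr : xx D (s / 2) (-(s / 2)) * xx D (s / 2) (-(s / 2)) = c := by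
    rw [xx_mul, hst, hts]
    have : s / 2 + s / 2 = s := by field_simp; ring
    congr 1
    linear_combination -this
  have hwr := w_PN D (⟨s / 2, rfl⟩ : xx D (s / 2) (-(s / 2)) ∈ PN D)
  set r := xx D (s / 2) (-(s / 2)) with hrdef
  have hrX : r ∈ XX D := ⟨_, _, hrdef⟩
  have hwb : D.w * b * D.w⁻¹ = b * c := by rw [hc]; group
  have hfinal : b * r ∈ XX D := by
    apply hfix _ (mul_mem hb (hX hrX))
    have e1 : D.w * (b * r) * D.w⁻¹ = b * r := by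
      calc D.w * (b * r) * D.w⁻¹ = (D.w * b * D.w⁻¹) * (D.w * r * D.w⁻¹) := by group
        _ = b * c * r⁻¹ := by rw [hwb, hwr]
        _ = b * r := by rw [← hr]; group
    exact (mul_inv_eq_iff_eq_mul.1 e1).symm
  have : b = b * r * r⁻¹ := by group
  rw [this]
  exact mul_mem hfinal (inv_mem hrX)

end Cfsg.Agent.SpFourOdd.LnMax
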