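import Cfsg.Agent.SpFourOdd.LnSL
import Cfsg.Agent.SpFourOdd.Field
import Cfsg.Agent.SpFourOdd.LineDefs

/-!
# The line part: the groups `X₁X₂`, `P`, `P⁻`, `V` and their centralizers in `C(z)`
-/

set_option autoImplicit false
set_option linter.all false

namespace Cfsg.Agent.SpFourOdd.LnX

open Matrix
open Closing (kk kk_mul kk_inv kk_one kk_neg kk_w kk_z zz z_ne neg₁ neg₂ z_comm₁ z_comm₂ w_inv z_inv w₁ w₂ wz
  eq_iff inj₁ inj₂ eq₁₂ mul_form inv_form w_form z_form)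

section basics

variable {G F : Type*} [Group G] [Field F] (D : Pair G F)

/-- `x₁(s) x₂(t)` -/
def xx (s t : F) : G := D.φ₁ (ux s) * D.φ₂ (ux t)

theorem xx_mul (s t s' t' : F) : xx D s t * xx D s' t' = xx D (s + s') (t + t') := by
  unfold xx
  rw [mul_form, ← LnSL.ux_add, ← LnSL.ux_add]

theorem xx_zero : xx D 0 0 = 1 := by
  unfold xx
  rw [LnSL.ux_zero, map_one, map_one, mul_one]

theorem xx_inv (s t : F) : (xx D s t)⁻¹ = xx D (-s) (-t) := by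
  rw [inv_eq_iff_mul_eq_one, xx_mul, add_neg_cancel, add_neg_cancel, xx_zero]

theorem xx_comm (s t s' t' : F) : xx D s t * xx D s' t' = xx D s' t' * xx D s t := by
  rw [xx_mul, xx_mul, add_comm s, add_comm t]

theorem kk_ux (t : F) : kk D (ux t) = xx D t t := rfl

theorem xx_pow (s t : F) (n : ℕ) : xx D s t ^ n = xx D (n * s) (n * t) := by
  induction n with
  | zero => simp [xx_zero]
  | succ n ih => rw [pow_succ, ih, xx_mul]; congr 1 <;> push_cast <;> ring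

theorem z_xx (s t : F) : D.z * xx D s t = xx D s t * D.z := z_form D _ _

theorem w_xx (s t : F) : D.w * xx D s t * D.w⁻¹ = xx D t s := by
  unfold xx
  rw [w_form, mul_assoc, mul_inv_cancel, mul_one]

theorem x1 (t : F) : D.φ₁ (ux t) = xx D t 0 := by
  unfold xx; rw [LnSL.ux_zero, map_one, mul_one]

theorem x2 (t : F) : D.φ₂ (ux t) = xx D 0 t := by
  unfold xx; rw [LnSL.ux_zero, map_one, one_mul]

/-- `X₁ X₂` -/
def XX : Subgroup G where
  carrier := {g | ∃ s t, g = xx D s t}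
  one_mem' := ⟨0, 0, (xx_zero D).symm⟩
  mul_mem' := by
    rintro _ _ ⟨s, t, rfl⟩ ⟨s', t', rfl⟩
    exact ⟨_, _, xx_mul D _ _ _ _⟩
  inv_mem' := by
    rintro _ ⟨s, t, rfl⟩
    exact ⟨_, _, xx_inv D _ _⟩

/-- `P` -/
def PP : Subgroup G where
  carrier := {g | ∃ t, g = xx D t t}
  one_mem' := ⟨0, (xx_zero D).symm⟩
  mul_mem' := by
    rintro _ _ ⟨s, rfl⟩ ⟨s', rfl⟩
    exact ⟨_, xx_mul D _ _ _ _⟩
  inv_mem' := by
    rintro _ ⟨s, rfl⟩
    exact ⟨_, xx_inv D _ _⟩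

/-- `P⁻` -/
def PN : Subgroup G where
  carrier := {g | ∃ t, g = xx D t (-t)}
  one_mem' := ⟨0, by rw [neg_zero, xx_zero]⟩
  mul_mem' := by
    rintro _ _ ⟨s, rfl⟩ ⟨s', rfl⟩
    exact ⟨s + s', by rw [xx_mul]; congr 1; ring⟩
  inv_mem' := by
    rintro _ ⟨s, rfl⟩
    exact ⟨-s, xx_inv D _ _⟩

theorem mem_XX {g : G} : g ∈ XX D ↔ ∃ s t, g = xx D s t := Iff.rfl
theorem mem_PP {g : G} : g ∈ PP D ↔ ∃ t, g = xx D t t := Iff.rfl
theorem mem_PN {g : G} : g ∈ PN D ↔ ∃ t, g = xx D t (-t) := Iff.rfl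

theorem PP_le : PP D ≤ XX D := by rintro _ ⟨t, rfl⟩; exact ⟨t, t, rfl⟩
theorem PN_le : PN D ≤ XX D := by rintro _ ⟨t, rfl⟩; exact ⟨t, -t, rfl⟩

theorem comm_XX {a b : G} (ha : a ∈ XX D) (hb : b ∈ XX D) : a * b = b * a := by
  obtain ⟨s, t, rfl⟩ := ha
  obtain ⟨s', t', rfl⟩ := hb
  exact xx_comm D _ _ _ _

theorem z_XX {a : G} (ha : a ∈ XX D) : D.z * a = a * D.z := by
  obtain ⟨s, t, rfl⟩ := ha
  exact z_xx D _ _

theorem w_XX {a : G} (ha : a ∈ XX D) : D.w * a * D.w⁻¹ ∈ XX D := by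
  obtain ⟨s, t, rfl⟩ := ha
  exact ⟨t, s, w_xx D _ _⟩

theorem w_PP {a : G} (ha : a ∈ PP D) : D.w * a = a * D.w := by
  obtain ⟨t, rfl⟩ := ha
  exact mul_inv_eq_iff_eq_mul.1 (w_xx D _ _)

theorem w_PN {a : G} (ha : a ∈ PN D) : D.w * a * D.w⁻¹ = a⁻¹ := by
  obtain ⟨t, rfl⟩ := ha
  rw [w_xx, xx_inv, neg_neg]

variable {D} in
theorem xx_injective {s t s' t' : F} (h2 : (2 : F) ≠ 0) (h : xx D s t = xx D s' t') : s = s' ∧ t = t' := by
  rcases (eq_iff D _ _ _ _).1 h with ⟨h1, h3⟩ | ⟨h1, h3⟩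
  · exact ⟨LnSL.ux_inj h1, LnSL.ux_inj h3⟩
  · exfalso
    have := congrArg (fun a : SL2 F => a 0 0) h1
    simp only [LnSL.neg_ap, LnSL.ux00] at this
    apply h2
    linear_combination this

/-- elements of `XX` centralised by `w` -/
theorem mem_PP_of (h2 : (2 : F) ≠ 0) {a : G} (ha : a ∈ XX D) (hw : a * D.w = D.w * a) : a ∈ PP D := by
  obtain ⟨s, t, rfl⟩ := ha
  have h1 : xx D t s = xx D s t := by rw [← w_xx, ← hw, mul_inv_cancel_right]
  have := (xx_injective h2 h1).1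
  exact ⟨s, by rw [this]⟩

/-- `X₁X₂ = P P⁻` -/
theorem XX_eq (h2 : (2 : F) ≠ 0) {a : G} (ha : a ∈ XX D) : ∃ b ∈ PP D, ∃ c ∈ PN D, a = b * c := by
  obtain ⟨s, t, rfl⟩ := ha
  refine ⟨_, ⟨(s + t) / 2, rfl⟩, _, ⟨(s - t) / 2, rfl⟩, ?_⟩
  rw [xx_mul]
  congr 1 <;> field_simp <;> ring

section char

variable {p : ℕ} [Fact p.Prime] [CharP F p]

theorem pow_XX {a : G} (ha : a ∈ XX D) : a ^ p = 1 := by
  obtain ⟨s, t, rfl⟩ := ha
  rw [xx_pow, CharP.cast_eq_zero, zero_mul, zero_mul, xx_zero]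

theorem isPGroup_XX : IsPGroup p (XX D) := by
  intro a
  refine ⟨1, ?_⟩
  apply Subtype.ext
  rw [pow_one]
  exact pow_XX D a.2

theorem isPGroup_PP : IsPGroup p (PP D) := (isPGroup_XX D (p := p)).to_le (PP_le D)
theorem isPGroup_PN : IsPGroup p (PN D) := (isPGroup_XX D (p := p)).to_le (PN_le D)

end char

theorem card_XX [Finite F] (h2 : (2 : F) ≠ 0) : Nat.card (XX D) = Nat.card F ^ 2 := by
  rw [pow_two, ← Nat.card_prod]
  refine (Nat.card_congr (Equiv.ofBijective (fun x : F × F => (⟨xx D x.1 x.2, x.1, x.2, rfl⟩ : XX D)) ?_)).symm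
  constructor
  · rintro ⟨s, t⟩ ⟨s', t'⟩ h
    have h1 := xx_injective h2 (congrArg Subtype.val h)
    exact Prod.ext h1.1 h1.2
  · rintro ⟨_, s, t, rfl⟩
    exact ⟨(s, t), rfl⟩

theorem card_PN [Finite F] (h2 : (2 : F) ≠ 0) : Nat.card (PN D) = Nat.card F := by
  refine (Nat.card_congr (Equiv.ofBijective (fun t : F => (⟨xx D t (-t), t, rfl⟩ : PN D)) ?_)).symm
  constructor
  · intro s t h
    exact (xx_injective h2 (congrArg Subtype.val h)).1
  · rintro ⟨_, t, rfl⟩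
    exact ⟨t, rfl⟩

end basics

/-! ### Elements of odd order -/

theorem mem_of_sq_mem {G : Type*} [Group G] {S : Subgroup G} {c : G} (ho : Odd (orderOf c)) (h : c * c ∈ S) : c ∈ S := by
  obtain ⟨k, hk⟩ := ho
  have h1 : (c * c) ^ (k + 1) = c := by
    rw [← pow_two, ← pow_mul]
    have : 2 * (k + 1) = orderOf c + 1 := by omega
    rw [this, pow_succ, pow_orderOf_eq_one, one_mul]
  rw [← h1]
  exact S.pow_mem h _

theorem odd_orderOf_of_pow {G : Type*} [Group G] {c : G} {n : ℕ} (hn : Odd n) (h : c ^ n = 1) : Odd (orderOf c) :=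
  Odd.of_dvd_nat hn (orderOf_dvd_of_pow_eq_one h)

section cent

variable {G F : Type*} [Group G] [Field F] {D : Pair G F}

theorem xx_ne_one {s t : F} (h2 : (2 : F) ≠ 0) (h : xx D s t = 1) : s = 0 ∧ t = 0 := by
  rw [← xx_zero D] at h
  exact xx_injective h2 h

theorem sq_XX {a : G} (h2 : (2 : F) ≠ 0) (ha : a ∈ XX D) (h : a * a = 1) : a = 1 := by
  obtain ⟨s, t, rfl⟩ := ha
  rw [xx_mul] at h
  obtain ⟨h1, h3⟩ := xx_ne_one h2 h
  have e1 : s = 0 := by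
    have : (2 : F) * s = 0 := by linear_combination h1
    exact (mul_eq_zero.1 this).resolve_left h2
  have e3 : t = 0 := by
    have : (2 : F) * t = 0 := by linear_combination h3
    exact (mul_eq_zero.1 this).resolve_left h2
  rw [e1, e3, xx_zero]

theorem of_MP (h2 : (2 : F) ≠ 0) (H : Hyp D) {c : G} (hc : ∀ a ∈ PP D, c * a = a * c) (hz : c * D.z = D.z * c) :
    ∃ x ∈ XX D, ∃ v, (v = 1 ∨ v = D.z ∨ v = D.w ∨ v = D.z * D.w) ∧ c = x * v := by
  obtain ⟨s, r, v, hv, h⟩ := Closing.cent_P h2 H.cent H.cent0 hz (fun t => hc _ ⟨t, rfl⟩)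
  exact ⟨_, ⟨s, r, rfl⟩, v, hv, h⟩

theorem v_sq {v : G} (hv : v = 1 ∨ v = D.z ∨ v = D.w ∨ v = D.z * D.w) : v * v = 1 := by
  rcases hv with rfl | rfl | rfl | rfl
  · rw [mul_one]
  · exact zz D
  · exact D.ww
  · calc D.z * D.w * (D.z * D.w) = D.z * (D.w * D.z) * D.w := by group
      _ = (D.z * D.z) * (D.w * D.w) := by rw [wz]; group
      _ = 1 := by rw [zz, D.ww, mul_one]

theorem v_XX {v x : G} (hv : v = 1 ∨ v = D.z ∨ v = D.w ∨ v = D.z * D.w) (hx : x ∈ XX D) : v * x * v⁻¹ ∈ XX D := by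
  rcases hv with rfl | rfl | rfl | rfl
  · rwa [one_mul, inv_one, mul_one]
  · rwa [z_XX D hx, mul_inv_cancel_right]
  · exact w_XX D hx
  · have : D.z * D.w * x * (D.z * D.w)⁻¹ = D.z * (D.w * x * D.w⁻¹) * D.z⁻¹ := by group
    rw [this, z_XX D (w_XX D hx), mul_inv_cancel_right]
    exact w_XX D hx

theorem odd_of_MP (h2 : (2 : F) ≠ 0) (H : Hyp D) {c : G} (hc : ∀ a ∈ PP D, c * a = a * c) (hz : c * D.z = D.z * c)
    (ho : Odd (orderOf c)) : c ∈ XX D := by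
  obtain ⟨x, hx, v, hv, rfl⟩ := of_MP h2 H hc hz
  apply mem_of_sq_mem ho
  have : x * v * (x * v) = x * (v * x * v⁻¹) * (v * v) := by group
  rw [this, v_sq hv, mul_one]
  exact mul_mem hx (v_XX hv hx)

theorem odd_of_MP_w (h2 : (2 : F) ≠ 0) (H : Hyp D) {c : G} (hc : ∀ a ∈ PP D, c * a = a * c) (hz : c * D.z = D.z * c)
    (hw : c * D.w = D.w * c) (ho : Odd (orderOf c)) : c ∈ PP D :=
  mem_PP_of D h2 (odd_of_MP h2 H hc hz ho) hw

/-- `z` is isolated in `C(X₁X₂)` -/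
theorem eq_z_of_MX (h2 : (2 : F) ≠ 0) (H : Hyp D) {c : G} (hc : ∀ a ∈ XX D, c * a = a * c)
    (hz : c * D.z = D.z * c) (hcc : c * c = 1) (h1 : c ≠ 1) : c = D.z := by
  obtain ⟨x, hx, v, hv, h⟩ := of_MP h2 H (fun a ha => hc a (PP_le D ha)) hz
  have key : D.w * xx D 1 0 * D.w⁻¹ ≠ xx D 1 0 := by
    rw [w_xx]
    intro h3
    exact one_ne_zero (xx_injective h2 h3).2
  have hvx : v * xx D 1 0 * v⁻¹ = xx D 1 0 := by
    have e1 : c * xx D 1 0 * c⁻¹ = xx D 1 0 := by rw [hc _ ⟨1, 0, rfl⟩, mul_inv_cancel_right]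
    have e2 : x⁻¹ * xx D 1 0 * x = xx D 1 0 := by
      rw [mul_assoc, comm_XX D ⟨1, 0, rfl⟩ hx, inv_mul_cancel_left]
    have e3 : v * xx D 1 0 * v⁻¹ = x⁻¹ * (c * xx D 1 0 * c⁻¹) * x := by rw [h]; group
    rw [e3, e1, e2]
  have hsq : v * x = x * v → x = 1 := by
    intro hvx'
    apply sq_XX h2 hx
    have : x * x * (v * v) = c * c := by
      rw [h]
      calc x * x * (v * v) = x * (x * v) * v := by group
        _ = x * (v * x) * v := by rw [hvx']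
        _ = x * v * (x * v) := by group
    rw [v_sq hv, mul_one] at this
    rw [this, hcc]
  rcases hv with rfl | rfl | rfl | rfl
  · exfalso
    apply h1
    rw [h, mul_one, hsq (by rw [one_mul, mul_one])]
  · rw [h, hsq (z_XX D hx), one_mul]
  · exact absurd hvx key
  · exfalso
    apply key
    have : D.z * D.w * xx D 1 0 * (D.z * D.w)⁻¹ = D.z * (D.w * xx D 1 0 * D.w⁻¹) * D.z⁻¹ := by group
    rw [this, w_xx, z_xx, mul_inv_cancel_right] at hvx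
    rw [w_xx]
    exact hvx

theorem ux_conj_neg {a : SL2 F} (hns : ∀ r : F, r * r ≠ -1) {s : F} (hs : s ≠ 0) (h2 : (2 : F) ≠ 0)
    (h : a * ux (-s) * a⁻¹ = ux s) : False := by
  have h' : a * ux (-s) = ux s * a := by rw [← h]; group
  have e00 := congrArg (fun A : SL2 F => A 0 0) h'
  have e01 := congrArg (fun A : SL2 F => A 0 1) h'
  simp only [LnSL.mul00, LnSL.mul01, LnSL.ux00, LnSL.ux01, LnSL.ux10, LnSL.ux11] at e00 e01
  have h10 : a 1 0 = 0 := by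
    have : s * a 1 0 = 0 := by linear_combination -e00
    exact (mul_eq_zero.1 this).resolve_left hs
  have h11 : a 1 1 = -a 0 0 := by
    have : s * (a 1 1 + a 0 0) = 0 := by linear_combination -e01
    have := (mul_eq_zero.1 this).resolve_left hs
    linear_combination this
  have hd := LnSL.det_eq a
  rw [h10, h11] at hd
  apply hns (a 0 0)
  linear_combination -hd

/-- `C(z) ∩ C(P⁻) = X₁X₂⟨z⟩` if `-1` is not a square -/
theorem of_MN (h2 : (2 : F) ≠ 0) (hns : ∀ r : F, r * r ≠ -1) (H : Hyp D) {c : G}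
    (hc : ∀ a ∈ PN D, c * a = a * c) (hz : c * D.z = D.z * c) : ∃ x ∈ XX D, c = x ∨ c = x * D.z := by
  obtain ⟨d, σ, a, b, hcd, hodd, h₁, h₂⟩ := H.cent c hz
  have hd1 : ∀ t, d * D.φ₁ (ux t) * d⁻¹ = D.φ₁ (a * ux (σ t) * a⁻¹) := fun t => by
    rw [h₁, Closing.map_ux]; rfl
  have hd2 : ∀ t, d * D.φ₂ (ux t) * d⁻¹ = D.φ₂ (b * ux (σ t) * b⁻¹) := fun t => by
    rw [h₂, Closing.map_ux]; rfl
  rcases hcd with rfl | rfl
  · have h3 : ∀ t, D.φ₁ (a * ux (σ t) * a⁻¹) * D.φ₂ (b * ux (σ (-t)) * b⁻¹) = D.φ₁ (ux t) * D.φ₂ (ux (-t)) := by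
      intro t
      have h4 := hc _ ⟨t, rfl⟩
      rw [← hd1, ← hd2]
      have : c * D.φ₁ (ux t) * c⁻¹ * (c * D.φ₂ (ux (-t)) * c⁻¹) = c * xx D t (-t) * c⁻¹ := by
        unfold xx; group
      rw [this, h4, mul_inv_cancel_right]; rfl
    have h4 : ∀ t, a * ux (σ t) * a⁻¹ = ux t ∧ b * ux (σ t) * b⁻¹ = ux t := by
      intro t
      constructor
      · rcases (eq_iff D _ _ _ _).1 (h3 t) with ⟨h5, -⟩ | ⟨h5, -⟩
        · exact h5
        · exact (Closing.ux_ne_neg h2 h5).elim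
      · rcases (eq_iff D _ _ _ _).1 (h3 (-t)) with ⟨-, h5⟩ | ⟨h5, -⟩
        · rwa [neg_neg] at h5
        · exact (Closing.ux_ne_neg h2 h5).elim
    obtain ⟨hσ, s, hs⟩ := Closing.fix_ux (fun t => (h4 t).1)
    obtain ⟨-, r, hr⟩ := Closing.fix_ux (fun t => (h4 t).2)
    subst hσ
    simp only [Closing.map_refl] at h₁ h₂
    refine ⟨xx D s r, ⟨s, r, rfl⟩, ?_⟩
    have hcases : c = D.φ₁ (ux s) * D.φ₂ (ux r) ∨ c = D.φ₁ (-ux s) * D.φ₂ (ux r) := by
      have e1 : D.φ₁ (- ux s) * D.φ₂ (-ux r) = D.φ₁ (ux s) * D.φ₂ (ux r) :=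
        (eq_iff D _ _ _ _).2 (Or.inr ⟨rfl, rfl⟩)
      have e2 : D.φ₁ (ux s) * D.φ₂ (-ux r) = D.φ₁ (-ux s) * D.φ₂ (ux r) :=
        (eq_iff D _ _ _ _).2 (Or.inr ⟨by rw [neg_neg], rfl⟩)
      rcases Closing.inner_mem H.cent0 h₁ h₂ with h5 | h5 <;> rcases hs with rfl | rfl <;>
        rcases hr with rfl | rfl
      · exact Or.inl h5
      · exact Or.inr (h5.trans e2)
      · exact Or.inr h5
      · exact Or.inl (h5.trans e1)
      · exact Or.inr h5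
      · exact Or.inl (h5.trans e1)
      · rw [neg_neg] at h5; exact Or.inl h5
      · rw [neg_neg] at h5; exact Or.inr (h5.trans e2)
    rcases hcases with h5 | h5
    · exact Or.inl h5
    · right
      rw [h5, neg₁, mul_assoc]
      exact z_xx D _ _
  · exfalso
    have h4 := hc _ ⟨1, rfl⟩
    have h5 : d * D.w * xx D 1 (-1) * (d * D.w)⁻¹ = xx D 1 (-1) := by rw [h4, mul_inv_cancel_right]
    have h6 : d * D.w * xx D 1 (-1) * (d * D.w)⁻¹ = d * (D.w * xx D 1 (-1) * D.w⁻¹) * d⁻¹ := by group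
    rw [h6, w_xx] at h5
    have h7 : d * xx D (-1) 1 * d⁻¹ = d * D.φ₁ (ux (-1)) * d⁻¹ * (d * D.φ₂ (ux 1) * d⁻¹) := by
      unfold xx; group
    rw [h7, hd1, hd2, map_neg, map_one] at h5
    rcases (eq_iff D _ _ _ _).1 h5 with ⟨h8, -⟩ | ⟨h8, -⟩
    · exact ux_conj_neg hns one_ne_zero h2 h8
    · exact Closing.ux_ne_neg h2 h8

theorem odd_of_MN (h2 : (2 : F) ≠ 0) (hns : ∀ r : F, r * r ≠ -1) (H : Hyp D) {c : G}
    (hc : ∀ a ∈ PN D, c * a = a * c) (hz : c * D.z = D.z * c) (ho : Odd (orderOf c)) : c ∈ XX D := by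
  obtain ⟨x, hx, rfl | rfl⟩ := of_MN h2 hns H hc hz
  · exact hx
  · apply mem_of_sq_mem ho
    have : x * D.z * (x * D.z) = x * (D.z * x) * D.z := by group
    rw [this, z_XX D hx]
    have : x * (x * D.z) * D.z = x * x * (D.z * D.z) := by group
    rw [this, zz, mul_one]
    exact mul_mem hx hx

theorem eq_z_of_MN (h2 : (2 : F) ≠ 0) (hns : ∀ r : F, r * r ≠ -1) (H : Hyp D) {c : G}
    (hc : ∀ a ∈ PN D, c * a = a * c) (hz : c * D.z = D.z * c) (hcc : c * c = 1) (h1 : c ≠ 1) : c = D.z := by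
  obtain ⟨x, hx, rfl | rfl⟩ := of_MN h2 hns H hc hz
  · exact absurd (sq_XX h2 hx hcc) h1
  · have : x = 1 := by
      apply sq_XX h2 hx
      have e : x * D.z * (x * D.z) = x * (D.z * x) * D.z := by group
      rw [e, z_XX D hx] at hcc
      have : x * (x * D.z) * D.z = x * x * (D.z * D.z) := by group
      rwa [this, zz, mul_one] at hcc
    rw [this, one_mul]

end cent

end Cfsg.Agent.SpFourOdd.LnX
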