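import Cfsg.Agent.SpFourOdd.SLFacts

/-!
# Facts about a pair of commuting `SL₂(F)`'s

Elementary calculations in `(L₁ ∘ L₂)⟨w⟩`; the involutions of `C(z)`.
-/

set_option autoImplicit false

namespace Cfsg.Agent.SpFourOdd.Closing

section

variable {G F : Type*} [Group G] [Field F] (D : Pair G F)

theorem zz : D.z * D.z = 1 := by
  rw [← D.z₁, ← map_mul, neg_mul_neg, mul_one, map_one]

theorem z_ne (h2 : (2 : F) ≠ 0) : D.z ≠ 1 := by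
  intro h
  have h1 : D.φ₁ (-1) * D.φ₂ 1 = 1 := by rw [D.z₁, map_one, mul_one, h]
  rcases D.ker _ _ h1 with h3 | h3
  · exact neg_one_ne_one h2 h3.1
  · exact neg_one_ne_one h2 h3.2.symm

theorem neg₁ (a : SL2 F) : D.φ₁ (-a) = D.z * D.φ₁ a := by
  rw [← D.z₁, ← map_mul, neg_one_mul]

theorem neg₂ (a : SL2 F) : D.φ₂ (-a) = D.z * D.φ₂ a := by
  rw [← D.z₂, ← map_mul, neg_one_mul]

theorem z_comm₁ (a : SL2 F) : D.z * D.φ₁ a = D.φ₁ a * D.z := by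
  rw [← D.z₁, ← map_mul, ← map_mul, neg_one_mul, mul_neg_one]

theorem z_comm₂ (a : SL2 F) : D.z * D.φ₂ a = D.φ₂ a * D.z := by
  rw [← D.z₂, ← map_mul, ← map_mul, neg_one_mul, mul_neg_one]

theorem w_inv : D.w⁻¹ = D.w := inv_eq_of_mul_eq_one_left D.ww

theorem z_inv : D.z⁻¹ = D.z := inv_eq_of_mul_eq_one_left (zz D)

theorem w₁ (a : SL2 F) : D.w * D.φ₁ a = D.φ₂ a * D.w := by
  rw [← D.conj a]
  simp only [mul_assoc, D.ww, mul_one]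

theorem w₂ (a : SL2 F) : D.w * D.φ₂ a = D.φ₁ a * D.w := by
  rw [← D.conj a]
  have : D.w * (D.w * D.φ₁ a * D.w) = (D.w * D.w) * D.φ₁ a * D.w := by group
  rw [this, D.ww, one_mul]

theorem wz : D.w * D.z = D.z * D.w := by
  conv_lhs => rw [← D.z₁, w₁, D.z₂]

/-- `φ₁ a φ₂ b = φ₁ c φ₂ d` -/
theorem eq_iff (a b c d : SL2 F) : D.φ₁ a * D.φ₂ b = D.φ₁ c * D.φ₂ d ↔ (a = c ∧ b = d) ∨ (a = -c ∧ b = -d) := by
  constructor
  · intro h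
    have h1 : D.φ₁ (c⁻¹ * a) * D.φ₂ (b * d⁻¹) = 1 := by
      rw [map_mul, map_mul, map_inv, map_inv]
      have : (D.φ₁ c)⁻¹ * D.φ₁ a * (D.φ₂ b * (D.φ₂ d)⁻¹) = (D.φ₁ c)⁻¹ * (D.φ₁ a * D.φ₂ b) * (D.φ₂ d)⁻¹ := by group
      rw [this, h]
      group
    rcases D.ker _ _ h1 with h3 | h3
    · left
      exact ⟨(inv_mul_eq_one.mp h3.1).symm, mul_inv_eq_one.mp h3.2⟩
    · right
      constructor
      · have := h3.1
        rw [inv_mul_eq_iff_eq_mul] at this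
        rw [this, mul_neg_one]
      · have := h3.2
        rw [mul_inv_eq_iff_eq_mul] at this
        rw [this, neg_one_mul]
  · rintro (⟨rfl, rfl⟩ | ⟨rfl, rfl⟩)
    · rfl
    · rw [neg₁, neg₂, z_comm₁]
      have : D.φ₁ c * D.z * (D.z * D.φ₂ d) = D.φ₁ c * (D.z * D.z) * D.φ₂ d := by group
      rw [this, zz, mul_one]

theorem inj₁ {a b : SL2 F} (h : D.φ₁ a = D.φ₁ b) : a = b := by
  have h1 : D.φ₁ a * D.φ₂ 1 = D.φ₁ b * D.φ₂ 1 := by rw [h]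
  rcases (eq_iff D _ _ _ _).mp h1 with h3 | h3
  · exact h3.1
  · have h4 := h3.2
    rw [h3.1]
    have : (-b : SL2 F) = (-1) * b := (neg_one_mul b).symm
    rw [this, ← h4, one_mul]

theorem inj₂ {a b : SL2 F} (h : D.φ₂ a = D.φ₂ b) : a = b := by
  apply inj₁ D
  have h1 := w₂ D a
  rw [h, w₂ D b] at h1
  exact (mul_right_cancel h1).symm

/-- `φ₁ a = φ₂ b` -/
theorem eq₁₂ {a b : SL2 F} (h : D.φ₁ a = D.φ₂ b) : (a = 1 ∧ b = 1) ∨ (a = -1 ∧ b = -1) := by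
  have h1 : D.φ₁ a * D.φ₂ 1 = D.φ₁ 1 * D.φ₂ b := by rw [map_one, map_one, mul_one, one_mul, h]
  rcases (eq_iff D _ _ _ _).mp h1 with h3 | h3
  · exact Or.inl ⟨h3.1, h3.2.symm⟩
  · exact Or.inr ⟨h3.1, by rw [h3.2, neg_neg]⟩

/-- multiplication of two elements `φ₁ a φ₂ b` -/
theorem mul_form (a b c d : SL2 F) : D.φ₁ a * D.φ₂ b * (D.φ₁ c * D.φ₂ d) = D.φ₁ (a * c) * D.φ₂ (b * d) := by
  rw [map_mul, map_mul]
  have : D.φ₁ a * D.φ₂ b * (D.φ₁ c * D.φ₂ d) = D.φ₁ a * (D.φ₂ b * D.φ₁ c) * D.φ₂ d := by group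
  rw [this, ← D.comm]
  group

theorem inv_form (a b : SL2 F) : (D.φ₁ a * D.φ₂ b)⁻¹ = D.φ₁ a⁻¹ * D.φ₂ b⁻¹ := by
  rw [mul_inv_rev, ← map_inv, ← map_inv, D.comm]

theorem w_form (a b : SL2 F) : D.w * (D.φ₁ a * D.φ₂ b) = D.φ₁ b * D.φ₂ a * D.w := by
  rw [← mul_assoc, w₁, mul_assoc, w₂, ← mul_assoc, D.comm]

theorem z_form (a b : SL2 F) : D.z * (D.φ₁ a * D.φ₂ b) = D.φ₁ a * D.φ₂ b * D.z := by
  rw [← mul_assoc, z_comm₁, mul_assoc, z_comm₂, ← mul_assoc]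

theorem w_ne_form (h2 : (2 : F) ≠ 0) [Finite F] (a b : SL2 F) : D.φ₁ a * D.φ₂ b ≠ D.w := by
  intro h
  obtain ⟨i, j, hi, hj, hij⟩ := exists_pair h2
  have h1 := w₁ D i
  rw [← h] at h1
  have h3 : D.φ₁ a * D.φ₂ b * D.φ₁ i = D.φ₁ a * D.φ₁ i * D.φ₂ b := by
    rw [mul_assoc, ← D.comm, ← mul_assoc]
  have h4 : D.φ₂ i * (D.φ₁ a * D.φ₂ b) = D.φ₁ a * (D.φ₂ i * D.φ₂ b) := by
    rw [← mul_assoc, ← D.comm, mul_assoc]
  rw [h3, h4, mul_assoc, mul_left_cancel_iff, ← map_mul, D.comm, map_mul] at h1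
  have h5 : D.φ₁ i = D.φ₂ (b⁻¹ * i * b) := by
    rw [map_mul, map_mul, map_inv]
    have : D.φ₂ b * D.φ₁ i = D.φ₂ i * D.φ₂ b := h1
    rw [mul_assoc, ← this, inv_mul_cancel_left]
  rcases eq₁₂ D h5 with h6 | h6
  · rw [h6.1, one_mul] at hi
    exact neg_one_ne_one h2 hi.symm
  · rw [h6.1, neg_mul_neg, one_mul] at hi
    exact neg_one_ne_one h2 hi.symm

theorem w_ne_one (h2 : (2 : F) ≠ 0) [Finite F] : D.w ≠ 1 := by
  intro h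
  apply w_ne_form D h2 1 1
  rw [map_one, map_one, one_mul, h]

theorem w_ne_z (h2 : (2 : F) ≠ 0) [Finite F] : D.w ≠ D.z := by
  intro h
  apply w_ne_form D h2 (-1) 1
  rw [map_one, D.z₁, mul_one, h]

/-- no element `φ₁ i` with `i² = -1` commutes with `w` -/
theorem not_comm₁ (h2 : (2 : F) ≠ 0) {i : SL2 F} (hi : i * i = -1) : D.w * D.φ₁ i ≠ D.φ₁ i * D.w := by
  intro h
  rw [w₁, mul_left_inj] at h
  rcases eq₁₂ D h.symm with h6 | h6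
  · rw [h6.1, one_mul] at hi
    exact neg_one_ne_one h2 hi.symm
  · rw [h6.1, neg_mul_neg, one_mul] at hi
    exact neg_one_ne_one h2 hi.symm

theorem not_comm₂ (h2 : (2 : F) ≠ 0) {i : SL2 F} (hi : i * i = -1) : D.w * D.φ₂ i ≠ D.φ₂ i * D.w := by
  intro h
  rw [w₂, mul_left_inj] at h
  rcases eq₁₂ D h with h6 | h6
  · rw [h6.1, one_mul] at hi
    exact neg_one_ne_one h2 hi.symm
  · rw [h6.1, neg_mul_neg, one_mul] at hi
    exact neg_one_ne_one h2 hi.symm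

/-- `φ₁ a φ₂ a⁻¹ w = φ₁ a w (φ₁ a)⁻¹` -/
theorem conj_w (a : SL2 F) : D.φ₁ a * D.w * (D.φ₁ a)⁻¹ = D.φ₁ a * D.φ₂ a⁻¹ * D.w := by
  rw [mul_assoc, ← map_inv, w₁, ← mul_assoc]

theorem conj_u (a : SL2 F) : D.φ₁ a * (D.z * D.w) * (D.φ₁ a)⁻¹ = D.φ₁ a * D.φ₂ (-a⁻¹) * D.w := by
  rw [neg₂, ← map_inv]
  have : D.φ₁ a * (D.z * D.w) * D.φ₁ a⁻¹ = D.φ₁ a * D.z * (D.w * D.φ₁ a⁻¹) := by group
  rw [this, w₁]
  group

/-- The involutions of `C(z)`. -/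
theorem invol_form (h2 : (2 : F) ≠ 0)
    {c : G} (hc : ∃ a b, c = D.φ₁ a * D.φ₂ b ∨ c = D.φ₁ a * D.φ₂ b * D.w) (hcc : c * c = 1) :
    c = 1 ∨ c = D.z ∨ (∃ a b : SL2 F, a * a = -1 ∧ b * b = -1 ∧ c = D.φ₁ a * D.φ₂ b) ∨
      (∃ a, c = D.φ₁ a * D.w * (D.φ₁ a)⁻¹) ∨ ∃ a, c = D.φ₁ a * (D.z * D.w) * (D.φ₁ a)⁻¹ := by
  obtain ⟨a, b, rfl | rfl⟩ := hc
  · rw [mul_form] at hcc
    rcases D.ker _ _ hcc with ⟨h3, h4⟩ | ⟨h3, h4⟩
    · rcases sq_one h2 h3 with rfl | rfl <;> rcases sq_one h2 h4 with rfl | rfl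
      · left; rw [map_one, map_one, one_mul]
      · right; left; rw [map_one, D.z₂, one_mul]
      · right; left; rw [map_one, D.z₁, mul_one]
      · left; rw [D.z₁, D.z₂, zz]
    · right; right; left
      exact ⟨a, b, h3, h4, rfl⟩
  · have h5 : D.φ₁ a * D.φ₂ b * D.w * (D.φ₁ a * D.φ₂ b * D.w) =
        D.φ₁ (a * b) * D.φ₂ (b * a) := by
      have : D.φ₁ a * D.φ₂ b * D.w * (D.φ₁ a * D.φ₂ b * D.w) =
        D.φ₁ a * D.φ₂ b * (D.w * (D.φ₁ a * D.φ₂ b)) * D.w := by group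
      rw [this, w_form]
      have h6 : D.φ₁ a * D.φ₂ b * (D.φ₁ b * D.φ₂ a * D.w) * D.w = D.φ₁ a * D.φ₂ b * (D.φ₁ b * D.φ₂ a) * (D.w * D.w) := by
        group
      rw [h6, D.ww, mul_one, mul_form]
    rw [h5] at hcc
    rcases D.ker _ _ hcc with ⟨h3, h4⟩ | ⟨h3, h4⟩
    · right; right; right; left
      refine ⟨a, ?_⟩
      have hb : b = a⁻¹ := eq_inv_of_mul_eq_one_right h3
      rw [conj_w, hb]
    · right; right; right; right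
      refine ⟨a, ?_⟩
      have hb : b = -a⁻¹ := by
        have : b = a⁻¹ * (a * b) := by group
        rw [this, h3, mul_neg_one]
      rw [conj_u, hb]

/-- weak hypotheses: the involutions of `C(z)` lie in `L₁ L₂ ⟨w⟩`, and `C(z)` permutes `{L₁, L₂}` -/
structure Weak : Prop where
  inv : ∀ c, c * D.z = D.z * c → c * c = 1 → ∃ a b, c = D.φ₁ a * D.φ₂ b ∨ c = D.φ₁ a * D.φ₂ b * D.w
  nrm : ∀ c, c * D.z = D.z * c → ∀ x, ∃ y, c * D.φ₁ x * c⁻¹ = D.φ₁ y ∨ c * D.φ₁ x * c⁻¹ = D.φ₂ y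
  zu : ¬ IsConj D.z (D.z * D.w)
  zk : ∀ a b, a * a = -1 → b * b = -1 → ¬ IsConj D.z (D.φ₁ a * D.φ₂ b)

variable {D}

/-- `φ₁ a φ₂ a` -/
def kk (D : Pair G F) (a : SL2 F) : G := D.φ₁ a * D.φ₂ a

theorem kk_mul (a b : SL2 F) : kk D (a * b) = kk D a * kk D b := by
  unfold kk
  rw [mul_form]

theorem kk_inv (a : SL2 F) : kk D a⁻¹ = (kk D a)⁻¹ := by
  unfold kk
  rw [inv_form]

theorem kk_one : kk D 1 = 1 := by
  unfold kk
  rw [map_one, map_one, mul_one]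

theorem kk_neg (a : SL2 F) : kk D (-a) = kk D a := by
  unfold kk
  exact (eq_iff D _ _ _ _).mpr (Or.inr ⟨rfl, rfl⟩)

theorem kk_w (a : SL2 F) : D.w * kk D a = kk D a * D.w := by
  unfold kk
  rw [w_form]

theorem kk_z (a : SL2 F) : D.z * kk D a = kk D a * D.z := by
  unfold kk
  rw [z_form]

/-- `a ↦ φ₁ a φ₂ a` as a homomorphism -/
def kkHom (D : Pair G F) : SL2 F →* G := MonoidHom.mk' (kk D) kk_mul

end

end Cfsg.Agent.SpFourOdd.Closing
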