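import Cfsg.Agent.SpFourOdd.PtE

/-!
# The point part, VI: the structure constants
-/

set_option autoImplicit false

namespace Cfsg.Agent.SpFourOdd.Pt

open Matrix

variable {G F : Type*} [Group G] [Field F] {D : Pair G F} {K Y : Subgroup G} {p : ℕ}

/-- an additive map which is linear with respect to squares is linear -/
theorem linear_of_sq (h2 : (2 : F) ≠ 0) (g : F → F) (hadd : ∀ s t, g (s + t) = g s + g t)
    (hsq : ∀ (b : Fˣ) (t : F), g (b * b * t) = b * b * g t) (t : F) : g t = t * g 1 := by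
  have h0 : g 0 = 0 := by
    have := hadd 0 0
    rw [add_zero] at this
    exact left_eq_add.1 this
  have hb : ∀ b : F, g (b * b) = b * b * g 1 := by
    intro b
    rcases eq_or_ne b 0 with rfl | hb
    · rw [mul_zero, h0, zero_mul]
    · have := hsq (Units.mk0 b hb) 1
      rw [Units.val_mk0, mul_one] at this
      exact this
  have h3 : t + ((t - 1) / 2) * ((t - 1) / 2) = ((t + 1) / 2) * ((t + 1) / 2) := by
    field_simp; ring
  have h4 := hadd t (((t - 1) / 2) * ((t - 1) / 2))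
  rw [h3, hb, hb, ← h3] at h4
  linear_combination -h4

namespace Co

variable {y : F → G} {f β : F → F → F} (C : Co D Y y f β)

section

include C

theorem y_zero : y 0 = 1 := by
  have := C.add 0 0
  rw [add_zero] at this
  exact left_eq_mul.1 this

theorem y_neg (t : F) : y (-t) = (y t)⁻¹ := by
  rw [eq_inv_iff_mul_eq_one, ← C.add, neg_add_cancel, C.y_zero]

theorem y2_add (s t : F) : y2 D y (s + t) = y2 D y s * y2 D y t := by
  rw [y2, y2, y2, C.add]; group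

theorem y2_zero : y2 D y 0 = 1 := by
  rw [y2, C.y_zero, mul_one, mul_inv_cancel]

theorem κ₂_y (b : Fˣ) (t : F) : MulAut.conj (D.φ₂ (hx b)) (y t) = y (b * t) := by
  rw [MulAut.conj_apply, C.h]

theorem κ₂_y2 (b : Fˣ) (t : F) : MulAut.conj (D.φ₂ (hx b)) (y2 D y t) = y2 D y ((b⁻¹ : Fˣ) * t) := by
  rw [MulAut.conj_apply, y2, y2, ← C.h]
  have h1 : D.φ₂ (hx b) * D.φ₂ nx = D.φ₂ nx * D.φ₂ (hx b⁻¹) := by
    rw [← map_mul, ← map_mul, hx_mul_nx]
  calc D.φ₂ (hx b) * (D.φ₂ nx * y t * (D.φ₂ nx)⁻¹) * (D.φ₂ (hx b))⁻¹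
      = (D.φ₂ (hx b) * D.φ₂ nx) * y t * (D.φ₂ (hx b) * D.φ₂ nx)⁻¹ := by group
    _ = _ := by rw [h1]; group

end

theorem κ₂_x₂ (b : Fˣ) (t : F) : MulAut.conj (D.φ₂ (hx b)) (D.φ₂ (ux t)) = D.φ₂ (ux (b * b * t)) := by
  rw [MulAut.conj_apply, ← map_mul, ← map_inv, ← map_mul, hx_mul_ux, mul_inv_cancel_right]

theorem κ₂_x₁ (b : Fˣ) (t : F) : MulAut.conj (D.φ₂ (hx b)) (D.φ₁ (ux t)) = D.φ₁ (ux t) := by
  rw [MulAut.conj_apply, ← D.comm, mul_inv_cancel_right]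

theorem κ₁_x₁ (b : Fˣ) (t : F) : MulAut.conj (D.φ₁ (hx b)) (D.φ₁ (ux t)) = D.φ₁ (ux (b * b * t)) := by
  rw [MulAut.conj_apply, ← map_mul, ← map_inv, ← map_mul, hx_mul_ux, mul_inv_cancel_right]

theorem κ₁_x₂ (b : Fˣ) (t : F) : MulAut.conj (D.φ₁ (hx b)) (D.φ₂ (ux t)) = D.φ₂ (ux t) := by
  rw [MulAut.conj_apply, D.comm, mul_inv_cancel_right]

theorem κ₁_y (C : Co D Y y f β) (L : Line p D Y) (b : Fˣ) (t : F) :
    MulAut.conj (D.φ₁ (hx b)) (y t) = y (b * t) := by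
  rw [MulAut.conj_apply, LineF.h₁ L b (C.mem t), C.h]

theorem κ₁_y2 (C : Co D Y y f β) (L : Line p D Y) (b : Fˣ) (t : F) :
    MulAut.conj (D.φ₁ (hx b)) (y2 D y t) = y2 D y (b * t) := by
  rw [MulAut.conj_apply, y2, y2, ← C.κ₁_y L, MulAut.conj_apply]
  have h1 : D.φ₁ (hx b) * D.φ₂ nx = D.φ₂ nx * D.φ₁ (hx b) := D.comm _ _
  calc D.φ₁ (hx b) * (D.φ₂ nx * y t * (D.φ₂ nx)⁻¹) * (D.φ₁ (hx b))⁻¹
      = (D.φ₁ (hx b) * D.φ₂ nx) * y t * (D.φ₁ (hx b) * D.φ₂ nx)⁻¹ := by group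
    _ = _ := by rw [h1]; group

include C in
/-- the structure constants -/
theorem exists_const (h2 : (2 : F) ≠ 0) (L : Line p D Y) :
    ∃ c₀ : F, (∀ s t, f s t = c₀ * (s * s * t)) ∧ ∀ s t, β t s = c₀ * (-(2 * t * s)) := by
  have hX : Function.Injective fun c => D.φ₁ (ux c) := fun a b h => ux_injective (φ₁_inj D h2 h)
  have hXY : ∀ c t, D.φ₁ (ux c) * y t = y t * D.φ₁ (ux c) := fun c t => LineF.x₁ L (C.mem t) c
  have hX2 : ∀ c t, D.φ₁ (ux c) * y2 D y t = y2 D y t * D.φ₁ (ux c) := by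
    intro c t
    rw [y2]
    calc D.φ₁ (ux c) * (D.φ₂ nx * y t * (D.φ₂ nx)⁻¹) = (D.φ₁ (ux c) * D.φ₂ nx) * y t * (D.φ₂ nx)⁻¹ := by group
      _ = D.φ₂ nx * (D.φ₁ (ux c) * y t) * (D.φ₂ nx)⁻¹ := by rw [D.comm]; group
      _ = D.φ₂ nx * y t * (D.φ₁ (ux c) * (D.φ₂ nx)⁻¹) := by rw [hXY]; group
      _ = _ := by rw [← map_inv, D.comm]; group
  -- `β`
  have hβadd : ∀ s t u, β (t + u) s = β t s + β u s := by
    intro s t u
    apply hX
    have h1 := C.rel2 s (t + u)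
    have h3 : y (t + u) * y2 D y s = y2 D y s * y (t + u) * D.φ₁ (ux (β t s + β u s)) := by
      calc y (t + u) * y2 D y s = y t * (y u * y2 D y s) := by rw [C.add, mul_assoc]
        _ = (y t * y2 D y s) * y u * D.φ₁ (ux (β u s)) := by rw [C.rel2]; simp only [mul_assoc]
        _ = y2 D y s * y t * (D.φ₁ (ux (β t s)) * y u) * D.φ₁ (ux (β u s)) := by rw [C.rel2]; simp only [mul_assoc]
        _ = _ := by rw [hXY, C.add, ux_add, map_mul]; simp only [mul_assoc]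
    rw [h1] at h3
    exact mul_left_cancel h3
  have hβ2 : ∀ (b : Fˣ) s t, β (b * t) ((b⁻¹ : Fˣ) * s) = β t s := by
    intro b s t
    apply hX
    have h1 := congrArg (MulAut.conj (D.φ₂ (hx b))) (C.rel2 s t)
    rw [map_mul, map_mul, map_mul, C.κ₂_y, C.κ₂_y2, κ₂_x₁, C.rel2] at h1
    exact mul_left_cancel h1
  have hβ1 : ∀ (b : Fˣ) s t, β (b * t) (b * s) = b * b * β t s := by
    intro b s t
    apply hX
    have h1 := congrArg (MulAut.conj (D.φ₁ (hx b))) (C.rel2 s t)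
    rw [map_mul, map_mul, map_mul, C.κ₁_y L, C.κ₁_y2 L, κ₁_x₁, C.rel2] at h1
    exact mul_left_cancel h1
  have hγ : ∀ t, β t 1 = t * β 1 1 := by
    refine linear_of_sq h2 (fun t => β t 1) (fun s t => hβadd 1 s t) (fun b t => ?_)
    change β (b * b * t) 1 = b * b * β t 1
    rw [← hβ2 b 1 t, mul_one, ← hβ1, mul_assoc, Units.mul_inv]
  have hβ0 : ∀ t, β t 0 = 0 := by
    intro t
    apply hX
    have h1 := C.rel2 0 t
    rw [C.y2_zero, mul_one, one_mul] at h1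
    change D.φ₁ (ux (β t 0)) = D.φ₁ (ux 0)
    rw [ux_zero, map_one]
    exact left_eq_mul.1 h1
  have hβ : ∀ s t, β t s = t * s * β 1 1 := by
    intro s t
    rcases eq_or_ne s 0 with rfl | hs
    · rw [hβ0, mul_zero, zero_mul]
    · have h1 := hβ2 (Units.mk0 s hs) s t
      rw [← h1, Units.val_inv_eq_inv_val, Units.val_mk0, inv_mul_cancel₀ hs, hγ, mul_comm s t]
  -- `f`
  have hfadd : ∀ s t u, f s (t + u) = f s t + f s u := by
    intro s t u
    apply hX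
    have h1 := C.rel s (t + u)
    have h3 : D.φ₂ (ux (t + u)) * y2 D y s * (D.φ₂ (ux (t + u)))⁻¹ =
        y2 D y s * y (-((t + u) * s)) * D.φ₁ (ux (f s t + f s u)) := by
      have h4 : D.φ₂ (ux t) * y (-(u * s)) * (D.φ₂ (ux t))⁻¹ = y (-(u * s)) := by
        rw [← L.x _ (C.mem _), mul_inv_cancel_right]
      have h5 : D.φ₂ (ux t) * D.φ₁ (ux (f s u)) * (D.φ₂ (ux t))⁻¹ = D.φ₁ (ux (f s u)) := by
        rw [← D.comm, mul_inv_cancel_right]
      calc D.φ₂ (ux (t + u)) * y2 D y s * (D.φ₂ (ux (t + u)))⁻¹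
          = D.φ₂ (ux t) * (D.φ₂ (ux u) * y2 D y s * (D.φ₂ (ux u))⁻¹) * (D.φ₂ (ux t))⁻¹ := by
            rw [ux_add, map_mul]; group
        _ = (D.φ₂ (ux t) * y2 D y s * (D.φ₂ (ux t))⁻¹) * (D.φ₂ (ux t) * y (-(u * s)) * (D.φ₂ (ux t))⁻¹) *
            (D.φ₂ (ux t) * D.φ₁ (ux (f s u)) * (D.φ₂ (ux t))⁻¹) := by rw [C.rel]; group
        _ = y2 D y s * y (-(t * s)) * (D.φ₁ (ux (f s t)) * y (-(u * s))) * D.φ₁ (ux (f s u)) := by
            rw [h4, h5, C.rel]; simp only [mul_assoc]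
        _ = _ := by
            rw [hXY, add_mul, neg_add, C.add, ux_add, map_mul]; simp only [mul_assoc]
    rw [h1] at h3
    exact mul_left_cancel h3
  have hf2 : ∀ (b : Fˣ) s t, f ((b⁻¹ : Fˣ) * s) (b * b * t) = f s t := by
    intro b s t
    apply hX
    have h1 := congrArg (MulAut.conj (D.φ₂ (hx b))) (C.rel s t)
    rw [map_mul, map_mul, map_mul, map_mul, map_inv, C.κ₂_y, C.κ₂_y2, κ₂_x₁, κ₂_x₂, C.rel] at h1
    have h3 : -((b : F) * b * t * (((b⁻¹ : Fˣ) : F) * s)) = b * -(t * s) := by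
      rw [Units.val_inv_eq_inv_val]; field_simp
    rw [h3] at h1
    exact mul_left_cancel h1
  have hf1 : ∀ (b : Fˣ) s t, f (b * s) t = b * b * f s t := by
    intro b s t
    apply hX
    have h1 := congrArg (MulAut.conj (D.φ₁ (hx b))) (C.rel s t)
    rw [map_mul, map_mul, map_mul, map_mul, map_inv, C.κ₁_y L, C.κ₁_y2 L, κ₁_x₁, κ₁_x₂, C.rel] at h1
    have h3 : -(t * ((b : F) * s)) = b * -(t * s) := by ring
    rw [h3] at h1
    exact mul_left_cancel h1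
  have hf10 : ∀ t, f 1 t = t * f 1 1 := by
    refine linear_of_sq h2 (fun t => f 1 t) (fun s t => hfadd 1 s t) (fun b t => ?_)
    change f 1 (b * b * t) = b * b * f 1 t
    rw [← hf1 b 1 t, mul_one, ← hf2 b b t, Units.inv_mul]
  have hf0 : ∀ t, f 0 t = 0 := by
    intro t
    apply hX
    have h1 := C.rel 0 t
    rw [C.y2_zero, mul_one, mul_inv_cancel, mul_zero, neg_zero, C.y_zero, one_mul, one_mul] at h1
    change D.φ₁ (ux (f 0 t)) = D.φ₁ (ux 0)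
    rw [ux_zero, map_one]
    exact h1.symm
  have hf : ∀ s t, f s t = s * s * t * f 1 1 := by
    intro s t
    rcases eq_or_ne s 0 with rfl | hs
    · rw [hf0]; ring
    · have h1 := hf1 (Units.mk0 s hs) 1 t
      rw [Units.val_mk0, mul_one, hf10] at h1
      rw [h1]; ring
  -- additivity in `s`
  have hfs : f (1 + 1) 1 = f 1 1 + f 1 1 + β (-1) 1 := by
    apply hX
    have h1 := C.rel (1 + 1) 1
    have h3 : D.φ₂ (ux 1) * y2 D y (1 + 1) * (D.φ₂ (ux 1))⁻¹ =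
        y2 D y (1 + 1) * y (-(1 * (1 + 1))) * D.φ₁ (ux (f 1 1 + f 1 1 + β (-1) 1)) := by
      have h4 := C.rel 1 1
      have h5 := C.rel2 1 (-1)
      rw [mul_one] at h4
      calc D.φ₂ (ux 1) * y2 D y (1 + 1) * (D.φ₂ (ux 1))⁻¹
          = (D.φ₂ (ux 1) * y2 D y 1 * (D.φ₂ (ux 1))⁻¹) * (D.φ₂ (ux 1) * y2 D y 1 * (D.φ₂ (ux 1))⁻¹) := by
            rw [C.y2_add]; group
        _ = y2 D y 1 * y (-1) * (D.φ₁ (ux (f 1 1)) * y2 D y 1) * y (-1) * D.φ₁ (ux (f 1 1)) := by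
            rw [h4]; simp only [mul_assoc]
        _ = y2 D y 1 * (y (-1) * y2 D y 1) * (D.φ₁ (ux (f 1 1)) * y (-1)) * D.φ₁ (ux (f 1 1)) := by
            rw [hX2]; simp only [mul_assoc]
        _ = y2 D y 1 * y2 D y 1 * y (-1) * (D.φ₁ (ux (β (-1) 1)) * y (-1)) * D.φ₁ (ux (f 1 1)) * D.φ₁ (ux (f 1 1)) := by
            rw [h5, hXY]; simp only [mul_assoc]
        _ = y2 D y (1 + 1) * y (-(1 * (1 + 1))) * (D.φ₁ (ux (β (-1) 1)) * D.φ₁ (ux (f 1 1)) * D.φ₁ (ux (f 1 1))) := by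
            rw [hXY, C.y2_add, one_mul, neg_add, C.add]; simp only [mul_assoc]
        _ = _ := by
            rw [← map_mul, ← map_mul, ← ux_add, ← ux_add]
            congr 3
            ring
    rw [h1] at h3
    exact mul_left_cancel h3
  rw [hf, hβ] at hfs
  have hβf : β 1 1 = -2 * f 1 1 := by linear_combination hfs
  refine ⟨f 1 1, fun s t => by rw [hf]; ring, fun s t => by rw [hβ, hβf]; ring⟩

end Co

end Cfsg.Agent.SpFourOdd.Pt
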