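import Cfsg.Agent.SpFourOdd.PtY

/-!
# The point part, V: the coordinates on `Y`
-/

set_option autoImplicit false

namespace Cfsg.Agent.SpFourOdd.Pt

open Matrix

variable {G F : Type*} [Group G] [Field F] {D : Pair G F} {K Y : Subgroup G} {p : ℕ}

theorem nn (D : Pair G F) : D.φ₂ nx * D.φ₂ nx = D.z := by
  rw [← map_mul, nx_mul_nx, D.z₂]

/-- an element of `H₁` commutes with `X₁` -/
theorem x_comm {g : G} (hg : g ∈ H1 D) (t : F) : g * D.φ₁ (ux t) = D.φ₁ (ux t) * g := (mem_H1.1 hg t).symm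

theorem eq_one_of_inv {y : G} (hy : Odd (orderOf y)) (h : D.z * y * D.z = y⁻¹) (h' : D.z * y = y * D.z) : y = 1 := by
  rw [h', mul_assoc, zz, mul_one] at h
  exact eq_one_of_sq hy (by nth_rw 1 [h]; group)

theorem inter [Finite G] [Finite F] (h2 : (2 : F) ≠ 0) (hp : Odd p) (k : KData D K) (L : Line p D Y)
    {y e : G} (hy : y ∈ Y) (he : e ∈ Y) {c : F}
    (h : D.φ₂ nx * y * (D.φ₂ nx)⁻¹ = e * D.φ₁ (ux c)) : y = 1 ∧ e = 1 ∧ c = 0 := by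
  have hodd : ∀ y ∈ Y, Odd (orderOf y) := fun y hy => hp.of_dvd_nat (orderOf_dvd_of_pow_eq_one (L.exp y hy))
  set u := D.φ₂ nx * y * (D.φ₂ nx)⁻¹ with hu
  have hux : ∀ t, u * D.φ₂ (ux t) = D.φ₂ (ux t) * u := by
    intro t
    rw [h, mul_assoc, D.comm, ← mul_assoc, L.x e he t, mul_assoc]
  have hul : ∀ t, u * (D.φ₂ nx * D.φ₂ (ux t) * (D.φ₂ nx)⁻¹) = (D.φ₂ nx * D.φ₂ (ux t) * (D.φ₂ nx)⁻¹) * u := by
    intro t
    calc u * (D.φ₂ nx * D.φ₂ (ux t) * (D.φ₂ nx)⁻¹) = D.φ₂ nx * (y * D.φ₂ (ux t)) * (D.φ₂ nx)⁻¹ := by rw [hu]; group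
      _ = _ := by rw [L.x y hy t, hu]; group
  have hn : D.φ₂ (nx : SL2 F) = D.φ₂ (ux 1) * (D.φ₂ nx * D.φ₂ (ux 1) * (D.φ₂ nx)⁻¹) * D.φ₂ (ux 1) := by
    have h1 := ux_lx_ux (1 : Fˣ)
    have h3 : lx (-1 : F) = nx * ux 1 * nx⁻¹ := by
      rw [eq_mul_inv_iff_mul_eq, nx_mul_ux]
    rw [hx_one, one_mul, Units.val_one, inv_one, h3] at h1
    rw [← map_inv, ← map_mul, ← map_mul, ← map_mul, ← map_mul, h1]
  have hun : u * D.φ₂ nx = D.φ₂ nx * u := by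
    have hc1 : Commute u (D.φ₂ (ux 1)) := hux 1
    have hc2 : Commute u (D.φ₂ nx * D.φ₂ (ux 1) * (D.φ₂ nx)⁻¹) := hul 1
    have hc : Commute u (D.φ₂ (ux 1) * (D.φ₂ nx * D.φ₂ (ux 1) * (D.φ₂ nx)⁻¹) * D.φ₂ (ux 1)) :=
      (hc1.mul_right hc2).mul_right hc1
    rw [← hn] at hc
    exact hc.eq
  have huy : u = y := by
    have h4 : D.φ₂ nx * u * (D.φ₂ nx)⁻¹ = u := by rw [← hun, mul_inv_cancel_right]
    nth_rw 2 [hu] at h4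
    exact mul_left_cancel (mul_right_cancel h4)
  have hyz : D.z * y = y * D.z := by
    rw [← nn, ← huy, mul_assoc, ← hun, ← mul_assoc, ← hun, mul_assoc]
  have hy1 := eq_one_of_inv (hodd y hy) (L.inv y hy) hyz
  rw [hy1] at huy
  rw [huy] at h
  have h5 : e = D.φ₁ (ux (-c)) := by
    rw [ux_neg, map_inv]; exact eq_inv_of_mul_eq_one_left h.symm
  have he1 : e = 1 := by
    refine eq_one_of_inv (hodd e he) (L.inv e he) ?_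
    rw [h5, z_comm₁]
  rw [he1, one_mul] at h
  refine ⟨hy1, he1, ?_⟩
  have h6 : ux c = 1 := φ₁_inj D h2 (by rw [← h, map_one])
  rw [← ux_zero] at h6
  exact ux_injective h6

theorem uniq [Finite G] [Finite F] (h2 : (2 : F) ≠ 0) (hp : Odd p) (k : KData D K) (L : Line p D Y)
    {y y' e e' : G} (hy : y ∈ Y) (hy' : y' ∈ Y) (he : e ∈ Y) (he' : e' ∈ Y) {c c' : F}
    (h : D.φ₂ nx * y * (D.φ₂ nx)⁻¹ * e * D.φ₁ (ux c) = D.φ₂ nx * y' * (D.φ₂ nx)⁻¹ * e' * D.φ₁ (ux c')) :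
    y = y' ∧ e = e' ∧ c = c' := by
  have h1 : D.φ₂ nx * (y'⁻¹ * y) * (D.φ₂ nx)⁻¹ = (e' * e⁻¹) * D.φ₁ (ux (c' - c)) := by
    have h3 : D.φ₂ nx * y * (D.φ₂ nx)⁻¹ = D.φ₂ nx * y' * (D.φ₂ nx)⁻¹ * e' * D.φ₁ (ux c') * (D.φ₁ (ux c))⁻¹ * e⁻¹ := by
      rw [← h]; group
    have h4 : D.φ₁ (ux c') * (D.φ₁ (ux c))⁻¹ = D.φ₁ (ux (c' - c)) := by
      rw [sub_eq_add_neg, ux_add, ux_neg, map_mul, map_inv]
    have h5 : D.φ₁ (ux (c' - c)) * e⁻¹ = e⁻¹ * D.φ₁ (ux (c' - c)) := LineF.x₁ L (inv_mem he) _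
    calc D.φ₂ nx * (y'⁻¹ * y) * (D.φ₂ nx)⁻¹ = (D.φ₂ nx * y' * (D.φ₂ nx)⁻¹)⁻¹ * (D.φ₂ nx * y * (D.φ₂ nx)⁻¹) := by group
      _ = e' * (D.φ₁ (ux c') * (D.φ₁ (ux c))⁻¹) * e⁻¹ := by rw [h3]; group
      _ = _ := by rw [h4, mul_assoc, h5, mul_assoc]
  obtain ⟨h3, h4, h5⟩ := inter h2 hp k L (mul_mem (inv_mem hy') hy) (mul_mem he' (inv_mem he)) h1
  exact ⟨(inv_mul_eq_one.1 h3).symm, (mul_inv_eq_one.1 h4).symm, (sub_eq_zero.1 h5).symm⟩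

/-- the structure of the coordinates -/
structure Co (D : Pair G F) (Y : Subgroup G) (y : F → G) (f β : F → F → F) : Prop where
  mem : ∀ t, y t ∈ Y
  add : ∀ s t, y (s + t) = y s * y t
  surj : ∀ g ∈ Y, ∃ t, y t = g
  inj : Function.Injective y
  h : ∀ (b : Fˣ) (t : F), D.φ₂ (hx b) * y t * (D.φ₂ (hx b))⁻¹ = y (b * t)
  rel : ∀ s t, D.φ₂ (ux t) * y2 D y s * (D.φ₂ (ux t))⁻¹ = y2 D y s * y (-(t * s)) * D.φ₁ (ux (f s t))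
  rel2 : ∀ s t, y t * y2 D y s = y2 D y s * y t * D.φ₁ (ux (β t s))

theorem exists_Co [Finite G] [Finite F] [Fact p.Prime] [CharP F p] (h2 : (2 : F) ≠ 0) (hp : Odd p) (H : Hyp D)
    (k : KData D K) (L : Line p D Y) : ∃ y f β, Co D Y y f β := by
  classical
  have hE : ∀ (y : Y) (t : F), ∃ (c : F) (e : Y),
      D.φ₂ (ux t) * (D.φ₂ nx * y * (D.φ₂ nx)⁻¹) * (D.φ₂ (ux t))⁻¹ =
        (D.φ₂ nx * y * (D.φ₂ nx)⁻¹) * e * D.φ₁ (ux c) := by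
    intro y t
    obtain ⟨s, e, he, h⟩ := exists_E h2 hp H k L y.2 t
    exact ⟨s, ⟨e, he⟩, h⟩
  choose c E hE using hE
  have hK : ∀ {y : G}, y ∈ Y → y ∈ K := fun hy => LineF.mem_K L k hp hy
  have hnK : ∀ {y : G}, y ∈ Y → D.φ₂ nx * y * (D.φ₂ nx)⁻¹ ∈ K := fun hy => k.nrm _ (φ₂_mem _) _ (hK hy)
  -- additivity in `t`
  have hadd : ∀ (y : Y) (s t : F), E y (s + t) = E y s * E y t := by
    intro y s t
    have h1 : D.φ₂ (ux (s + t)) * (D.φ₂ nx * y * (D.φ₂ nx)⁻¹) * (D.φ₂ (ux (s + t)))⁻¹ =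
        (D.φ₂ nx * y * (D.φ₂ nx)⁻¹) * (E y s * E y t : Y) * D.φ₁ (ux (c y s + c y t)) := by
      have h3 : D.φ₂ (ux s) * (E y t : G) * (D.φ₂ (ux s))⁻¹ = E y t := by
        rw [← L.x _ (E y t).2, mul_inv_cancel_right]
      have h4 : D.φ₂ (ux s) * D.φ₁ (ux (c y t)) * (D.φ₂ (ux s))⁻¹ = D.φ₁ (ux (c y t)) := by
        rw [← D.comm, mul_inv_cancel_right]
      have h5 : D.φ₁ (ux (c y s)) * (E y t : G) = E y t * D.φ₁ (ux (c y s)) := LineF.x₁ L (E y t).2 _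
      calc D.φ₂ (ux (s + t)) * (D.φ₂ nx * y * (D.φ₂ nx)⁻¹) * (D.φ₂ (ux (s + t)))⁻¹
          = D.φ₂ (ux s) * (D.φ₂ (ux t) * (D.φ₂ nx * y * (D.φ₂ nx)⁻¹) * (D.φ₂ (ux t))⁻¹) * (D.φ₂ (ux s))⁻¹ := by
            rw [ux_add, map_mul]; group
        _ = (D.φ₂ (ux s) * (D.φ₂ nx * y * (D.φ₂ nx)⁻¹) * (D.φ₂ (ux s))⁻¹) * (D.φ₂ (ux s) * (E y t : G) * (D.φ₂ (ux s))⁻¹) *
            (D.φ₂ (ux s) * D.φ₁ (ux (c y t)) * (D.φ₂ (ux s))⁻¹) := by rw [hE y t]; group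
        _ = (D.φ₂ nx * y * (D.φ₂ nx)⁻¹) * E y s * (D.φ₁ (ux (c y s)) * E y t) * D.φ₁ (ux (c y t)) := by
            rw [hE y s, h3, h4]; simp only [mul_assoc]
        _ = _ := by rw [h5, ux_add, map_mul, Subgroup.coe_mul]; simp only [mul_assoc]
    rw [hE y (s + t)] at h1
    exact Subtype.ext (uniq h2 hp k L y.2 y.2 (E y (s + t)).2 (E y s * E y t).2 h1).2.1
  -- torus
  have hτ : ∀ (y : Y) (u : Fˣ), D.φ₂ (hx u) * y * (D.φ₂ (hx u))⁻¹ = E y⁻¹ u := by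
    intro y u
    have hN : (D.φ₂ nx)⁻¹ * (y : G) * D.φ₂ nx = D.φ₂ nx * (y⁻¹ : Y) * (D.φ₂ nx)⁻¹ := by
      have h3 : D.φ₂ nx = D.z * (D.φ₂ nx)⁻¹ := by rw [← nn]; group
      have h4 : (D.φ₂ nx)⁻¹ = D.φ₂ nx * D.z := by
        rw [inv_eq_iff_mul_eq_one, ← mul_assoc, nn, zz]
      have h5 := L.inv y y.2
      calc (D.φ₂ nx)⁻¹ * (y : G) * D.φ₂ nx = (D.φ₂ nx * D.z) * y * (D.z * (D.φ₂ nx)⁻¹) := by
            rw [← h4, ← h3]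
        _ = D.φ₂ nx * (D.z * y * D.z) * (D.φ₂ nx)⁻¹ := by simp only [mul_assoc]
        _ = _ := by rw [h5, Subgroup.coe_inv]
    have hNN : ∀ y : Y, D.φ₂ nx * (D.φ₂ nx * (y⁻¹ : Y) * (D.φ₂ nx)⁻¹) * (D.φ₂ nx)⁻¹ = y := by
      intro y
      have h5 := L.inv _ (y⁻¹).2
      calc D.φ₂ nx * (D.φ₂ nx * (y⁻¹ : Y) * (D.φ₂ nx)⁻¹) * (D.φ₂ nx)⁻¹
          = (D.φ₂ nx * D.φ₂ nx) * (y⁻¹ : Y) * (D.φ₂ nx * D.φ₂ nx)⁻¹ := by group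
        _ = D.z * (y⁻¹ : Y) * D.z := by rw [nn, z_inv]
        _ = y := by rw [h5, Subgroup.coe_inv, inv_inv]
    set t : Fˣ := u⁻¹ with ht
    -- conjugation of `y` by `lx (-t⁻¹)`
    have hl : D.φ₂ (lx (-(t : F)⁻¹)) * y * (D.φ₂ (lx (-(t : F)⁻¹)))⁻¹ =
        y * (D.φ₂ nx * E y⁻¹ u * (D.φ₂ nx)⁻¹) * D.φ₁ (ux (c y⁻¹ u)) := by
      have h3 : (t : F)⁻¹ = u := by rw [ht, Units.val_inv_eq_inv_val, inv_inv]
      have h4 : lx (-(t : F)⁻¹) = nx * ux (u : F) * nx⁻¹ := by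
        rw [eq_mul_inv_iff_mul_eq, nx_mul_ux, h3]
      rw [h4, map_mul, map_mul, map_inv]
      calc D.φ₂ nx * D.φ₂ (ux (u : F)) * (D.φ₂ nx)⁻¹ * y * (D.φ₂ nx * D.φ₂ (ux (u : F)) * (D.φ₂ nx)⁻¹)⁻¹
          = D.φ₂ nx * (D.φ₂ (ux (u : F)) * ((D.φ₂ nx)⁻¹ * y * D.φ₂ nx) * (D.φ₂ (ux (u : F)))⁻¹) * (D.φ₂ nx)⁻¹ := by group
        _ = D.φ₂ nx * ((D.φ₂ nx * (y⁻¹ : Y) * (D.φ₂ nx)⁻¹) * E y⁻¹ u * D.φ₁ (ux (c y⁻¹ u))) * (D.φ₂ nx)⁻¹ := by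
            rw [hN, hE y⁻¹ u]
        _ = (D.φ₂ nx * (D.φ₂ nx * (y⁻¹ : Y) * (D.φ₂ nx)⁻¹) * (D.φ₂ nx)⁻¹) * (D.φ₂ nx * E y⁻¹ u * (D.φ₂ nx)⁻¹) *
            (D.φ₂ nx * D.φ₁ (ux (c y⁻¹ u)) * (D.φ₂ nx)⁻¹) := by group
        _ = _ := by rw [hNN, ← D.comm, mul_inv_cancel_right]
    -- conjugation of `y` by `hx t * nx`
    have h1 : D.φ₂ (hx t * nx) * y * (D.φ₂ (hx t * nx))⁻¹ =
        D.φ₂ (ux (t : F)) * (D.φ₂ (lx (-(t : F)⁻¹)) * y * (D.φ₂ (lx (-(t : F)⁻¹)))⁻¹) * (D.φ₂ (ux (t : F)))⁻¹ := by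
      rw [← ux_lx_ux, map_mul, map_mul]
      calc D.φ₂ (ux (t : F)) * D.φ₂ (lx (-(t : F)⁻¹)) * D.φ₂ (ux (t : F)) * y *
            (D.φ₂ (ux (t : F)) * D.φ₂ (lx (-(t : F)⁻¹)) * D.φ₂ (ux (t : F)))⁻¹
          = D.φ₂ (ux (t : F)) * (D.φ₂ (lx (-(t : F)⁻¹)) * (D.φ₂ (ux (t : F)) * y * (D.φ₂ (ux (t : F)))⁻¹) *
            (D.φ₂ (lx (-(t : F)⁻¹)))⁻¹) * (D.φ₂ (ux (t : F)))⁻¹ := by group
        _ = _ := by rw [← L.x y y.2, mul_inv_cancel_right]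
    rw [hl] at h1
    obtain ⟨β, hβ⟩ := k.class_two h2 p hp H (hnK (E y⁻¹ u).2) (hK y.2)
    -- `y * E' = E' * y * X β`
    set e := E y⁻¹ u with he
    have h3 : D.φ₂ (ux (t : F)) * (y * (D.φ₂ nx * e * (D.φ₂ nx)⁻¹) * D.φ₁ (ux (c y⁻¹ u))) * (D.φ₂ (ux (t : F)))⁻¹ =
        (D.φ₂ nx * e * (D.φ₂ nx)⁻¹) * (y * E e t : Y) * D.φ₁ (ux (β + c e t + c y⁻¹ u)) := by
      have h5 : D.φ₁ (ux β) * (E e t : G) = E e t * D.φ₁ (ux β) := LineF.x₁ L (E e t).2 _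
      calc D.φ₂ (ux (t : F)) * (y * (D.φ₂ nx * e * (D.φ₂ nx)⁻¹) * D.φ₁ (ux (c y⁻¹ u))) * (D.φ₂ (ux (t : F)))⁻¹
          = (D.φ₂ (ux (t : F)) * y * (D.φ₂ (ux (t : F)))⁻¹) *
            (D.φ₂ (ux (t : F)) * (D.φ₂ nx * e * (D.φ₂ nx)⁻¹) * (D.φ₂ (ux (t : F)))⁻¹) *
            (D.φ₂ (ux (t : F)) * D.φ₁ (ux (c y⁻¹ u)) * (D.φ₂ (ux (t : F)))⁻¹) := by group
        _ = y * ((D.φ₂ nx * e * (D.φ₂ nx)⁻¹) * E e t * D.φ₁ (ux (c e t))) * D.φ₁ (ux (c y⁻¹ u)) := by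
            rw [← L.x y y.2, mul_inv_cancel_right, hE e t, ← D.comm, mul_inv_cancel_right]
        _ = (y * (D.φ₂ nx * e * (D.φ₂ nx)⁻¹)) * E e t * D.φ₁ (ux (c e t)) * D.φ₁ (ux (c y⁻¹ u)) := by
            simp only [mul_assoc]
        _ = (D.φ₂ nx * e * (D.φ₂ nx)⁻¹) * y * (D.φ₁ (ux β) * E e t) * D.φ₁ (ux (c e t)) * D.φ₁ (ux (c y⁻¹ u)) := by
            rw [hβ]; simp only [mul_assoc]
        _ = _ := by rw [h5, ux_add, ux_add, map_mul, map_mul, Subgroup.coe_mul]; simp only [mul_assoc]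
    rw [h3] at h1
    have h4 : D.φ₂ (hx t * nx) * y * (D.φ₂ (hx t * nx))⁻¹ =
        D.φ₂ nx * (D.φ₂ (hx u) * y * (D.φ₂ (hx u))⁻¹) * (D.φ₂ nx)⁻¹ * 1 * D.φ₁ (ux 0) := by
      rw [hx_mul_nx, ht, inv_inv, map_mul, ux_zero, map_one]; group
    rw [h4] at h1
    exact (uniq h2 hp k L (L.h u y y.2) e.2 (one_mem Y) (y * E e t).2 h1).1
  -- choose `e ≠ 1`
  have hcard : 1 < Nat.card Y := by
    rw [L.card]
    exact Finite.one_lt_card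
  have : Nontrivial Y := Finite.one_lt_card_iff_nontrivial.1 hcard
  obtain ⟨e, he⟩ := exists_ne (1 : Y)
  have hz0 : E e⁻¹ 0 = 1 := by
    have := hadd e⁻¹ 0 0
    rw [add_zero] at this
    exact left_eq_mul.1 this
  have hne : ∀ t, t ≠ 0 → E e⁻¹ t ≠ 1 := by
    intro t ht h1
    have h3 := hτ e (Units.mk0 t ht)
    rw [Units.val_mk0, h1, Subgroup.coe_one, mul_inv_eq_one, mul_eq_left] at h3
    exact he (Subtype.ext h3)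
  have hinj : Function.Injective (fun t => E e⁻¹ t) := by
    intro s t hst
    by_contra hne'
    have h3 : s - t ≠ 0 := sub_ne_zero.2 hne'
    apply hne _ h3
    have h4 := hadd e⁻¹ (s - t) t
    rw [sub_add_cancel] at h4
    change E e⁻¹ s = E e⁻¹ t at hst
    rw [hst] at h4
    exact right_eq_mul.1 h4
  have hbij := hinj.bijective_of_nat_card_le (by rw [L.card])
  have hneg : ∀ (y : Y) (t : F), E y (-t) = (E y t)⁻¹ := by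
    intro y t
    have h3 := hadd y (-t) t
    have h0 : E y 0 = 1 := by
      have := hadd y 0 0
      rw [add_zero] at this
      exact left_eq_mul.1 this
    rw [neg_add_cancel, h0] at h3
    exact eq_inv_of_mul_eq_one_left h3.symm
  have hh : ∀ (b : Fˣ) (t : F), D.φ₂ (hx b) * E e⁻¹ t * (D.φ₂ (hx b))⁻¹ = (E e⁻¹ (b * t) : G) := by
    intro b t
    rcases eq_or_ne t 0 with rfl | ht
    · rw [mul_zero, hz0, Subgroup.coe_one, mul_one, mul_inv_cancel]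
    · have h3 := hτ e (Units.mk0 t ht)
      have h4 := hτ e (b * Units.mk0 t ht)
      rw [Units.val_mk0] at h3
      rw [Units.val_mul, Units.val_mk0] at h4
      rw [← h3, ← h4, hx_mul, map_mul]; group
  -- `E (y₀ s) t = y₀ (- t s)`
  have hEE : ∀ s t, E (E e⁻¹ s) t = E e⁻¹ (-(t * s)) := by
    intro s t
    rcases eq_or_ne t 0 with rfl | ht
    · rw [zero_mul, neg_zero, hz0]
      have := hadd (E e⁻¹ s) 0 0
      rw [add_zero] at this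
      exact left_eq_mul.1 this
    · apply Subtype.ext
      have h3 := hτ (E e⁻¹ s)⁻¹ (Units.mk0 t ht)
      rw [inv_inv, Units.val_mk0] at h3
      have h5 := hh (Units.mk0 t ht) s
      rw [Units.val_mk0] at h5
      rw [← h3, hneg, Subgroup.coe_inv, Subgroup.coe_inv, ← h5]
      group
  have hβ : ∀ s t : F, ∃ b, (E e⁻¹ t : G) * (D.φ₂ nx * E e⁻¹ s * (D.φ₂ nx)⁻¹) =
      (D.φ₂ nx * E e⁻¹ s * (D.φ₂ nx)⁻¹) * E e⁻¹ t * D.φ₁ (ux b) := by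
    intro s t
    obtain ⟨b, hb⟩ := k.class_two h2 p hp H (hnK (E e⁻¹ s).2) (hK (E e⁻¹ t).2)
    exact ⟨b, hb⟩
  choose β hβ using hβ
  refine ⟨fun t => (E e⁻¹ t : G), fun s t => c (E e⁻¹ s) t, fun t s => β s t, ?_, ?_, ?_, ?_, hh, ?_, ?_⟩
  · intro t; exact (E e⁻¹ t).2
  · intro s t
    change (E e⁻¹ (s + t) : G) = _
    rw [hadd, Subgroup.coe_mul]
  · intro g hg
    obtain ⟨t, ht⟩ := hbij.2 ⟨g, hg⟩
    exact ⟨t, congrArg Subtype.val ht⟩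
  · intro s t hst
    exact hinj (Subtype.ext hst)
  · intro s t
    have h3 := hE (E e⁻¹ s) t
    rw [hEE] at h3
    exact h3
  · intro s t
    exact hβ s t

end Cfsg.Agent.SpFourOdd.Pt
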