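import Cfsg.Agent.SpFourOdd.PtBasic
import Cfsg.Agent.SpFourOdd.Field
import Cfsg.Agent.Lib.Cores
import Cfsg.Agent.S0215
import Cfsg.Agent.S1180

/-!
# The point part, II: the normal subgroup `K` of odd order of `H₁ = C(X₁)`
-/

set_option autoImplicit false

namespace Cfsg.Agent.SpFourOdd.Pt

open Matrix

/-- Z*-theorem for an isolated involution -/
theorem zstar {X : Type*} [Group X] [Finite X] (v : X) (hv : Cfsg.IsIsolatedInvolution v) :
    ∃ N : Subgroup X, N.Normal ∧ Odd (Nat.card N) ∧ ∀ x : X, v * x * v⁻¹ * x⁻¹ ∈ N := by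
  classical
  have hf : Fact (Nat.Prime 2) := ⟨Nat.prime_two⟩
  have hzp : IsPGroup 2 (Subgroup.zpowers v) := by
    apply IsPGroup.of_card (n := 1)
    rw [Nat.card_zpowers, hv.1, pow_one]
  obtain ⟨P, hP⟩ := hzp.exists_le_sylow
  have hzP : v ∈ P := hP (Subgroup.mem_zpowers v)
  exact Cfsg.Agent.S0215.result P v hv.1 hzP
    (fun g hg => Cfsg.Agent.S1180.eq_of_conj_mem_isPGroup v hv P P.isPGroup' hzP g hg)

section Class2

variable {K : Type*} [Group K]

/-- class two power formula -/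
theorem mul_pow_class_two {a b c : K} (h : b * a = a * b * c) (ha : a * c = c * a) (hb : b * c = c * b) (n : ℕ) :
    (a * b) ^ n = a ^ n * b ^ n * c ^ (n.choose 2) := by
  have h1 : ∀ n : ℕ, b ^ n * a = a * b ^ n * c ^ n := by
    intro n
    induction n with
    | zero => simp
    | succ n ih =>
      calc b ^ (n + 1) * a = b ^ n * (b * a) := by rw [pow_succ, mul_assoc]
        _ = (b ^ n * a) * b * c := by rw [h]; simp only [mul_assoc]
        _ = a * b ^ n * c ^ n * b * c := by rw [ih]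
        _ = a * b ^ n * (c ^ n * b) * c := by simp only [mul_assoc]
        _ = a * b ^ n * (b * c ^ n) * c := by
          rw [(Commute.pow_left (hb.symm : Commute c b) n).eq]
        _ = a * b ^ (n + 1) * c ^ (n + 1) := by rw [pow_succ, pow_succ]; simp only [mul_assoc]
  induction n with
  | zero => simp
  | succ n ih =>
    have hcb : Commute (c ^ (n.choose 2)) (a * b) :=
      ((Commute.mul_right (ha.symm : Commute c a) (hb.symm : Commute c b)).pow_left _)
    have hcn : Commute (c ^ n) b := (Commute.pow_left (hb.symm : Commute c b) _)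
    calc (a * b) ^ (n + 1) = a ^ n * b ^ n * (c ^ (n.choose 2) * (a * b)) := by
          rw [pow_succ, ih]; simp only [mul_assoc]
      _ = a ^ n * (b ^ n * a) * b * c ^ (n.choose 2) := by rw [hcb.eq]; simp only [mul_assoc]
      _ = a ^ n * a * b ^ n * (c ^ n * b) * c ^ (n.choose 2) := by rw [h1 n]; simp only [mul_assoc]
      _ = a ^ n * a * b ^ n * (b * c ^ n) * c ^ (n.choose 2) := by rw [hcn.eq]
      _ = a ^ (n + 1) * b ^ (n + 1) * (c ^ n * c ^ (n.choose 2)) := by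
          rw [pow_succ, pow_succ]; simp only [mul_assoc]
      _ = a ^ (n + 1) * b ^ (n + 1) * c ^ ((n + 1).choose 2) := by
          rw [← pow_add, Nat.choose_succ_succ' n 1, Nat.choose_one_right]

end Class2

variable {G F : Type*} [Group G] [Field F] {D : Pair G F}

/-! ### `Pair` -/

theorem w_inv (D : Pair G F) : D.w⁻¹ = D.w := inv_eq_of_mul_eq_one_right D.ww

theorem conj₂ (D : Pair G F) (a : SL2 F) : D.w * D.φ₂ a * D.w = D.φ₁ a := by
  rw [← D.conj a]
  calc D.w * (D.w * D.φ₁ a * D.w) * D.w = (D.w * D.w) * D.φ₁ a * (D.w * D.w) := by simp only [mul_assoc]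
    _ = D.φ₁ a := by rw [D.ww, one_mul, mul_one]

theorem φ₁_inj (D : Pair G F) (h2 : (2 : F) ≠ 0) : Function.Injective D.φ₁ := by
  rw [injective_iff_map_eq_one]
  intro a ha
  have h := D.ker a 1 (by rw [ha, map_one, one_mul])
  rcases h with h | h
  · exact h.1
  · exact absurd h.2.symm (neg_one_ne_one h2)

theorem φ₂_inj (D : Pair G F) (h2 : (2 : F) ≠ 0) : Function.Injective D.φ₂ := by
  rw [injective_iff_map_eq_one]
  intro a ha
  have h := D.ker 1 a (by rw [ha, map_one, one_mul])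
  rcases h with h | h
  · exact h.2
  · exact absurd h.1.symm (neg_one_ne_one h2)

theorem z_ne_one (D : Pair G F) (h2 : (2 : F) ≠ 0) : D.z ≠ 1 := by
  rw [← D.z₁]
  intro h
  exact neg_one_ne_one h2 (φ₁_inj D h2 (h.trans (map_one _).symm))

theorem zz (D : Pair G F) : D.z * D.z = 1 := by
  rw [← D.z₁, ← map_mul]
  simp

theorem z_inv (D : Pair G F) : D.z⁻¹ = D.z := inv_eq_of_mul_eq_one_right (zz D)

theorem z_comm₁ (D : Pair G F) (a : SL2 F) : D.z * D.φ₁ a = D.φ₁ a * D.z := by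
  rw [← D.z₂, D.comm]

theorem z_comm₂ (D : Pair G F) (a : SL2 F) : D.z * D.φ₂ a = D.φ₂ a * D.z := by
  rw [← D.z₁, D.comm]

theorem orderOf_z (D : Pair G F) (h2 : (2 : F) ≠ 0) : orderOf D.z = 2 :=
  orderOf_eq_prime (by rw [pow_two, zz]) (z_ne_one D h2)

/-- `w` conjugates: `w φ₁ a = φ₂ a w` -/
theorem w_mul₁ (D : Pair G F) (a : SL2 F) : D.w * D.φ₁ a = D.φ₂ a * D.w := by
  rw [← D.conj a, mul_assoc _ D.w D.w, D.ww, mul_one]

theorem w_mul₂ (D : Pair G F) (a : SL2 F) : D.w * D.φ₂ a = D.φ₁ a * D.w := by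
  rw [← conj₂ D a, mul_assoc _ D.w D.w, D.ww, mul_one]

/-! ### the centralizer of `X₁` -/

/-- `H₁ = C(X₁)` -/
def H1 (D : Pair G F) : Subgroup G := Subgroup.centralizer (Set.range fun t => D.φ₁ (ux t))

theorem mem_H1 {g : G} : g ∈ H1 D ↔ ∀ t, D.φ₁ (ux t) * g = g * D.φ₁ (ux t) := by
  rw [H1, Subgroup.mem_centralizer_iff]
  constructor
  · intro h t; exact h _ ⟨t, rfl⟩
  · rintro h _ ⟨t, rfl⟩; exact h t

theorem φ₂_mem (a : SL2 F) : D.φ₂ a ∈ H1 D := mem_H1.2 fun t => D.comm _ _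

theorem x1_mem (t : F) : D.φ₁ (ux t) ∈ H1 D :=
  mem_H1.2 fun s => by rw [← map_mul, ← map_mul, ← ux_add, ← ux_add, add_comm]

theorem z_mem : D.z ∈ H1 D := by rw [← D.z₂]; exact φ₂_mem _

/-- `C_{H₁}(z) = X₁ × L₂` -/
theorem of_comm_z (h2 : (2 : F) ≠ 0) (H : Hyp D) {g : G} (hg : g ∈ H1 D) (hz : g * D.z = D.z * g) :
    ∃ s b, g = D.φ₁ (ux s) * D.φ₂ b := by
  exact Closing.cent_X₁ H.cent H.cent0 hz (fun t => (mem_H1.1 hg t).symm)

theorem isolated (h2 : (2 : F) ≠ 0) (H : Hyp D) :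
    Cfsg.IsIsolatedInvolution (⟨D.z, z_mem⟩ : H1 D) := by
  refine ⟨?_, ?_⟩
  · rw [← orderOf_z D h2]
    exact Subgroup.orderOf_mk _ _
  · intro g hg
    have h1 : (g * ⟨D.z, z_mem⟩ * g⁻¹ : H1 D) * (g * ⟨D.z, z_mem⟩ * g⁻¹) = 1 := by
      have : (⟨D.z, z_mem⟩ : H1 D) * ⟨D.z, z_mem⟩ = 1 := by
        apply Subtype.ext; exact zz D
      calc (g * ⟨D.z, z_mem⟩ * g⁻¹ : H1 D) * (g * ⟨D.z, z_mem⟩ * g⁻¹)
          = g * ((⟨D.z, z_mem⟩ : H1 D) * ⟨D.z, z_mem⟩) * g⁻¹ := by group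
        _ = 1 := by rw [this]; group
    set x : H1 D := g * ⟨D.z, z_mem⟩ * g⁻¹ with hx
    obtain ⟨s, b, hsb⟩ := of_comm_z h2 H x.2 (congrArg Subtype.val hg.eq).symm
    have h3 : (x : G) * (x : G) = 1 := congrArg Subtype.val h1
    rw [hsb] at h3
    have h4 : D.φ₁ (ux s * ux s) * D.φ₂ (b * b) = 1 := by
      calc D.φ₁ (ux s * ux s) * D.φ₂ (b * b) = D.φ₁ (ux s) * (D.φ₁ (ux s) * D.φ₂ b) * D.φ₂ b := by
            rw [map_mul, map_mul]; simp only [mul_assoc]
        _ = D.φ₁ (ux s) * (D.φ₂ b * D.φ₁ (ux s)) * D.φ₂ b := by rw [D.comm (ux s) b]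
        _ = 1 := by rw [← h3]; simp only [mul_assoc]
    have h5 : ux s = 1 ∧ b * b = 1 := by
      rcases D.ker _ _ h4 with h6 | h6
      · refine ⟨?_, h6.2⟩
        rw [← ux_add, ← ux_zero] at h6
        have := ux_injective h6.1
        have h7 : s = 0 := by
          have : (2 : F) * s = 0 := by linear_combination this
          exact (mul_eq_zero.1 this).resolve_left h2
        rw [h7, ux_zero]
      · exfalso
        rw [← ux_add] at h6
        exact not_neg_ux h2 _ h6.1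
    rw [h5.1, map_one, one_mul] at hsb
    rcases eq_of_sq h2 h5.2 with rfl | rfl
    · exfalso
      rw [map_one] at hsb
      have h7 : x = 1 := Subtype.ext hsb
      rw [hx, mul_inv_eq_one, mul_eq_left] at h7
      exact z_ne_one D h2 (congrArg Subtype.val h7)
    · rw [D.z₂] at hsb
      exact Subtype.ext hsb

/-- The normal subgroup `K` of odd order of `H₁`. -/
structure KData (D : Pair G F) (K : Subgroup G) : Prop where
  odd : Odd (Nat.card K)
  le : K ≤ H1 D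
  nrm : ∀ h ∈ H1 D, ∀ k ∈ K, h * k * h⁻¹ ∈ K
  z : ∀ h ∈ H1 D, D.z * h * D.z⁻¹ * h⁻¹ ∈ K
  x : ∀ t, D.φ₁ (ux t) ∈ K

theorem orderOf_x1_odd (p : ℕ) [CharP F p] (hp : Odd p) (t : F) : Odd (orderOf (D.φ₁ (ux t))) := by
  have h : (D.φ₁ (ux t)) ^ p = 1 := by
    rw [← map_pow, ux_pow, CharP.cast_eq_zero, zero_mul, ux_zero, map_one]
  exact hp.of_dvd_nat (orderOf_dvd_of_pow_eq_one h)

theorem exists_K [Finite G] [Finite F] (h2 : (2 : F) ≠ 0) (p : ℕ) [CharP F p] (hp : Odd p) (H : Hyp D) :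
    ∃ K : Subgroup G, KData D K := by
  obtain ⟨N, hN, hodd, hz⟩ := zstar _ (isolated h2 H)
  have hle : N ≤ Cfsg.oddCore (H1 D) := Cfsg.Agent.Lib.Cores.le_pPrimeCore hN hodd.coprime_two_right
  have hco : Odd (Nat.card (Cfsg.oddCore (H1 D))) :=
    Nat.coprime_two_right.mp (Cfsg.Agent.Lib.Cores.pPrimeCore_coprime 2)
  -- `X₁` as a subgroup of `H₁`
  let f : Multiplicative F →* H1 D :=
    { toFun := fun t => ⟨D.φ₁ (ux t.toAdd), x1_mem _⟩
      map_one' := by apply Subtype.ext; simp [ux_zero]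
      map_mul' := fun s t => by apply Subtype.ext; simp [ux_add] }
  have hfN : f.range.Normal := by
    refine ⟨?_⟩
    rintro _ ⟨t, rfl⟩ g
    refine ⟨t, ?_⟩
    apply Subtype.ext
    have := mem_H1.1 g.2 t.toAdd
    simp only [f, MonoidHom.coe_mk, OneHom.coe_mk, Subgroup.coe_mul, Subgroup.coe_inv]
    rw [← this]; group
  have hfodd : Odd (Nat.card f.range) := by
    have h1 : Nat.card f.range ∣ Nat.card (Multiplicative F) := Subgroup.card_range_dvd f
    have h3 : Odd (Nat.card F) := by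
      by_contra hn
      rw [Nat.not_odd_iff_even] at hn
      have := Fintype.ofFinite F
      rw [Nat.card_eq_fintype_card] at hn
      have h4 := (FiniteField.even_card_iff_char_two).2 (Nat.even_iff.1 hn)
      have h5 := ringChar.eq F p
      rw [h4] at h5
      subst h5
      exact absurd hp (by decide)
    exact h3.of_dvd_nat h1
  have hx := Cfsg.Agent.Lib.Cores.le_pPrimeCore (p := 2) hfN hfodd.coprime_two_right
  have hnorm : (Cfsg.oddCore (H1 D)).Normal := inferInstance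
  refine ⟨(Cfsg.oddCore (H1 D)).map (H1 D).subtype, ?_, ?_, ?_, ?_, ?_⟩
  · rwa [Subgroup.card_map_of_injective (Subgroup.subtype_injective _)]
  · exact Subgroup.map_subtype_le _
  · rintro h hh _ ⟨k, hk, rfl⟩
    exact ⟨⟨h, hh⟩ * k * ⟨h, hh⟩⁻¹, hnorm.conj_mem k hk _, rfl⟩
  · intro h hh
    exact ⟨_, hle (hz ⟨h, hh⟩), rfl⟩
  · intro t
    exact ⟨f (Multiplicative.ofAdd t), hx ⟨_, rfl⟩, rfl⟩

namespace KData

variable {K : Subgroup G} (k : KData D K)

include k

theorem odd_order {g : G} (hg : g ∈ K) : Odd (orderOf g) :=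
  k.odd.of_dvd_nat (Subgroup.orderOf_dvd_natCard K hg)

/-- `K ∩ L₂ = 1` -/
theorem φ₂_mem_K [Finite F] (h2 : (2 : F) ≠ 0) (p : ℕ) [CharP F p] (hp : Odd p) {b : SL2 F}
    (hb : D.φ₂ b ∈ K) : b = 1 := by
  let N : Subgroup (SL2 F) := K.comap D.φ₂
  have hN : N.Normal := ⟨fun a ha c => by
    rw [Subgroup.mem_comap] at ha ⊢
    rw [map_mul, map_mul, map_inv]
    exact k.nrm _ (φ₂_mem c) _ ha⟩
  refine eq_one_of_odd p hp h2 N (fun a ha => ?_) b hb
  have h3 := k.odd_order (Subgroup.mem_comap.1 ha)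
  rwa [orderOf_injective D.φ₂ (φ₂_inj D h2)] at h3

/-- `C_K(z) = X₁` -/
theorem cent_z [Finite F] (h2 : (2 : F) ≠ 0) (p : ℕ) [CharP F p] (hp : Odd p) (H : Hyp D)
    {g : G} (hg : g ∈ K) (hz : g * D.z = D.z * g) : ∃ s, g = D.φ₁ (ux s) := by
  obtain ⟨s, b, hsb⟩ := of_comm_z h2 H (k.le hg) hz
  have hb : b = 1 := by
    refine k.φ₂_mem_K h2 p hp ?_
    have h4 : D.φ₂ b = (D.φ₁ (ux s))⁻¹ * g := by rw [hsb]; group
    rw [h4]
    exact mul_mem (inv_mem (k.x s)) hg
  exact ⟨s, by rw [hsb, hb, map_one, mul_one]⟩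

end KData

end Cfsg.Agent.SpFourOdd.Pt
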