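import Cfsg.Agent.SpFourOdd.PtC

/-!
# The point part, VII: the structure constant is a square
-/

set_option autoImplicit false

namespace Cfsg.Agent.SpFourOdd.Pt

open Matrix

section General

variable {X : Type*} [Group X] [Finite X]

/-- two distinct commuting involutions -/
theorem four_dvd (C : Subgroup X) {a b : X} (ha : a ∈ C) (hb : b ∈ C) (ha1 : a ≠ 1) (hb1 : b ≠ 1)
    (hab : a ≠ b) (haa : a * a = 1) (hbb : b * b = 1) (hc : b * a = a * b) : 4 ∣ Nat.card C := by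
  classical
  have haa' : ∀ x, a * (a * x) = x := fun x => by rw [← mul_assoc, haa, one_mul]
  have hc' : ∀ x, b * (a * x) = a * (b * x) := fun x => by rw [← mul_assoc, hc, mul_assoc]
  have hai : a⁻¹ = a := inv_eq_of_mul_eq_one_right haa
  have hbi : b⁻¹ = b := inv_eq_of_mul_eq_one_right hbb
  let V : Subgroup X :=
    { carrier := {1, a, b, a * b}
      one_mem' := by simp
      mul_mem' := by
        rintro x y hx hy
        simp only [Set.mem_insert_iff, Set.mem_singleton_iff] at hx hy ⊢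
        rcases hx with rfl | rfl | rfl | rfl <;> rcases hy with rfl | rfl | rfl | rfl <;>
          simp [haa, hbb, haa', hc, hc', mul_assoc]
      inv_mem' := by
        rintro x hx
        simp only [Set.mem_insert_iff, Set.mem_singleton_iff] at hx ⊢
        rcases hx with rfl | rfl | rfl | rfl <;> simp [hai, hbi, hc] }
  have hV : Nat.card V = 4 := by
    have h1 : Nat.card V = Set.ncard ({1, a, b, a * b} : Set X) := rfl
    rw [h1]
    have h3 : a * b ≠ 1 := fun h => hab (by rw [← hai]; exact inv_eq_of_mul_eq_one_right h)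
    rw [Set.ncard_insert_of_notMem, Set.ncard_insert_of_notMem, Set.ncard_pair]
    · intro h; exact ha1 (right_eq_mul.1 h)
    · simp only [Set.mem_insert_iff, Set.mem_singleton_iff, not_or]
      exact ⟨hab, fun h => hb1 (left_eq_mul.1 h)⟩
    · simp only [Set.mem_insert_iff, Set.mem_singleton_iff, not_or]
      exact ⟨fun h => ha1 h.symm, fun h => hb1 h.symm, fun h => h3 h.symm⟩
  have hle : V ≤ C := by
    intro x hx
    change x ∈ ({1, a, b, a * b} : Set X) at hx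
    simp only [Set.mem_insert_iff, Set.mem_singleton_iff] at hx
    rcases hx with rfl | rfl | rfl | rfl
    · exact one_mem _
    · exact ha
    · exact hb
    · exact mul_mem ha hb
  rw [← hV]
  exact Subgroup.card_dvd_of_le hle

theorem exists_two_element {z : X} (hz1 : z ≠ 1) (hzz : z * z = 1) (h4 : 4 ∣ Nat.card X) :
    ∃ g : X, g ≠ 1 ∧ g ≠ z ∧ g * z = z * g ∧ ∃ n, g ^ (2 ^ n) = 1 := by
  classical
  have hf : Fact (Nat.Prime 2) := ⟨Nat.prime_two⟩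
  have hord : orderOf z = 2 := orderOf_eq_prime (by rw [pow_two, hzz]) hz1
  have hzp : IsPGroup 2 (Subgroup.zpowers z) := by
    apply IsPGroup.of_card (n := 1)
    rw [Nat.card_zpowers, hord, pow_one]
  obtain ⟨T, hT⟩ := hzp.exists_le_sylow
  have hzT : z ∈ T := hT (Subgroup.mem_zpowers z)
  have h5 : 4 ∣ Nat.card T := T.pow_dvd_card_of_pow_dvd_card (n := 2) h4
  have h6 : 4 ≤ Nat.card T := Nat.le_of_dvd Nat.card_pos h5
  have hpow : ∀ g : T, ∃ n, (g : X) ^ (2 ^ n) = 1 := by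
    intro g
    obtain ⟨n, hn⟩ := T.isPGroup' g
    exact ⟨n, congrArg Subtype.val hn⟩
  have : Nontrivial T := Finite.one_lt_card_iff_nontrivial.1 (by omega)
  have hnt : Nontrivial (Subgroup.center T) := T.isPGroup'.center_nontrivial
  by_cases hg : ∃ g ∈ Subgroup.center T, (g : X) ≠ 1 ∧ (g : X) ≠ z
  · obtain ⟨g, hgc, h1, h3⟩ := hg
    refine ⟨g, h1, h3, ?_, hpow g⟩
    exact (congrArg Subtype.val (Subgroup.mem_center_iff.1 hgc ⟨z, hzT⟩)).symm
  · push Not at hg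
    obtain ⟨⟨c, hcc⟩, hc1⟩ := exists_ne (1 : Subgroup.center T)
    have hc : (c : X) = z := hg c hcc (fun h => hc1 (Subtype.ext (Subtype.ext h)))
    have hcomm : ∀ g : T, (g : X) * z = z * g := by
      intro g
      rw [← hc]
      exact congrArg Subtype.val (Subgroup.mem_center_iff.1 hcc g)
    have h7 : ∃ g : T, g ≠ 1 ∧ g ≠ ⟨z, hzT⟩ := by
      by_contra hne
      push Not at hne
      have h8 : (Set.univ : Set T) ⊆ {1, ⟨z, hzT⟩} := by
        intro g _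
        by_cases h : g = 1
        · left; exact h
        · right; exact hne g h
      have h9 := Set.ncard_le_ncard h8 (Set.toFinite _)
      rw [Set.ncard_univ] at h9
      have h10 := h9.trans (Set.ncard_insert_le _ _)
      rw [Set.ncard_singleton] at h10
      omega
    obtain ⟨g, h1, h3⟩ := h7
    exact ⟨g, fun h => h1 (Subtype.ext h), fun h => h3 (Subtype.ext h), hcomm g, hpow g⟩

omit [Finite X] in
theorem card_centralizer_conj {S T : Set X} (g : X) (h : ∀ x, x ∈ T ↔ ∃ s ∈ S, x = g * s * g⁻¹) :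
    Nat.card (Subgroup.centralizer T) = Nat.card (Subgroup.centralizer S) := by
  have h1 : Subgroup.centralizer T = (Subgroup.centralizer S).map (MulAut.conj g).toMonoidHom := by
    ext c
    rw [Subgroup.mem_centralizer_iff, Subgroup.mem_map]
    constructor
    · intro hc
      refine ⟨g⁻¹ * c * g, ?_, ?_⟩
      · rw [Subgroup.mem_centralizer_iff]
        intro s hs
        have h3 := hc (g * s * g⁻¹) ((h _).2 ⟨s, hs, rfl⟩)
        calc s * (g⁻¹ * c * g) = g⁻¹ * (g * s * g⁻¹ * c) * g := by group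
          _ = _ := by rw [h3]; group
      · change g * (g⁻¹ * c * g) * g⁻¹ = c
        group
    · rintro ⟨d, hd, rfl⟩ x hx
      obtain ⟨s, hs, rfl⟩ := (h x).1 hx
      have h3 := (Subgroup.mem_centralizer_iff.1 hd) s hs
      change g * s * g⁻¹ * (g * d * g⁻¹) = g * d * g⁻¹ * (g * s * g⁻¹)
      calc g * s * g⁻¹ * (g * d * g⁻¹) = g * (s * d) * g⁻¹ := by group
        _ = _ := by rw [h3]; group
  rw [h1]
  exact Subgroup.card_map_of_injective (MulAut.conj g).injective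

omit [Finite X] in
/-- a 2-element `g` with `g^p ∈ ⟨z⟩` lies in `⟨z⟩` -/
theorem eq_of_pow {p : ℕ} (hp : Odd p) {g z : X} (hzz : z * z = 1) {n : ℕ} (hn : g ^ (2 ^ n) = 1)
    (h : g ^ p = 1 ∨ g ^ p = z) : g = 1 ∨ g = z := by
  have hgp : (g * g) ^ p = 1 := by
    rw [← pow_two, ← pow_mul, mul_comm, pow_mul, pow_two]
    rcases h with h | h <;> rw [h]
    · rw [mul_one]
    · exact hzz
  have hgn : (g * g) ^ (2 ^ n) = 1 := by
    rw [← pow_two, ← pow_mul, mul_comm, pow_mul, hn, one_pow]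
  have hco : Nat.Coprime p (2 ^ n) := Nat.Coprime.pow_right _ (Nat.coprime_two_right.2 hp)
  have hgg : g * g = 1 := by
    have h1 := Nat.dvd_gcd (orderOf_dvd_of_pow_eq_one hgp) (orderOf_dvd_of_pow_eq_one hgn)
    rw [hco] at h1
    exact orderOf_eq_one_iff.1 (Nat.dvd_one.1 h1)
  have hg : g ^ p = g := by
    obtain ⟨m, rfl⟩ := hp
    rw [pow_succ, pow_mul, pow_two, hgg, one_pow, one_mul]
  rwa [hg] at h

end General

variable {G F : Type*} [Group G] [Field F] {D : Pair G F} {K Y : Subgroup G} {p : ℕ}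

theorem neg_mul' (a b : SL2 F) : -a * b = -(a * b) := neg_mul a b

/-- comparison in `L₁ ∘ L₂` -/
theorem pair_eq {a b c d : SL2 F} (h : D.φ₁ a * D.φ₂ b = D.φ₁ c * D.φ₂ d) :
    (a = c ∧ b = d) ∨ (a = -c ∧ b = -d) := by
  have h1 : D.φ₁ (c⁻¹ * a) * D.φ₂ (b * d⁻¹) = 1 := by
    rw [map_mul, map_mul, map_inv, map_inv]
    calc (D.φ₁ c)⁻¹ * D.φ₁ a * (D.φ₂ b * (D.φ₂ d)⁻¹) = (D.φ₁ c)⁻¹ * (D.φ₁ a * D.φ₂ b) * (D.φ₂ d)⁻¹ := by
          simp only [mul_assoc]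
      _ = 1 := by rw [h]; group
  rcases D.ker _ _ h1 with ⟨h3, h4⟩ | ⟨h3, h4⟩
  · left
    exact ⟨(inv_mul_eq_one.1 h3).symm, mul_inv_eq_one.1 h4⟩
  · right
    rw [inv_mul_eq_iff_eq_mul, mul_neg, mul_one] at h3
    rw [mul_inv_eq_iff_eq_mul, neg_mul, one_mul] at h4
    exact ⟨h3, h4⟩

/-- `w ∉ L₁ L₂` -/
theorem w_ne (h2 : (2 : F) ≠ 0) (a b : SL2 F) : D.w ≠ D.φ₁ a * D.φ₂ b := by
  intro h
  have h1 := w_mul₁ D (ux 1)
  rw [h] at h1
  have h3 : D.φ₁ (a * ux 1) * D.φ₂ b = D.φ₁ a * D.φ₂ (ux 1 * b) := by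
    calc D.φ₁ (a * ux 1) * D.φ₂ b = D.φ₁ a * (D.φ₁ (ux 1) * D.φ₂ b) := by rw [map_mul, mul_assoc]
      _ = D.φ₁ a * D.φ₂ b * D.φ₁ (ux 1) := by rw [D.comm, mul_assoc]
      _ = D.φ₂ (ux 1) * D.φ₁ a * D.φ₂ b := by rw [h1, mul_assoc]
      _ = D.φ₁ a * D.φ₂ (ux 1 * b) := by rw [← D.comm, map_mul, mul_assoc]
  rcases pair_eq h3 with ⟨h4, -⟩ | ⟨h4, -⟩
  · rw [mul_eq_left, ← ux_zero] at h4
    exact one_ne_zero (ux_injective h4)
  · have h5 : a * ux 1 = a * (-1) := by rw [h4, mul_neg, mul_one]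
    exact not_neg_ux h2 1 (mul_left_cancel h5)

/-- `x₁(t) x₂(-μt)` -/
def Pm (D : Pair G F) (μ : F) : Set G := Set.range fun t => D.φ₁ (ux t) * D.φ₂ (ux (-(μ * t)))

theorem z_mem_cent (D : Pair G F) (μ : F) : D.z ∈ Subgroup.centralizer (Pm D μ) := by
  rw [Subgroup.mem_centralizer_iff]
  rintro _ ⟨t, rfl⟩
  change D.φ₁ (ux t) * D.φ₂ (ux (-(μ * t))) * D.z = D.z * (D.φ₁ (ux t) * D.φ₂ (ux (-(μ * t))))
  rw [mul_assoc, ← z_comm₂, ← mul_assoc, ← z_comm₁, mul_assoc]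

theorem four_dvd_of_sq [Finite G] (h2 : (2 : F) ≠ 0) {μ : F} (hμ : μ ≠ 0) (hs : IsSquare (-μ)) :
    4 ∣ Nat.card (Subgroup.centralizer (Pm D μ)) := by
  obtain ⟨α, hα⟩ := hs
  have hα0 : α ≠ 0 := by
    rintro rfl
    rw [mul_zero, neg_eq_zero] at hα
    exact hμ hα
  set a : Fˣ := Units.mk0 α hα0 with ha
  set v := D.φ₁ (hx a⁻¹) * D.φ₂ (hx a) * D.w with hv
  have hvv : v * v = 1 := by
    calc v * v = D.φ₁ (hx a⁻¹) * D.φ₂ (hx a) * (D.w * D.φ₁ (hx a⁻¹)) * D.φ₂ (hx a) * D.w := by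
          rw [hv]; simp only [mul_assoc]
      _ = D.φ₁ (hx a⁻¹) * D.φ₂ (hx a) * D.φ₂ (hx a⁻¹) * (D.w * D.φ₂ (hx a)) * D.w := by
          rw [w_mul₁]; simp only [mul_assoc]
      _ = D.φ₁ (hx a⁻¹) * (D.φ₂ (hx a) * D.φ₂ (hx a⁻¹)) * D.φ₁ (hx a) * (D.w * D.w) := by
          rw [w_mul₂]; simp only [mul_assoc]
      _ = 1 := by
          rw [D.ww, ← map_mul, ← hx_mul, mul_inv_cancel, hx_one, map_one, mul_one, mul_one, ← map_mul, ← hx_mul,
            inv_mul_cancel, hx_one, map_one]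
  have hzv : v * D.z = D.z * v := by
    have hzw : D.w * D.z = D.z * D.w := by rw [← D.z₁, w_mul₁, D.z₂, D.z₁]
    rw [hv, mul_assoc, hzw, ← mul_assoc, mul_assoc (D.φ₁ (hx a⁻¹)), ← z_comm₂, ← mul_assoc, ← z_comm₁]
    simp only [mul_assoc]
  have hww : D.φ₁ (hx a) * D.φ₂ (hx a⁻¹) * v = D.w := by
    calc D.φ₁ (hx a) * D.φ₂ (hx a⁻¹) * v
        = D.φ₁ (hx a) * (D.φ₂ (hx a⁻¹) * D.φ₁ (hx a⁻¹)) * D.φ₂ (hx a) * D.w := by rw [hv]; simp only [mul_assoc]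
      _ = (D.φ₁ (hx a) * D.φ₁ (hx a⁻¹)) * (D.φ₂ (hx a⁻¹) * D.φ₂ (hx a)) * D.w := by
          rw [← D.comm]; simp only [mul_assoc]
      _ = D.w := by
          rw [← map_mul, ← map_mul, ← hx_mul, ← hx_mul, mul_inv_cancel, inv_mul_cancel, hx_one, map_one, map_one,
            mul_one, one_mul]
  have hv1 : v ≠ 1 := by
    intro h
    rw [h, mul_one] at hww
    exact w_ne h2 _ _ hww.symm
  have hvz : v ≠ D.z := by
    intro h
    rw [h, ← D.z₂, mul_assoc, ← map_mul] at hww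
    exact w_ne h2 _ _ hww.symm
  have hvC : v ∈ Subgroup.centralizer (Pm D μ) := by
    rw [Subgroup.mem_centralizer_iff]
    rintro _ ⟨t, rfl⟩
    change D.φ₁ (ux t) * D.φ₂ (ux (-(μ * t))) * v = v * (D.φ₁ (ux t) * D.φ₂ (ux (-(μ * t))))
    have h1 : v * (D.φ₁ (ux t) * D.φ₂ (ux (-(μ * t)))) =
        (D.φ₁ (hx a⁻¹) * D.φ₁ (ux (-(μ * t)))) * (D.φ₂ (hx a) * D.φ₂ (ux t)) * D.w := by
      calc v * (D.φ₁ (ux t) * D.φ₂ (ux (-(μ * t))))
          = D.φ₁ (hx a⁻¹) * D.φ₂ (hx a) * (D.w * D.φ₁ (ux t)) * D.φ₂ (ux (-(μ * t))) := by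
            rw [hv]; simp only [mul_assoc]
        _ = D.φ₁ (hx a⁻¹) * D.φ₂ (hx a) * D.φ₂ (ux t) * (D.w * D.φ₂ (ux (-(μ * t)))) := by
            rw [w_mul₁]; simp only [mul_assoc]
        _ = D.φ₁ (hx a⁻¹) * (D.φ₂ (hx a * ux t) * D.φ₁ (ux (-(μ * t)))) * D.w := by
            rw [w_mul₂, map_mul]; simp only [mul_assoc]
        _ = _ := by rw [← D.comm, map_mul]; simp only [mul_assoc]
    have h3 : D.φ₁ (ux t) * D.φ₂ (ux (-(μ * t))) * v =
        (D.φ₁ (ux t) * D.φ₁ (hx a⁻¹)) * (D.φ₂ (ux (-(μ * t))) * D.φ₂ (hx a)) * D.w := by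
      calc D.φ₁ (ux t) * D.φ₂ (ux (-(μ * t))) * v
          = D.φ₁ (ux t) * (D.φ₂ (ux (-(μ * t))) * D.φ₁ (hx a⁻¹)) * D.φ₂ (hx a) * D.w := by
            rw [hv]; simp only [mul_assoc]
        _ = _ := by rw [← D.comm]; simp only [mul_assoc]
    rw [h1, h3, ← map_mul, ← map_mul, ← map_mul, ← map_mul, hx_mul_ux, hx_mul_ux]
    have e1 : ((a⁻¹ : Fˣ) : F) * ((a⁻¹ : Fˣ) : F) * -(μ * t) = t := by
      rw [ha, Units.val_inv_eq_inv_val, Units.val_mk0]
      field_simp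
      linear_combination t * hα
    have e2 : (a : F) * a * t = -(μ * t) := by
      rw [ha, Units.val_mk0]; linear_combination -t * hα
    rw [e1, e2]
  exact four_dvd _ (z_mem_cent D μ) hvC (z_ne_one D h2) hv1 hvz.symm (zz D) hvv hzv

/-- the action of an element of `C(z)` on the root groups `X₁`, `X₂` -/
theorem cent_cases (H : Hyp D) {g : G} (hz : g * D.z = D.z * g) : ∃ (s : F → F) (a b : SL2 F), s 1 = 1 ∧
    (((∀ t, g * D.φ₁ (ux t) * g⁻¹ = D.φ₁ (a * ux (s t) * a⁻¹)) ∧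
      ∀ t, g * D.φ₂ (ux t) * g⁻¹ = D.φ₂ (b * ux (s t) * b⁻¹)) ∨
    ((∀ t, g * D.φ₁ (ux t) * g⁻¹ = D.φ₂ (a * ux (s t) * a⁻¹)) ∧
      ∀ t, g * D.φ₂ (ux t) * g⁻¹ = D.φ₁ (b * ux (s t) * b⁻¹))) := by
  obtain ⟨d, σ, a, b, hcd, -, h₁, h₂⟩ := H.cent g hz
  refine ⟨σ, ?_⟩
  rcases hcd with rfl | rfl
  · refine ⟨a, b, map_one σ, Or.inl ⟨fun t => ?_, fun t => ?_⟩⟩
    · rw [h₁, Closing.map_ux]; rfl
    · rw [h₂, Closing.map_ux]; rfl
  · have e : ∀ x, d * D.w * x * (d * D.w)⁻¹ = d * (D.w * x) * D.w⁻¹ * d⁻¹ := fun x => by group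
    refine ⟨b, a, map_one σ, Or.inr ⟨fun t => ?_, fun t => ?_⟩⟩
    · rw [e, w_mul₁, mul_assoc d, mul_inv_cancel_right, h₂, Closing.map_ux]; rfl
    · rw [e, w_mul₂, mul_assoc d, mul_inv_cancel_right, h₁, Closing.map_ux]; rfl

theorem not_neg_conj [CharP F p] (hp : Odd p) (h2 : (2 : F) ≠ 0) {a : SL2 F} {s t : F} :
    a * ux s * a⁻¹ ≠ -ux t := by
  intro h
  have h1 : (a * ux s * a⁻¹) ^ p = (-ux t) ^ p := by rw [h]
  rw [conj_pow, ux_pow, hp.neg_pow, ux_pow, CharP.cast_eq_zero, zero_mul, zero_mul, ux_zero, mul_one, mul_inv_cancel] at h1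
  exact neg_one_ne_one h2 h1.symm

theorem sq_of_four_dvd [Finite G] [CharP F p] (h2 : (2 : F) ≠ 0) (hp : Odd p) (H : Hyp D) {μ : F} (hμ : μ ≠ 0)
    (h4 : 4 ∣ Nat.card (Subgroup.centralizer (Pm D μ))) : IsSquare (-μ) := by
  obtain ⟨⟨g, hgC⟩, h1, h3, h5, n, hn⟩ := exists_two_element
    (z := (⟨D.z, z_mem_cent D μ⟩ : Subgroup.centralizer (Pm D μ)))
    (fun h => z_ne_one D h2 (congrArg Subtype.val h)) (Subtype.ext (zz D)) h4
  replace h1 : g ≠ 1 := fun h => h1 (Subtype.ext h)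
  replace h3 : g ≠ D.z := fun h => h3 (Subtype.ext h)
  replace h5 : g * D.z = D.z * g := congrArg Subtype.val h5
  replace hn : g ^ (2 ^ n) = 1 := congrArg Subtype.val hn
  have hcomm : ∀ t, g * (D.φ₁ (ux t) * D.φ₂ (ux (-(μ * t)))) * g⁻¹ = D.φ₁ (ux t) * D.φ₂ (ux (-(μ * t))) := by
    intro t
    rw [← (Subgroup.mem_centralizer_iff.1 hgC) _ ⟨t, rfl⟩, mul_inv_cancel_right]
  have hsplit : ∀ t, g * D.φ₁ (ux t) * g⁻¹ * (g * D.φ₂ (ux (-(μ * t))) * g⁻¹) = D.φ₁ (ux t) * D.φ₂ (ux (-(μ * t))) := by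
    intro t
    rw [← hcomm t]; group
  obtain ⟨s, a, b, hs1, ⟨ha, hb⟩ | ⟨ha, hb⟩⟩ := cent_cases H h5
  · exfalso
    have hx₁ : ∀ t, g * D.φ₁ (ux t) * g⁻¹ = D.φ₁ (ux t) := by
      intro t
      have h6 := hsplit t
      rw [ha, hb] at h6
      rcases pair_eq h6 with ⟨h7, -⟩ | ⟨h7, -⟩
      · rw [ha, h7]
      · exact absurd h7 (not_neg_conj hp h2)
    have hx₂ : g * D.φ₂ (ux 1) * g⁻¹ = D.φ₂ (ux 1) := by
      have h6 := hsplit (-μ⁻¹)
      rw [mul_neg, mul_inv_cancel₀ hμ, neg_neg, hx₁] at h6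
      exact mul_left_cancel h6
    have hgH : g ∈ H1 D := mem_H1.2 fun t => (mul_inv_eq_iff_eq_mul.1 (hx₁ t)).symm
    obtain ⟨s', b', hg⟩ := of_comm_z h2 H hgH h5
    have h7 : b' * ux 1 = ux 1 * b' := by
      apply φ₂_inj D h2
      have h8 := mul_inv_eq_iff_eq_mul.1 hx₂
      rw [hg, mul_assoc, ← map_mul] at h8
      rw [map_mul D.φ₂ (ux 1)]
      apply mul_left_cancel (a := D.φ₁ (ux s'))
      rw [h8, ← mul_assoc, ← mul_assoc, ← D.comm]
    have hgp : g ^ p = 1 ∨ g ^ p = D.z := by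
      have h8 : g ^ p = D.φ₂ (b' ^ p) := by
        rw [hg, Commute.mul_pow (D.comm _ _), ← map_pow, ux_pow, CharP.cast_eq_zero, zero_mul, ux_zero, map_one,
          one_mul, map_pow]
      obtain ⟨u, rfl | rfl⟩ := of_comm_ux h7
      · left
        rw [h8, ux_pow, CharP.cast_eq_zero, zero_mul, ux_zero, map_one]
      · right
        rw [h8, hp.neg_pow, ux_pow, CharP.cast_eq_zero, zero_mul, ux_zero, D.z₂]
    rcases eq_of_pow hp (zz D) hn hgp with h9 | h9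
    · exact h1 h9
    · exact h3 h9
  · have h6 := hsplit 1
    rw [ha, hb, mul_one, hs1, ← D.comm] at h6
    rcases pair_eq h6 with ⟨-, h7⟩ | ⟨-, h7⟩
    · exact of_conj_ux (mul_inv_eq_iff_eq_mul.1 h7)
    · exact absurd h7 (not_neg_conj hp h2)

end Cfsg.Agent.SpFourOdd.Pt
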