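import Cfsg.Agent.SpFourOdd.PtK

/-!
# The point part, III: `K` has class two, `C_V(Y) = X₁ Y`, and `[Y', X₂] ≤ X₁ Y`
-/

set_option autoImplicit false

namespace Cfsg.Agent.SpFourOdd.Pt

open Matrix

variable {G F : Type*} [Group G] [Field F] {D : Pair G F} {K : Subgroup G}

/-- a square root argument: an element of odd order whose square is trivial is trivial -/
theorem eq_one_of_sq {g : G} (hg : Odd (orderOf g)) (h : g * g = 1) : g = 1 := by
  have h1 : orderOf g ∣ 2 := orderOf_dvd_of_pow_eq_one (by rw [pow_two, h])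
  rcases (Nat.dvd_prime Nat.prime_two).1 h1 with h2 | h2
  · exact orderOf_eq_one_iff.1 h2
  · rw [h2] at hg; exact absurd hg (by decide)

namespace KData

variable (k : KData D K)

include k

theorem comm_x {g : G} (hg : g ∈ K) (t : F) : D.φ₁ (ux t) * g = g * D.φ₁ (ux t) :=
  mem_H1.1 (k.le hg) t

/-- `z k z = k⁻¹ x` and `K' ≤ X₁` -/
theorem class_two [Finite G] [Finite F] (h2 : (2 : F) ≠ 0) (p : ℕ) [CharP F p] (hp : Odd p) (H : Hyp D) {a b : G}
    (ha : a ∈ K) (hb : b ∈ K) : ∃ s, b * a = a * b * D.φ₁ (ux s) := by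
  classical
  let f : Multiplicative F →* K :=
    { toFun := fun t => ⟨D.φ₁ (ux t.toAdd), k.x _⟩
      map_one' := by apply Subtype.ext; simp [ux_zero]
      map_mul' := fun s t => by apply Subtype.ext; simp [ux_add] }
  have hmem : ∀ x : K, x ∈ f.range ↔ ∃ s, (x : G) = D.φ₁ (ux s) := by
    intro x
    constructor
    · rintro ⟨t, rfl⟩; exact ⟨t.toAdd, rfl⟩
    · rintro ⟨s, hs⟩; exact ⟨Multiplicative.ofAdd s, Subtype.ext hs.symm⟩
  have hfN : f.range.Normal := by
    refine ⟨?_⟩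
    intro x hx g
    obtain ⟨s, hs⟩ := (hmem x).1 hx
    refine (hmem _).2 ⟨s, ?_⟩
    simp only [Subgroup.coe_mul, Subgroup.coe_inv, hs]
    rw [← k.comm_x g.2 s]; group
  let σ : K →* K :=
    { toFun := fun x => ⟨D.z * x * D.z⁻¹, k.nrm _ z_mem _ x.2⟩
      map_one' := by apply Subtype.ext; simp
      map_mul' := fun x y => by apply Subtype.ext; simp only [Subgroup.coe_mul]; group }
  have hσ : f.range ≤ f.range.comap σ := by
    intro x hx
    obtain ⟨s, hs⟩ := (hmem x).1 hx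
    refine (hmem _).2 ⟨s, ?_⟩
    change D.z * (x : G) * D.z⁻¹ = _
    rw [hs, z_comm₁]; group
  let τ : (K ⧸ f.range) →* (K ⧸ f.range) := QuotientGroup.map f.range f.range σ hσ
  have hinv : Function.Involutive τ := by
    intro q
    obtain ⟨x, rfl⟩ := QuotientGroup.mk_surjective q
    change QuotientGroup.mk (σ (σ x)) = _
    congr 1
    apply Subtype.ext
    change D.z * (D.z * x * D.z⁻¹) * D.z⁻¹ = x
    rw [z_inv]
    calc D.z * (D.z * x * D.z) * D.z = (D.z * D.z) * x * (D.z * D.z) := by simp only [mul_assoc]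
      _ = x := by rw [zz, one_mul, mul_one]
  have hfree : MonoidHom.FixedPointFree τ := by
    intro q hq
    obtain ⟨x, rfl⟩ := QuotientGroup.mk_surjective q
    change QuotientGroup.mk (σ x) = QuotientGroup.mk x at hq
    rw [eq_comm, QuotientGroup.eq] at hq
    obtain ⟨s, hs⟩ := (hmem _).1 hq
    have hs' : D.z * x * D.z⁻¹ = x * D.φ₁ (ux s) := by
      rw [← hs]
      change _ = (x : G) * ((x : G)⁻¹ * (D.z * x * D.z⁻¹))
      group
    -- apply `z` again
    have h3 : (x : G) = x * D.φ₁ (ux s) * D.φ₁ (ux s) := by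
      have h4 : D.z * (D.z * x * D.z⁻¹) * D.z⁻¹ = D.z * (x * D.φ₁ (ux s)) * D.z⁻¹ := by rw [hs']
      have hL : D.z * (D.z * x * D.z⁻¹) * D.z⁻¹ = x := by
        rw [z_inv]
        calc D.z * (D.z * x * D.z) * D.z = (D.z * D.z) * x * (D.z * D.z) := by simp only [mul_assoc]
          _ = x := by rw [zz, one_mul, mul_one]
      have hR : D.z * (x * D.φ₁ (ux s)) * D.z⁻¹ = x * D.φ₁ (ux s) * D.φ₁ (ux s) := by
        calc D.z * (x * D.φ₁ (ux s)) * D.z⁻¹ = (D.z * x * D.z⁻¹) * (D.z * D.φ₁ (ux s) * D.z⁻¹) := by group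
          _ = _ := by rw [hs', z_comm₁, mul_inv_cancel_right]
      rw [hL, hR] at h4
      exact h4
    have h4 : D.φ₁ (ux s) * D.φ₁ (ux s) = 1 := by
      rw [mul_assoc] at h3
      exact mul_eq_left.1 h3.symm
    have h5 := eq_one_of_sq (k.odd_order (k.x s)) h4
    rw [h5, mul_one] at hs'
    have h6 : (x : G) * D.z = D.z * x := (mul_inv_eq_iff_eq_mul.1 hs').symm
    obtain ⟨s', hs''⟩ := k.cent_z h2 p hp H x.2 h6
    rw [QuotientGroup.eq_one_iff]
    exact (hmem _).2 ⟨s', hs''⟩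
  have hcomm := hfree.commute_all_of_involutive hinv (QuotientGroup.mk (⟨a, ha⟩ : K)) (QuotientGroup.mk (⟨b, hb⟩ : K))
  have h6 : (QuotientGroup.mk (⟨a, ha⟩ * ⟨b, hb⟩ : K) : K ⧸ f.range) = QuotientGroup.mk (⟨b, hb⟩ * ⟨a, ha⟩ : K) := hcomm
  rw [QuotientGroup.eq] at h6
  obtain ⟨s, hs⟩ := (hmem _).1 h6
  refine ⟨s, ?_⟩
  rw [← hs]
  change b * a = a * b * ((a * b)⁻¹ * (b * a))
  group

/-- elements of `H₁` of odd order inverted by `z` lie in `K` -/
theorem mem_of_inv {g : G} (hg : g ∈ H1 D) (hodd : Odd (orderOf g)) (hz : D.z * g * D.z = g⁻¹) : g ∈ K := by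
  have h1 := k.z g hg
  rw [z_inv, hz] at h1
  have h2 : g * g ∈ K := by
    have := inv_mem h1
    rwa [_root_.mul_inv_rev, inv_inv] at this
  obtain ⟨n, hn⟩ := hodd
  have h3 : g = (g * g) ^ (n + 1) := by
    rw [← pow_two, ← pow_mul]
    have : 2 * (n + 1) = orderOf g + 1 := by omega
    rw [this, pow_succ, pow_orderOf_eq_one, one_mul]
  rw [h3]
  exact pow_mem h2 _

/-- `V = {v ∈ K : v^p = 1}` is a subgroup -/
def V [Finite G] [Finite F] (h2 : (2 : F) ≠ 0) (p : ℕ) [CharP F p] (hp : Odd p) (H : Hyp D) : Subgroup G where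
  carrier := {g | g ∈ K ∧ g ^ p = 1}
  one_mem' := ⟨one_mem _, one_pow _⟩
  inv_mem' := by
    rintro g ⟨h1, h2⟩
    exact ⟨inv_mem h1, by rw [inv_pow, h2, inv_one]⟩
  mul_mem' := by
    rintro a b ⟨ha, ha'⟩ ⟨hb, hb'⟩
    refine ⟨mul_mem ha hb, ?_⟩
    obtain ⟨s, hs⟩ := k.class_two h2 p hp H ha hb
    rw [mul_pow_class_two hs (k.comm_x ha s).symm (k.comm_x hb s).symm, ha', hb', ← map_pow, ux_pow]
    have h3 : ((p.choose 2 : ℕ) : F) = 0 := by
      have h4 : p ∣ p.choose 2 := by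
        obtain ⟨m, rfl⟩ := hp
        rw [Nat.choose_two_right]
        have : (2 * m + 1) * (2 * m + 1 - 1) / 2 = (2 * m + 1) * m := by
          rw [Nat.add_sub_cancel, mul_comm 2 m, ← mul_assoc, Nat.mul_div_cancel _ (by norm_num)]
        rw [this]
        exact dvd_mul_right _ _
      exact (CharP.cast_eq_zero_iff F p _).2 h4
    rw [h3, zero_mul, ux_zero, map_one, one_mul, one_mul]

end KData

end Cfsg.Agent.SpFourOdd.Pt
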