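import Cfsg.Agent.SpFourOdd.PtV

/-!
# The point part, IV: `Y ≤ V`, `C_V(Y) = X₁ Y`, and `[Y', X₂] ≤ X₁ Y`
-/

set_option autoImplicit false

namespace Cfsg.Agent.SpFourOdd.Pt

open Matrix

variable {G F : Type*} [Group G] [Field F] {D : Pair G F} {K Y : Subgroup G} {p : ℕ}

namespace LineF

variable (L : Line p D Y)

include L

theorem comm {a b : G} (ha : a ∈ Y) (hb : b ∈ Y) : a * b = b * a := by
  have h1 := L.inv _ (mul_mem ha hb)
  have h2 : D.z * (a * b) * D.z = (D.z * a * D.z) * (D.z * b * D.z) := by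
    calc D.z * (a * b) * D.z = D.z * a * 1 * b * D.z := by rw [mul_one]; simp only [mul_assoc]
      _ = D.z * a * (D.z * D.z) * b * D.z := by rw [zz]
      _ = _ := by simp only [mul_assoc]
  rw [h2, L.inv a ha, L.inv b hb, ← _root_.mul_inv_rev, _root_.inv_inj] at h1
  exact h1.symm

/-- `y` commutes with `φ₁ (ux t)` -/
theorem x₁ {y : G} (hy : y ∈ Y) (t : F) : D.φ₁ (ux t) * y = y * D.φ₁ (ux t) := by
  have h1 := L.x y hy t
  have h2 := L.w y hy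
  calc D.φ₁ (ux t) * y = (D.w * D.φ₂ (ux t) * D.w) * y := by rw [conj₂]
    _ = D.w * D.φ₂ (ux t) * (D.w * y) := by simp only [mul_assoc]
    _ = D.w * (D.φ₂ (ux t) * y) * D.w := by rw [h2]; simp only [mul_assoc]
    _ = (D.w * y) * D.φ₂ (ux t) * D.w := by rw [← h1]; simp only [mul_assoc]
    _ = y * (D.w * D.φ₂ (ux t) * D.w) := by rw [h2]; simp only [mul_assoc]
    _ = y * D.φ₁ (ux t) := by rw [conj₂]

theorem mem_H1 {y : G} (hy : y ∈ Y) : y ∈ H1 D := Pt.mem_H1.2 fun t => x₁ L hy t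

theorem mem_K (k : KData D K) (hp : Odd p) {y : G} (hy : y ∈ Y) : y ∈ K :=
  k.mem_of_inv (mem_H1 L hy) (hp.of_dvd_nat (orderOf_dvd_of_pow_eq_one (L.exp y hy))) (L.inv y hy)

/-- torus on `Y`, first factor -/
theorem h₁ (b : Fˣ) {y : G} (hy : y ∈ Y) :
    D.φ₁ (hx b) * y * (D.φ₁ (hx b))⁻¹ = D.φ₂ (hx b) * y * (D.φ₂ (hx b))⁻¹ := by
  have h1 := L.w _ (L.h b y hy)
  have h2 := L.w y hy
  have h3 : D.φ₂ (hx b) * y * (D.φ₂ (hx b))⁻¹ = D.w * (D.φ₂ (hx b) * y * (D.φ₂ (hx b))⁻¹) * D.w := by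
    rw [h1, mul_assoc _ D.w D.w, D.ww, mul_one]
  rw [h3, ← map_inv, ← map_inv]
  calc D.φ₁ (hx b) * y * D.φ₁ (hx b)⁻¹ = (D.w * D.φ₂ (hx b) * D.w) * y * (D.w * D.φ₂ (hx b)⁻¹ * D.w) := by
        rw [conj₂, conj₂]
    _ = D.w * D.φ₂ (hx b) * (D.w * y) * D.w * D.φ₂ (hx b)⁻¹ * D.w := by simp only [mul_assoc]
    _ = D.w * D.φ₂ (hx b) * y * (D.w * D.w) * D.φ₂ (hx b)⁻¹ * D.w := by rw [h2]; simp only [mul_assoc]
    _ = _ := by rw [D.ww, mul_one]; simp only [mul_assoc]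

end LineF

/-- `X₂` as a subgroup -/
def X2g (D : Pair G F) : Subgroup G where
  carrier := Set.range fun t => D.φ₂ (ux t)
  one_mem' := ⟨0, by simp [ux_zero]⟩
  mul_mem' := by
    rintro _ _ ⟨s, rfl⟩ ⟨t, rfl⟩
    exact ⟨s + t, by simp [ux_add]⟩
  inv_mem' := by
    rintro _ ⟨s, rfl⟩
    exact ⟨-s, by simp [ux_neg]⟩

section

variable [Finite G] [Finite F] [Fact p.Prime] [CharP F p]

/-- `C_V(Y) = X₁ Y` -/
theorem exists_of_comm (h2 : (2 : F) ≠ 0) (hp : Odd p) (H : Hyp D) (k : KData D K) (L : Line p D Y)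
    {g : G} (hg : g ∈ K) (hgp : g ^ p = 1) (hc : ∀ y ∈ Y, g * y = y * g) :
    ∃ s, ∃ y ∈ Y, g = D.φ₁ (ux s) * y := by
  classical
  set V := k.V h2 p hp H with hV
  let C : Subgroup G := V ⊓ Subgroup.centralizer (Y : Set G)
  have hmC : ∀ g, g ∈ C ↔ (g ∈ K ∧ g ^ p = 1) ∧ ∀ y ∈ Y, g * y = y * g := by
    intro g
    simp only [C, Subgroup.mem_inf, Subgroup.mem_centralizer_iff]
    constructor
    · rintro ⟨h, h'⟩
      exact ⟨h, fun y hy => (h' y hy).symm⟩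
    · rintro ⟨h, h'⟩
      exact ⟨h, fun y hy => (h' y hy).symm⟩
  have hCp : IsPGroup p C := by
    intro g
    refine ⟨1, Subtype.ext ?_⟩
    rw [pow_one]
    exact ((hmC _).1 g.2).1.2
  have hXp : IsPGroup p (X2g D) := by
    rintro ⟨_, t, rfl⟩
    refine ⟨1, Subtype.ext ?_⟩
    rw [pow_one]
    change (D.φ₂ (ux t)) ^ p = 1
    rw [← map_pow, ux_pow, CharP.cast_eq_zero, zero_mul, ux_zero, map_one]
  have hnorm : X2g D ≤ Subgroup.normalizer (C : Set G) := by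
    have key : ∀ t, ∀ g ∈ C, D.φ₂ (ux t) * g * (D.φ₂ (ux t))⁻¹ ∈ C := by
      intro t g hg
      obtain ⟨⟨h1, h3⟩, h4⟩ := (hmC g).1 hg
      refine (hmC _).2 ⟨⟨k.nrm _ (φ₂_mem _) _ h1, ?_⟩, ?_⟩
      · rw [conj_pow, h3]; group
      · intro y hy
        have h5 := L.x y hy t
        have h6 : y * (D.φ₂ (ux t))⁻¹ = (D.φ₂ (ux t))⁻¹ * y := by
          rw [mul_inv_eq_iff_eq_mul, mul_assoc, h5]; group
        calc D.φ₂ (ux t) * g * (D.φ₂ (ux t))⁻¹ * y = D.φ₂ (ux t) * (g * y) * (D.φ₂ (ux t))⁻¹ := by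
              rw [mul_assoc _ _ y, ← h6]; simp only [mul_assoc]
          _ = (D.φ₂ (ux t) * y) * g * (D.φ₂ (ux t))⁻¹ := by rw [h4 y hy]; simp only [mul_assoc]
          _ = y * (D.φ₂ (ux t) * g * (D.φ₂ (ux t))⁻¹) := by rw [← h5]; simp only [mul_assoc]
    rintro _ ⟨t, rfl⟩
    rw [Subgroup.mem_normalizer_iff]
    intro g
    constructor
    · exact key t g
    · intro h
      have h3 := key (-t) _ h
      simp only [ux_neg, map_inv, inv_inv] at h3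
      have h4 : (D.φ₂ (ux t))⁻¹ * (D.φ₂ (ux t) * g * (D.φ₂ (ux t))⁻¹) * D.φ₂ (ux t) = g := by group
      rwa [h4] at h3
  let A : Subgroup G := C ⊔ X2g D
  have hAp : IsPGroup p A := hCp.to_sup_of_normal_left' hXp hnorm
  have hAY : ∀ a ∈ A, ∀ y ∈ Y, a * y = y * a := by
    intro a ha
    have hle : A ≤ Subgroup.centralizer (Y : Set G) := by
      refine sup_le inf_le_right ?_
      rintro _ ⟨t, rfl⟩
      rw [Subgroup.mem_centralizer_iff]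
      intro y hy
      exact L.x y hy t
    intro y hy
    exact ((Subgroup.mem_centralizer_iff.1 (hle ha)) y hy).symm
  have hAcard := L.cen A hAp hAY
  -- `|C| q ≤ |A|`
  have hinj : Function.Injective (fun x : C × F => (⟨(x.1 : G) * D.φ₂ (ux x.2),
      mul_mem (Subgroup.mem_sup_left x.1.2) (Subgroup.mem_sup_right ⟨x.2, rfl⟩)⟩ : A)) := by
    rintro ⟨c, t⟩ ⟨c', t'⟩ h
    have h3 : (c : G) * D.φ₂ (ux t) = c' * D.φ₂ (ux t') := congrArg Subtype.val h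
    have h4 : D.φ₂ (ux t' * (ux t)⁻¹) ∈ K := by
      have h5 : D.φ₂ (ux t' * (ux t)⁻¹) = (c' : G)⁻¹ * c := by
        rw [map_mul, map_inv, mul_inv_eq_iff_eq_mul, mul_assoc, h3]; group
      rw [h5]
      exact mul_mem (inv_mem ((hmC _).1 c'.2).1.1) ((hmC _).1 c.2).1.1
    have h5 := k.φ₂_mem_K h2 p hp h4
    rw [mul_inv_eq_one] at h5
    have h6 := ux_injective h5
    subst h6
    have h7 := mul_right_cancel h3
    rw [Prod.mk.injEq]
    exact ⟨Subtype.ext h7, rfl⟩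
  have hc1 : Nat.card C * Nat.card F ≤ Nat.card A := by
    rw [← Nat.card_prod]
    exact Nat.card_le_card_of_injective _ hinj
  have hFpos : 0 < Nat.card F := Nat.card_pos
  have hc2 : Nat.card C ≤ Nat.card F * Nat.card F := by
    have h3 : Nat.card C * Nat.card F ≤ (Nat.card F * Nat.card F) * Nat.card F := by
      calc Nat.card C * Nat.card F ≤ Nat.card A := hc1
        _ ≤ Nat.card F ^ 3 := hAcard
        _ = _ := by ring
    exact Nat.le_of_mul_le_mul_right h3 hFpos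
  -- `X₁ × Y → C`
  have hmem : ∀ x : F × Y, D.φ₁ (ux x.1) * (x.2 : G) ∈ C := by
    rintro ⟨s, y, hy⟩
    have hx1 := LineF.x₁ L hy s
    refine (hmC _).2 ⟨⟨mul_mem (k.x s) (LineF.mem_K L k hp hy), ?_⟩, ?_⟩
    · rw [Commute.mul_pow hx1, L.exp y hy, ← map_pow, ux_pow, CharP.cast_eq_zero, zero_mul, ux_zero, map_one, mul_one]
    · intro y' hy'
      change D.φ₁ (ux s) * y * y' = y' * (D.φ₁ (ux s) * y)
      rw [mul_assoc, LineF.comm L hy hy', ← mul_assoc, LineF.x₁ L hy' s, mul_assoc]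
  have hinj2 : Function.Injective (fun x : F × Y => (⟨D.φ₁ (ux x.1) * (x.2 : G), hmem x⟩ : C)) := by
    rintro ⟨s, y, hy⟩ ⟨s', y', hy'⟩ h
    have h3 : D.φ₁ (ux s) * y = D.φ₁ (ux s') * y' := congrArg Subtype.val h
    have h4 : D.φ₁ (ux (s - s')) = y' * y⁻¹ := by
      rw [sub_eq_neg_add, ux_add, map_mul, ux_neg, map_inv, eq_mul_inv_iff_mul_eq, mul_assoc, h3]; group
    have h5 : D.φ₁ (ux (s - s')) ∈ Y := by rw [h4]; exact mul_mem hy' (inv_mem hy)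
    have h6 := L.inv _ h5
    rw [z_comm₁, mul_assoc, zz, mul_one] at h6
    have h7 : D.φ₁ (ux (s - s')) * D.φ₁ (ux (s - s')) = 1 := by
      nth_rw 1 [h6]; group
    have h8 := eq_one_of_sq (k.odd_order (k.x _)) h7
    rw [h8] at h4
    have h9 : y' = y := mul_inv_eq_one.1 h4.symm
    subst h9
    have h10 : s = s' := ux_injective (φ₁_inj D h2 (mul_right_cancel h3))
    subst h10
    rfl
  have hcardP : Nat.card C ≤ Nat.card (F × Y) := by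
    rw [Nat.card_prod, L.card]; exact hc2
  have hbij := hinj2.bijective_of_nat_card_le hcardP
  obtain ⟨⟨s, y⟩, hsy⟩ := hbij.2 ⟨g, (hmC g).2 ⟨⟨hg, hgp⟩, hc⟩⟩
  exact ⟨s, y, y.2, (congrArg Subtype.val hsy).symm⟩

/-- `[Y', X₂] ≤ X₁ Y` -/
theorem exists_E (h2 : (2 : F) ≠ 0) (hp : Odd p) (H : Hyp D) (k : KData D K) (L : Line p D Y)
    {y : G} (hy : y ∈ Y) (t : F) : ∃ s, ∃ y' ∈ Y,
      D.φ₂ (ux t) * (D.φ₂ nx * y * (D.φ₂ nx)⁻¹) * (D.φ₂ (ux t))⁻¹ =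
        (D.φ₂ nx * y * (D.φ₂ nx)⁻¹) * y' * D.φ₁ (ux s) := by
  set v : G := D.φ₂ nx * y * (D.φ₂ nx)⁻¹ with hv
  set x : G := D.φ₂ (ux t) with hx
  have hvK : v ∈ K := k.nrm _ (φ₂_mem _) _ (LineF.mem_K L k hp hy)
  have hvp : v ^ p = 1 := by rw [hv, conj_pow, L.exp y hy]; group
  have hxv : x * v * x⁻¹ ∈ K := k.nrm _ (φ₂_mem _) _ hvK
  have hxvp : (x * v * x⁻¹) ^ p = 1 := by rw [conj_pow, hvp]; group
  have hg : v⁻¹ * (x * v * x⁻¹) ∈ k.V h2 p hp H :=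
    mul_mem (inv_mem (⟨hvK, hvp⟩ : v ∈ k.V h2 p hp H)) ⟨hxv, hxvp⟩
  obtain ⟨s, y', hy', h3⟩ := exists_of_comm h2 hp H k L hg.1 hg.2 (by
    intro y0 hy0
    obtain ⟨c, hc⟩ := k.class_two h2 p hp H (LineF.mem_K L k hp hy0) hvK
    -- `v y0 = y0 v φ₁(c)`
    have hxy : y0 * x = x * y0 := L.x y0 hy0 t
    have hcx : D.φ₁ (ux c) * x = x * D.φ₁ (ux c) := by rw [hx, D.comm]
    have h4 : x * v * x⁻¹ * y0 = y0 * (x * v * x⁻¹) * D.φ₁ (ux c) := by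
      have h5 : x⁻¹ * y0 = y0 * x⁻¹ := by
        rw [inv_mul_eq_iff_eq_mul, ← mul_assoc, ← hxy, mul_inv_cancel_right]
      have h6 : D.φ₁ (ux c) * x⁻¹ = x⁻¹ * D.φ₁ (ux c) := by
        rw [mul_inv_eq_iff_eq_mul, mul_assoc, hcx]; group
      calc x * v * x⁻¹ * y0 = x * (v * y0) * x⁻¹ := by rw [mul_assoc _ _ y0, h5]; simp only [mul_assoc]
        _ = (x * y0) * v * (D.φ₁ (ux c) * x⁻¹) := by rw [hc]; simp only [mul_assoc]
        _ = _ := by rw [← hxy, h6]; simp only [mul_assoc]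
    have h7 : v⁻¹ * y0 = y0 * v⁻¹ * (D.φ₁ (ux c))⁻¹ := by
      have h8 := k.comm_x hvK c
      rw [inv_mul_eq_iff_eq_mul]
      have : v * (y0 * v⁻¹ * (D.φ₁ (ux c))⁻¹) = (v * y0) * (D.φ₁ (ux c) * v)⁻¹ := by group
      rw [this, hc, h8]; group
    have h9 : D.φ₁ (ux c) * (x * v * x⁻¹) = (x * v * x⁻¹) * D.φ₁ (ux c) := k.comm_x hxv c
    calc v⁻¹ * (x * v * x⁻¹) * y0 = v⁻¹ * y0 * ((x * v * x⁻¹) * D.φ₁ (ux c)) := by
          rw [mul_assoc, h4]; simp only [mul_assoc]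
      _ = y0 * v⁻¹ * (D.φ₁ (ux c))⁻¹ * (D.φ₁ (ux c) * (x * v * x⁻¹)) := by rw [h7, h9]
      _ = y0 * (v⁻¹ * (x * v * x⁻¹)) := by group)
  refine ⟨s, y', hy', ?_⟩
  rw [mul_assoc v, ← LineF.x₁ L hy' s, ← h3]
  group

end

end Cfsg.Agent.SpFourOdd.Pt
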