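import Cfsg.Agent.SpFourOdd.Defs

/-!
# Recognition of `PSp₄(q)`, `q` odd: calculations in the group generated by the root elements

The elements `y`, `φ₁ (ux ·)`, `φ₂ (ux ·)` generate an abelian group on which `y2` and its conjugate `x2` act as the
elementary matrices of `GL₂` act on symmetric matrices; the same holds for the opposite group. As a consequence the
element `y2(t) x2(-t⁻¹) y2(t)` is equal to `φ₁(hx t) φ₂(hx (-t⁻¹)) w`.
-/

set_option autoImplicit false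

namespace Cfsg.Agent.SpFourOdd

open Matrix

section Mat

variable {F : Type*} [Field F]

theorem coe_ux (t : F) : ((ux t : SL2 F) : Matrix (Fin 2) (Fin 2) F) = !![1, t; 0, 1] := rfl
theorem coe_lx (t : F) : ((lx t : SL2 F) : Matrix (Fin 2) (Fin 2) F) = !![1, 0; t, 1] := rfl
theorem coe_nx : ((nx : SL2 F) : Matrix (Fin 2) (Fin 2) F) = !![0, 1; -1, 0] := rfl
theorem coe_hx (b : Fˣ) : ((hx b : SL2 F) : Matrix (Fin 2) (Fin 2) F) = !![(b : F), 0; 0, ((b⁻¹ : Fˣ) : F)] := rfl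

theorem ux_add (s t : F) : ux (s + t) = ux s * ux t := by
  apply Subtype.ext
  simp only [Matrix.SpecialLinearGroup.coe_mul, coe_ux, Matrix.mul_fin_two]
  simp [add_comm]

theorem lx_add (s t : F) : lx (s + t) = lx s * lx t := by
  apply Subtype.ext
  simp only [Matrix.SpecialLinearGroup.coe_mul, coe_lx, Matrix.mul_fin_two]
  simp

theorem ux_zero : ux (0 : F) = 1 := by
  apply Subtype.ext
  simp [coe_ux, Matrix.one_fin_two]

theorem lx_zero : lx (0 : F) = 1 := by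
  apply Subtype.ext
  simp [coe_lx, Matrix.one_fin_two]

theorem ux_neg (t : F) : ux (-t) = (ux t)⁻¹ := by
  rw [eq_inv_iff_mul_eq_one, ← ux_add, neg_add_cancel, ux_zero]

theorem lx_neg (t : F) : lx (-t) = (lx t)⁻¹ := by
  rw [eq_inv_iff_mul_eq_one, ← lx_add, neg_add_cancel, lx_zero]

theorem nx_mul_ux (t : F) : nx * ux t = lx (-t) * nx := by
  apply Subtype.ext
  simp only [Matrix.SpecialLinearGroup.coe_mul, coe_ux, coe_lx, coe_nx, Matrix.mul_fin_two]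
  simp

theorem nx_mul_lx (t : F) : nx * lx t = ux (-t) * nx := by
  apply Subtype.ext
  simp only [Matrix.SpecialLinearGroup.coe_mul, coe_ux, coe_lx, coe_nx, Matrix.mul_fin_two]
  simp

theorem nx_mul_nx : nx * nx = (-1 : SL2 F) := by
  apply Subtype.ext
  simp only [Matrix.SpecialLinearGroup.coe_mul, Matrix.SpecialLinearGroup.coe_neg, Matrix.SpecialLinearGroup.coe_one,
    coe_nx, Matrix.mul_fin_two]
  ext i j
  fin_cases i <;> fin_cases j <;> simp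

theorem nx_mul_hx (b : Fˣ) : nx * hx b = hx b⁻¹ * nx := by
  apply Subtype.ext
  simp only [Matrix.SpecialLinearGroup.coe_mul, coe_hx, coe_nx, Matrix.mul_fin_two]
  simp

theorem hx_mul_ux (b : Fˣ) (t : F) : hx b * ux t = ux (b * b * t) * hx b := by
  apply Subtype.ext
  simp only [Matrix.SpecialLinearGroup.coe_mul, coe_hx, coe_ux, Matrix.mul_fin_two]
  have hb : (b : F) ≠ 0 := b.ne_zero
  ext i j
  fin_cases i <;> fin_cases j <;> simp
  field_simp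

theorem hx_mul (a b : Fˣ) : hx (a * b) = hx a * hx b := by
  apply Subtype.ext
  simp only [Matrix.SpecialLinearGroup.coe_mul, coe_hx, Matrix.mul_fin_two]
  ext i j
  fin_cases i <;> fin_cases j <;> simp [mul_comm]

theorem hx_one : hx (1 : Fˣ) = (1 : SL2 F) := by
  apply Subtype.ext
  simp [coe_hx, Matrix.one_fin_two]

theorem hx_neg_one : hx (-1 : Fˣ) = (-1 : SL2 F) := by
  apply Subtype.ext
  simp only [coe_hx, Matrix.SpecialLinearGroup.coe_neg, Matrix.SpecialLinearGroup.coe_one]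
  ext i j
  fin_cases i <;> fin_cases j <;> simp

/-- `b ↦ hx b` as a homomorphism -/
def hxHom (F : Type*) [Field F] : Fˣ →* SL2 F where
  toFun := hx
  map_one' := hx_one
  map_mul' := hx_mul

theorem hxHom_apply (b : Fˣ) : hxHom F b = hx b := rfl

theorem ux_lx_ux (t : Fˣ) : ux (t : F) * lx (-((t⁻¹ : Fˣ) : F)) * ux (t : F) = hx t * nx := by
  apply Subtype.ext
  simp only [Matrix.SpecialLinearGroup.coe_mul, coe_hx, coe_ux, coe_lx, coe_nx, Matrix.mul_fin_two]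
  ext i j
  fin_cases i <;> fin_cases j <;> simp

theorem eq_top_of_ux_lx (S : Subgroup (SL2 F)) (h1 : ∀ t : F, ux t ∈ S) (h2 : ∀ t : F, lx t ∈ S) : S = ⊤ := by
  have key : ∀ g : SL2 F, g.1 1 0 ≠ 0 → g ∈ S := by
    intro g hg
    have e : g = ux ((g.1 0 0 - 1) / g.1 1 0) * lx (g.1 1 0) * ux ((g.1 1 1 - 1) / g.1 1 0) := by
      have hdet := g.2
      rw [Matrix.det_fin_two] at hdet
      apply Subtype.ext
      rw [Matrix.SpecialLinearGroup.coe_mul, Matrix.SpecialLinearGroup.coe_mul]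
      show g.1 = !![1, (g.1 0 0 - 1) / g.1 1 0; 0, 1] * !![1, 0; g.1 1 0, 1] * !![1, (g.1 1 1 - 1) / g.1 1 0; 0, 1]
      rw [Matrix.mul_fin_two, Matrix.mul_fin_two]
      ext i j
      fin_cases i <;> fin_cases j
      · show g.1 0 0 = (1 * 1 + (g.1 0 0 - 1) / g.1 1 0 * g.1 1 0) * 1 + (1 * 0 + (g.1 0 0 - 1) / g.1 1 0 * 1) * 0
        field_simp; ring
      · show g.1 0 1 = (1 * 1 + (g.1 0 0 - 1) / g.1 1 0 * g.1 1 0) * ((g.1 1 1 - 1) / g.1 1 0) +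
          (1 * 0 + (g.1 0 0 - 1) / g.1 1 0 * 1) * 1
        field_simp
        linear_combination -hdet
      · show g.1 1 0 = (0 * 1 + 1 * g.1 1 0) * 1 + (0 * 0 + 1 * 1) * 0
        ring
      · show g.1 1 1 = (0 * 1 + 1 * g.1 1 0) * ((g.1 1 1 - 1) / g.1 1 0) + (0 * 0 + 1 * 1) * 1
        field_simp; ring
    rw [e]
    exact mul_mem (mul_mem (h1 _) (h2 _)) (h1 _)
  rw [eq_top_iff]
  intro g _
  by_cases hg : g.1 1 0 = 0
  · have hd : g.1 1 1 ≠ 0 := by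
      intro h0
      have hdet := g.2
      rw [Matrix.det_fin_two, h0, hg] at hdet
      simp at hdet
    have h3 : g * lx 1 ∈ S := by
      apply key
      rw [Matrix.SpecialLinearGroup.coe_mul]
      rw [coe_lx, Matrix.mul_apply, Fin.sum_univ_two]
      show g.1 1 0 * 1 + g.1 1 1 * 1 ≠ 0
      rw [hg, zero_mul, zero_add, mul_one]
      exact hd
    have h4 := mul_mem h3 (inv_mem (h2 1))
    rwa [mul_inv_cancel_right] at h4
  · exact key g hg

end Mat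

section

variable {G F : Type*} [Group G] [Field F] {D : Pair G F} {y : F → G}

/-- the short root elements opposite to `y2` -/
def x2 (D : Pair G F) (y : F → G) (s : F) : G := D.φ₁ nx * y s * (D.φ₁ nx)⁻¹

theorem Pair.w_inv (D : Pair G F) : D.w⁻¹ = D.w := inv_eq_of_mul_eq_one_left D.ww

theorem Pair.w_mul_w_mul (D : Pair G F) (g : G) : D.w * (D.w * g) = g := by rw [← mul_assoc, D.ww, one_mul]

theorem Pair.w_mul_φ₁ (D : Pair G F) (a : SL2 F) : D.w * D.φ₁ a = D.φ₂ a * D.w := by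
  rw [← D.conj a]; simp only [mul_assoc, D.ww, mul_one]

theorem Pair.w_mul_φ₂ (D : Pair G F) (a : SL2 F) : D.w * D.φ₂ a = D.φ₁ a * D.w := by
  rw [← D.conj a]; simp only [mul_assoc, D.w_mul_w_mul]

theorem Pair.conj₂ (D : Pair G F) (a : SL2 F) : D.w * D.φ₂ a * D.w = D.φ₁ a := by
  rw [D.w_mul_φ₂, mul_assoc, D.ww, mul_one]

theorem sc {g x x' x'' : G} (h : SemiconjBy g x x') (e : x' = x'') : SemiconjBy g x x'' := e ▸ h

namespace Root

variable (R : Root D y)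

include R

theorem y_zero : y 0 = 1 := by
  have h := R.add 0 0
  rw [add_zero] at h
  exact (mul_eq_left.1 h.symm)

theorem y_neg (t : F) : y (-t) = (y t)⁻¹ := by
  rw [eq_inv_iff_mul_eq_one, ← R.add, neg_add_cancel, R.y_zero]

theorem w_mul_y (t : F) : D.w * y t = y t * D.w := by
  have := R.w t
  calc D.w * y t = D.w * y t * D.w * D.w := by rw [mul_assoc _ D.w D.w, D.ww, mul_one]
    _ = y t * D.w := by rw [this]

theorem y_comm (s t : F) : y s * y t = y t * y s := by rw [← R.add, ← R.add, add_comm]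

/-- `y` commutes with `φ₁ (ux ·)` -/
theorem x₁ (s t : F) : y t * D.φ₁ (ux s) = D.φ₁ (ux s) * y t := by
  have h := congrArg (fun g => D.w * g * D.w) (R.x s t)
  have e1 : D.w * (y t * D.φ₂ (ux s)) * D.w = y t * D.φ₁ (ux s) := by
    rw [← mul_assoc, R.w_mul_y, mul_assoc, mul_assoc, ← mul_assoc D.w, D.conj₂]
  have e2 : D.w * (D.φ₂ (ux s) * y t) * D.w = D.φ₁ (ux s) * y t := by
    rw [← mul_assoc, D.w_mul_φ₂, mul_assoc (D.φ₁ (ux s)) D.w, R.w_mul_y, mul_assoc, mul_assoc, D.ww, mul_one]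
  rw [e1, e2] at h
  exact h

theorem z_mul_y (t : F) : D.z * y t = y (-t) * D.z := by
  have h := R.h (-1) t
  rw [hx_neg_one, D.z₂, Units.val_neg, Units.val_one, neg_mul, one_mul] at h
  rw [← h, inv_mul_cancel_right]

/-- the action of `φ₁ (hx b)` on `y` -/
theorem h₁ (b : Fˣ) (t : F) : D.φ₁ (hx b) * y t = y (b * t) * D.φ₁ (hx b) := by
  have h := R.h b t
  have h' : D.φ₂ (hx b) * y t = y (b * t) * D.φ₂ (hx b) := by rw [← h, inv_mul_cancel_right]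
  have h2 := congrArg (fun g => D.w * g * D.w) h'
  have e1 : D.w * (D.φ₂ (hx b) * y t) * D.w = D.φ₁ (hx b) * y t := by
    rw [← mul_assoc, D.w_mul_φ₂, mul_assoc (D.φ₁ _) D.w, R.w_mul_y, mul_assoc, mul_assoc, D.ww, mul_one]
  have e2 : D.w * (y (b * t) * D.φ₂ (hx b)) * D.w = y (b * t) * D.φ₁ (hx b) := by
    rw [← mul_assoc, R.w_mul_y, mul_assoc, mul_assoc, ← mul_assoc D.w, D.conj₂]
  rw [e1, e2] at h2
  exact h2

theorem h₂ (b : Fˣ) (t : F) : D.φ₂ (hx b) * y t = y (b * t) * D.φ₂ (hx b) := by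
  rw [← R.h b t, inv_mul_cancel_right]


/-! ### `y2` and `x2` -/

omit R in
theorem y2_eq (s : F) : y2 D y s = D.φ₂ nx * y s * (D.φ₂ nx)⁻¹ := rfl

theorem w_y2_w (s : F) : D.w * y2 D y s * D.w = x2 D y s := by
  unfold y2 x2
  have e : D.w * (D.φ₂ nx * y s * (D.φ₂ nx)⁻¹) * D.w =
      (D.w * D.φ₂ nx * D.w) * (D.w * y s * D.w) * (D.w * D.φ₂ nx * D.w)⁻¹ := by
    rw [_root_.mul_inv_rev, _root_.mul_inv_rev, D.w_inv]
    simp only [mul_assoc, D.w_mul_w_mul]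
  rw [e, D.conj₂, R.w]

theorem w_mul_y2 (s : F) : SemiconjBy D.w (y2 D y s) (x2 D y s) := by
  show _ = _
  rw [← w_y2_w R, mul_assoc (D.w * y2 D y s), D.ww, mul_one]

theorem w_mul_x2 (s : F) : SemiconjBy D.w (x2 D y s) (y2 D y s) := by
  show _ = _
  rw [← w_y2_w R, mul_assoc, D.w_mul_w_mul]

theorem y2_add (s t : F) : y2 D y (s + t) = y2 D y s * y2 D y t := by
  unfold y2
  rw [R.add]; group

theorem x2_add (s t : F) : x2 D y (s + t) = x2 D y s * x2 D y t := by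
  unfold x2
  rw [R.add]; group

theorem y2_zero : y2 D y 0 = 1 := by
  unfold y2
  rw [R.y_zero]; group

theorem y2_neg (t : F) : y2 D y (-t) = (y2 D y t)⁻¹ := by
  rw [eq_inv_iff_mul_eq_one, ← R.y2_add, neg_add_cancel, R.y2_zero]

theorem x2_zero : x2 D y 0 = 1 := by
  unfold x2
  rw [R.y_zero]; group

theorem x2_neg (t : F) : x2 D y (-t) = (x2 D y t)⁻¹ := by
  rw [eq_inv_iff_mul_eq_one, ← R.x2_add, neg_add_cancel, R.x2_zero]

/-- `φ₁ (ux ·)` commutes with `y2` -/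
theorem y2_x₁ (s t : F) : Commute (y2 D y t) (D.φ₁ (ux s)) := by
  have h1 : Commute (D.φ₂ nx) (D.φ₁ (ux s)) := (D.comm (ux s) nx).symm
  have h2 : Commute (y t) (D.φ₁ (ux s)) := R.x₁ s t
  exact (h1.mul_left h2).mul_left h1.inv_left

end Root

/-- elements of the abelian group generated by `y`, `φ₁ (ux ·)`, `φ₂ (ux ·)` -/
def v (D : Pair G F) (y : F → G) (a b c : F) : G := y a * D.φ₁ (ux b) * D.φ₂ (ux c)

/-- the element interchanging the two opposite abelian groups -/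
def c₀ (D : Pair G F) : G := D.φ₁ nx * D.φ₂ nx

namespace Root

variable (R : Root D y)

include R

theorem v_mul (a b c a' b' c' : F) : v D y a b c * v D y a' b' c' = v D y (a + a') (b + b') (c + c') := by
  unfold v
  rw [R.add, ux_add, ux_add, map_mul, map_mul]
  have h1 : Commute (y a') (D.φ₂ (ux c)) := R.x c a'
  have h2 : Commute (y a') (D.φ₁ (ux b)) := R.x₁ b a'
  have h3 : Commute (D.φ₁ (ux b')) (D.φ₂ (ux c)) := D.comm _ _
  calc y a * D.φ₁ (ux b) * D.φ₂ (ux c) * (y a' * D.φ₁ (ux b') * D.φ₂ (ux c'))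
      = y a * D.φ₁ (ux b) * (D.φ₂ (ux c) * y a') * D.φ₁ (ux b') * D.φ₂ (ux c') := by simp only [mul_assoc]
    _ = y a * (D.φ₁ (ux b) * y a') * (D.φ₂ (ux c) * D.φ₁ (ux b')) * D.φ₂ (ux c') := by
        rw [← h1.eq]; simp only [mul_assoc]
    _ = y a * y a' * (D.φ₁ (ux b) * D.φ₁ (ux b')) * (D.φ₂ (ux c) * D.φ₂ (ux c')) := by
        rw [← h2.eq, ← h3.eq]; simp only [mul_assoc]

omit R in
theorem y_eq (a : F) : y a = v D y a 0 0 := by unfold v; rw [ux_zero, map_one, map_one, mul_one, mul_one]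

theorem φ₁_eq (b : F) : D.φ₁ (ux b) = v D y 0 b 0 := by unfold v; rw [ux_zero, map_one, mul_one, R.y_zero, one_mul]

theorem φ₂_eq (c : F) : D.φ₂ (ux c) = v D y 0 0 c := by
  unfold v; rw [ux_zero, map_one, mul_one, R.y_zero, one_mul]

/-- the action of `y2` -/
theorem y2_y (t a : F) : SemiconjBy (y2 D y t) (y a) (v D y a (2 * a * t) 0) := by
  show _ = _
  have h := R.rel2 t a
  have h2 : y a * y2 D y t * D.φ₁ (ux (2 * a * t)) = y2 D y t * y a := by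
    rw [h, mul_assoc (y2 D y t * y a), ← map_mul, ← ux_add, neg_add_cancel, ux_zero, map_one, mul_one]
  rw [← h2, mul_assoc, (R.y2_x₁ _ t).eq, ← mul_assoc]
  unfold v
  rw [ux_zero, map_one, mul_one]

theorem y2_φ₂ (t c : F) : SemiconjBy (y2 D y t) (D.φ₂ (ux c)) (v D y (c * t) (t * t * c) c) := by
  show _ = _
  have h := R.rel (-t) c
  have h2 : D.φ₂ (ux c) * y2 D y (-t) =
      y2 D y (-t) * (y (c * t) * D.φ₁ (ux (t * t * c)) * D.φ₂ (ux c)) := by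
    rw [mul_neg, neg_neg, neg_mul_neg] at h
    calc D.φ₂ (ux c) * y2 D y (-t) = D.φ₂ (ux c) * y2 D y (-t) * (D.φ₂ (ux c))⁻¹ * D.φ₂ (ux c) := by
          rw [inv_mul_cancel_right]
      _ = _ := by rw [h]; simp only [mul_assoc]
  rw [R.y2_neg] at h2
  have h3 : y2 D y t * (D.φ₂ (ux c) * (y2 D y t)⁻¹) * y2 D y t =
      y2 D y t * ((y2 D y t)⁻¹ * (y (c * t) * D.φ₁ (ux (t * t * c)) * D.φ₂ (ux c))) * y2 D y t := by rw [h2]
  rw [mul_inv_cancel_left] at h3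
  rw [show y2 D y t * (D.φ₂ (ux c) * (y2 D y t)⁻¹) * y2 D y t = y2 D y t * D.φ₂ (ux c) by group] at h3
  exact h3

theorem y2_v (t a b c : F) :
    SemiconjBy (y2 D y t) (v D y a b c) (v D y (a + c * t) (b + 2 * a * t + t * t * c) c) := by
  have h1 := R.y2_y t a
  have h2 : SemiconjBy (y2 D y t) (D.φ₁ (ux b)) (v D y 0 b 0) := by
    rw [← R.φ₁_eq]; exact R.y2_x₁ b t
  have h3 := R.y2_φ₂ t c
  have h4 := (h1.mul_right h2).mul_right h3
  rw [R.v_mul, R.v_mul] at h4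
  refine sc h4 ?_
  congr 1
  · ring
  · ring
  · ring

theorem w_v (a b c : F) : SemiconjBy D.w (v D y a b c) (v D y a c b) := by
  have h1 : SemiconjBy D.w (y a) (y a) := R.w_mul_y a
  have h2 : SemiconjBy D.w (D.φ₁ (ux b)) (D.φ₂ (ux b)) := D.w_mul_φ₁ _
  have h3 : SemiconjBy D.w (D.φ₂ (ux c)) (D.φ₁ (ux c)) := D.w_mul_φ₂ _
  have h4 := (h1.mul_right h2).mul_right h3
  refine sc h4 ?_
  unfold v
  rw [mul_assoc, mul_assoc, D.comm]

theorem x2_v (t a b c : F) :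
    SemiconjBy (x2 D y t) (v D y a b c) (v D y (a + b * t) b (c + 2 * a * t + t * t * b)) := by
  have h1 := R.w_v a b c
  have h2 := R.y2_v t a c b
  have h3 := R.w_v (a + b * t) (c + 2 * a * t + t * t * b) b
  have h4 := (h3.mul_left h2).mul_left h1
  rw [R.w_y2_w] at h4
  exact h4

theorem hx₁_v (s : Fˣ) (a b c : F) :
    SemiconjBy (D.φ₁ (hx s)) (v D y a b c) (v D y (s * a) (s * s * b) c) := by
  have h1 : SemiconjBy (D.φ₁ (hx s)) (y a) (y (s * a)) := R.h₁ s a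
  have h2 : SemiconjBy (D.φ₁ (hx s)) (D.φ₁ (ux b)) (D.φ₁ (ux (s * s * b))) := by
    show _ = _
    rw [← map_mul, hx_mul_ux, map_mul]
  have h3 : SemiconjBy (D.φ₁ (hx s)) (D.φ₂ (ux c)) (D.φ₂ (ux c)) := D.comm _ _
  exact (h1.mul_right h2).mul_right h3

theorem hx₂_v (s : Fˣ) (a b c : F) :
    SemiconjBy (D.φ₂ (hx s)) (v D y a b c) (v D y (s * a) b (s * s * c)) := by
  have h1 : SemiconjBy (D.φ₂ (hx s)) (y a) (y (s * a)) := R.h₂ s a
  have h2 : SemiconjBy (D.φ₂ (hx s)) (D.φ₁ (ux b)) (D.φ₁ (ux b)) := (D.comm _ _).symm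
  have h3 : SemiconjBy (D.φ₂ (hx s)) (D.φ₂ (ux c)) (D.φ₂ (ux (s * s * c))) := by
    show _ = _
    rw [← map_mul, hx_mul_ux, map_mul]
  exact (h1.mul_right h2).mul_right h3

theorem z_y (a : F) : SemiconjBy D.z (y a) (y (-a)) := R.z_mul_y a

omit R in
theorem nx₁_mul_nx₁ : D.φ₁ nx * D.φ₁ nx = D.z := by rw [← map_mul, nx_mul_nx, D.z₁]

omit R in
theorem nx₂_mul_nx₂ : D.φ₂ nx * D.φ₂ nx = D.z := by rw [← map_mul, nx_mul_nx, D.z₂]

omit R in
theorem nx₁_y (a : F) : SemiconjBy (D.φ₁ nx) (y a) (x2 D y a) := by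
  show _ = _
  unfold x2; rw [inv_mul_cancel_right]

omit R in
theorem nx₂_y (a : F) : SemiconjBy (D.φ₂ nx) (y a) (y2 D y a) := by
  show _ = _
  unfold y2; rw [inv_mul_cancel_right]

theorem nx₁_x2 (a : F) : SemiconjBy (D.φ₁ nx) (x2 D y a) (y (-a)) := by
  have h1 : SemiconjBy (D.φ₁ nx) (y a) (x2 D y a) := nx₁_y a
  have h2 : SemiconjBy (D.φ₁ nx * D.φ₁ nx) (y a) (y (-a)) := by
    rw [nx₁_mul_nx₁]; exact R.z_y a
  have h3 := h2.mul_left h1.inv_symm_left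
  rwa [mul_inv_cancel_right] at h3

theorem nx₂_y2 (a : F) : SemiconjBy (D.φ₂ nx) (y2 D y a) (y (-a)) := by
  have h1 : SemiconjBy (D.φ₂ nx) (y a) (y2 D y a) := nx₂_y a
  have h2 : SemiconjBy (D.φ₂ nx * D.φ₂ nx) (y a) (y (-a)) := by
    rw [nx₂_mul_nx₂]; exact R.z_y a
  have h3 := h2.mul_left h1.inv_symm_left
  rwa [mul_inv_cancel_right] at h3

omit R in
/-- the opposite short root element -/
theorem nx₂_x2 (a : F) : SemiconjBy (D.φ₂ nx) (x2 D y a) (c₀ D * y a * (c₀ D)⁻¹) := by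
  show _ = _
  unfold x2 c₀
  rw [D.comm nx nx]
  group

omit R in
theorem nx₁_y2 (a : F) : SemiconjBy (D.φ₁ nx) (y2 D y a) (c₀ D * y a * (c₀ D)⁻¹) := by
  show _ = _
  unfold y2 c₀
  group

theorem c₀_x2 (a : F) : SemiconjBy (c₀ D) (x2 D y a) (y2 D y (-a)) := by
  have h1 := R.nx₁_x2 a
  have h2 : SemiconjBy (D.φ₂ nx) (y (-a)) (y2 D y (-a)) := nx₂_y (-a)
  have h3 := h2.mul_left h1
  unfold c₀
  rw [D.comm nx nx]
  exact h3

theorem c₀_y2 (a : F) : SemiconjBy (c₀ D) (y2 D y a) (x2 D y (-a)) := by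
  have h1 := R.nx₂_y2 a
  have h2 : SemiconjBy (D.φ₁ nx) (y (-a)) (x2 D y (-a)) := nx₁_y (-a)
  exact h2.mul_left h1

omit R in
theorem semiconj_conj {g g' c x x' : G} (h : SemiconjBy c g' g) (h' : SemiconjBy g' x x') :
    SemiconjBy g (c * x * c⁻¹) (c * x' * c⁻¹) := by
  have h0 : c * g' = g * c := h
  have h1 : g' * x = x' * g' := h'
  show g * (c * x * c⁻¹) = c * x' * c⁻¹ * g
  have h2 : c⁻¹ * g = g' * c⁻¹ := by
    rw [inv_mul_eq_iff_eq_mul, ← mul_assoc, h0, mul_inv_cancel_right]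
  calc g * (c * x * c⁻¹) = (g * c) * x * c⁻¹ := by simp only [mul_assoc]
    _ = c * (g' * x) * c⁻¹ := by rw [← h0]; simp only [mul_assoc]
    _ = c * x' * (g' * c⁻¹) := by rw [h1]; simp only [mul_assoc]
    _ = c * x' * c⁻¹ * g := by rw [← h2]; simp only [mul_assoc]

/-- the element `n(t)` -/
def nt (D : Pair G F) (y : F → G) (t : Fˣ) : G := y2 D y t * x2 D y (-((t⁻¹ : Fˣ) : F)) * y2 D y t

/-- the other form of `n(t)` -/
def nt' (D : Pair G F) (t : Fˣ) : G := D.φ₁ (hx t) * D.φ₂ (hx (-t⁻¹)) * D.w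

theorem nt_v (t : Fˣ) (a b c : F) : SemiconjBy (nt D y t) (v D y a b c)
    (v D y (-a) (t * t * c) ((t⁻¹ : Fˣ) * (t⁻¹ : Fˣ) * b)) := by
  have h1 := R.y2_v (t : F) a b c
  have h2 := R.x2_v (-((t⁻¹ : Fˣ) : F)) (a + c * t) (b + 2 * a * t + t * t * c) c
  have h3 := R.y2_v (t : F) (a + c * t + (b + 2 * a * t + t * t * c) * (-((t⁻¹ : Fˣ) : F)))
    (b + 2 * a * t + t * t * c)
    (c + 2 * (a + c * t) * (-((t⁻¹ : Fˣ) : F)) +
      (-((t⁻¹ : Fˣ) : F)) * (-((t⁻¹ : Fˣ) : F)) * (b + 2 * a * t + t * t * c))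
  have h4 := (h3.mul_left h2).mul_left h1
  have ht : (t : F) ≠ 0 := t.ne_zero
  have hi : ((t⁻¹ : Fˣ) : F) = (t : F)⁻¹ := Units.val_inv_eq_inv_val t
  refine sc h4 ?_
  rw [hi]
  congr 1
  all_goals (field_simp; ring)

theorem nt'_v (t : Fˣ) (a b c : F) : SemiconjBy (nt' D t) (v D y a b c)
    (v D y (-a) (t * t * c) ((t⁻¹ : Fˣ) * (t⁻¹ : Fˣ) * b)) := by
  have h1 := R.w_v a b c
  have h2 := R.hx₂_v (-t⁻¹) a c b
  have h3 := R.hx₁_v t (((-t⁻¹ : Fˣ) : F) * a) c (((-t⁻¹ : Fˣ) : F) * ((-t⁻¹ : Fˣ) : F) * b)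
  have h4 := (h3.mul_left h2).mul_left h1
  have ht : (t : F) ≠ 0 := t.ne_zero
  have hi : ((t⁻¹ : Fˣ) : F) = (t : F)⁻¹ := Units.val_inv_eq_inv_val t
  refine sc h4 ?_
  rw [Units.val_neg, hi]
  congr 1
  all_goals (field_simp)

/-- the opposite abelian group -/
theorem nt_vm (t : Fˣ) (a b c : F) : SemiconjBy (nt D y t) (c₀ D * v D y a b c * (c₀ D)⁻¹)
    (c₀ D * v D y (-a) ((t⁻¹ : Fˣ) * (t⁻¹ : Fˣ) * c) (t * t * b) * (c₀ D)⁻¹) := by
  have e1 : ∀ s : F, SemiconjBy (c₀ D) (x2 D y (-s)) (y2 D y s) := fun s => by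
    have := R.c₀_x2 (-s); rwa [neg_neg] at this
  have e2 : ∀ s : F, SemiconjBy (c₀ D) (y2 D y (-s)) (x2 D y s) := fun s => by
    have := R.c₀_y2 (-s); rwa [neg_neg] at this
  have ht : (t : F) ≠ 0 := t.ne_zero
  have hi : ((t⁻¹ : Fˣ) : F) = (t : F)⁻¹ := Units.val_inv_eq_inv_val t
  have h1 := semiconj_conj (e1 (t : F)) (R.x2_v (-(t : F)) a b c)
  have h2 := semiconj_conj (e2 (-((t⁻¹ : Fˣ) : F))) (R.y2_v (-(-((t⁻¹ : Fˣ) : F))) (a + b * -(t : F)) b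
    (c + 2 * a * -(t : F) + -(t : F) * -(t : F) * b))
  have h3 := semiconj_conj (e1 (t : F)) (R.x2_v (-(t : F))
    (a + b * -(t : F) + (c + 2 * a * -(t : F) + -(t : F) * -(t : F) * b) * -(-((t⁻¹ : Fˣ) : F)))
    (b + 2 * (a + b * -(t : F)) * -(-((t⁻¹ : Fˣ) : F)) + -(-((t⁻¹ : Fˣ) : F)) * -(-((t⁻¹ : Fˣ) : F)) *
      (c + 2 * a * -(t : F) + -(t : F) * -(t : F) * b))
    (c + 2 * a * -(t : F) + -(t : F) * -(t : F) * b))
  have h4 := (h3.mul_left h2).mul_left h1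
  refine sc h4 ?_
  rw [hi]
  congr 2
  congr 1
  all_goals (field_simp; ring)

omit R in
theorem c₀_hx₁ (s : Fˣ) : SemiconjBy (c₀ D) (D.φ₁ (hx s)) (D.φ₁ (hx s⁻¹)) := by
  have h1 : SemiconjBy (D.φ₂ nx) (D.φ₁ (hx s)) (D.φ₁ (hx s)) := (D.comm _ _).symm
  have h2 : SemiconjBy (D.φ₁ nx) (D.φ₁ (hx s)) (D.φ₁ (hx s⁻¹)) := by
    show _ = _
    rw [← map_mul, nx_mul_hx, map_mul]
  exact h2.mul_left h1

omit R in
theorem c₀_hx₂ (s : Fˣ) : SemiconjBy (c₀ D) (D.φ₂ (hx s)) (D.φ₂ (hx s⁻¹)) := by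
  have h1 : SemiconjBy (D.φ₂ nx) (D.φ₂ (hx s)) (D.φ₂ (hx s⁻¹)) := by
    show _ = _
    rw [← map_mul, nx_mul_hx, map_mul]
  have h2 : SemiconjBy (D.φ₁ nx) (D.φ₂ (hx s⁻¹)) (D.φ₂ (hx s⁻¹)) := D.comm _ _
  exact h2.mul_left h1

omit R in
theorem c₀_w : SemiconjBy (c₀ D) D.w D.w := by
  show _ = _
  unfold c₀
  rw [← mul_assoc, D.w_mul_φ₁, mul_assoc (D.φ₂ nx), D.w_mul_φ₂, ← mul_assoc, D.comm]

theorem nt'_vm (t : Fˣ) (a b c : F) : SemiconjBy (nt' D t) (c₀ D * v D y a b c * (c₀ D)⁻¹)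
    (c₀ D * v D y (-a) ((t⁻¹ : Fˣ) * (t⁻¹ : Fˣ) * c) (t * t * b) * (c₀ D)⁻¹) := by
  have e1 : ∀ s : Fˣ, SemiconjBy (c₀ D) (D.φ₁ (hx s⁻¹)) (D.φ₁ (hx s)) := fun s => by
    have := c₀_hx₁ (D := D) s⁻¹; rwa [inv_inv] at this
  have e2 : ∀ s : Fˣ, SemiconjBy (c₀ D) (D.φ₂ (hx s⁻¹)) (D.φ₂ (hx s)) := fun s => by
    have := c₀_hx₂ (D := D) s⁻¹; rwa [inv_inv] at this
  have ht : (t : F) ≠ 0 := t.ne_zero
  have hi : ((t⁻¹ : Fˣ) : F) = (t : F)⁻¹ := Units.val_inv_eq_inv_val t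
  have h1 := semiconj_conj c₀_w (R.w_v a b c)
  have h2 := semiconj_conj (e2 (-t⁻¹)) (R.hx₂_v (-t⁻¹)⁻¹ a c b)
  have h3 := semiconj_conj (e1 t) (R.hx₁_v t⁻¹ ((((-t⁻¹)⁻¹ : Fˣ) : F) * a) c
    ((((-t⁻¹)⁻¹ : Fˣ) : F) * (((-t⁻¹)⁻¹ : Fˣ) : F) * b))
  have h4 := (h3.mul_left h2).mul_left h1
  refine sc h4 ?_
  rw [Units.val_inv_eq_inv_val (-t⁻¹), Units.val_neg, hi]
  congr 2
  congr 1
  all_goals (field_simp)

/-- the two forms of `n(t)` agree -/
theorem nt_eq (t : Fˣ) : nt D y t = nt' D t := by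
  have k1 : ∀ a b c, Commute ((nt' D t)⁻¹ * nt D y t) (v D y a b c) := fun a b c =>
    (R.nt'_v t a b c).inv_symm_left.mul_left (R.nt_v t a b c)
  have k2 : ∀ a b c, Commute ((nt' D t)⁻¹ * nt D y t) (c₀ D * v D y a b c * (c₀ D)⁻¹) := fun a b c =>
    (R.nt'_vm t a b c).inv_symm_left.mul_left (R.nt_vm t a b c)
  have l1 : ∀ b : F, c₀ D * D.φ₁ (ux b) * (c₀ D)⁻¹ = D.φ₁ (lx (-b)) := by
    intro b
    unfold c₀
    rw [mul_inv_eq_iff_eq_mul, mul_assoc (D.φ₁ nx), ← D.comm, ← mul_assoc, ← map_mul, nx_mul_ux, map_mul, mul_assoc]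
  have l2 : ∀ b : F, c₀ D * D.φ₂ (ux b) * (c₀ D)⁻¹ = D.φ₂ (lx (-b)) := by
    intro b
    unfold c₀
    rw [mul_inv_eq_iff_eq_mul, mul_assoc (D.φ₁ nx), ← map_mul, nx_mul_ux, map_mul, ← mul_assoc, D.comm,
      mul_assoc]
  have f1 : ∀ a, ((nt' D t)⁻¹ * nt D y t) * D.φ₁ a = D.φ₁ a * ((nt' D t)⁻¹ * nt D y t) := by
    let S : Subgroup (SL2 F) := (Subgroup.centralizer {(nt' D t)⁻¹ * nt D y t}).comap D.φ₁
    have hS : S = ⊤ := by
      apply eq_top_of_ux_lx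
      · intro b
        rw [Subgroup.mem_comap, Subgroup.mem_centralizer_singleton_iff, R.φ₁_eq]
        exact (k1 0 b 0).symm.eq
      · intro b
        rw [Subgroup.mem_comap, Subgroup.mem_centralizer_singleton_iff]
        have h := k2 0 (-b) 0
        rw [← R.φ₁_eq, l1, neg_neg] at h
        exact h.symm.eq
    intro a
    have ha : a ∈ S := by rw [hS]; trivial
    rw [Subgroup.mem_comap, Subgroup.mem_centralizer_singleton_iff] at ha
    exact ha.symm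
  have f2 : ∀ a, ((nt' D t)⁻¹ * nt D y t) * D.φ₂ a = D.φ₂ a * ((nt' D t)⁻¹ * nt D y t) := by
    let S : Subgroup (SL2 F) := (Subgroup.centralizer {(nt' D t)⁻¹ * nt D y t}).comap D.φ₂
    have hS : S = ⊤ := by
      apply eq_top_of_ux_lx
      · intro b
        rw [Subgroup.mem_comap, Subgroup.mem_centralizer_singleton_iff, R.φ₂_eq]
        exact (k1 0 0 b).symm.eq
      · intro b
        rw [Subgroup.mem_comap, Subgroup.mem_centralizer_singleton_iff]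
        have h := k2 0 0 (-b)
        rw [← R.φ₂_eq, l2, neg_neg] at h
        exact h.symm.eq
    intro a
    have ha : a ∈ S := by rw [hS]; trivial
    rw [Subgroup.mem_comap, Subgroup.mem_centralizer_singleton_iff] at ha
    exact ha.symm
  have f3 : ∀ s, ((nt' D t)⁻¹ * nt D y t) * y s = y s * ((nt' D t)⁻¹ * nt D y t) := by
    intro s
    have h := (k1 s 0 0).eq
    rw [← y_eq (D := D) (y := y) s] at h
    exact h
  have := R.faithful _ f1 f2 f3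
  exact (inv_mul_eq_one.1 this).symm

/-- `w` lies in the group generated by `φ₁`, `φ₂`, `y` -/
theorem w_mem' : D.w ∈ gen D y := by
  have h := R.nt_eq 1
  have m1 : ∀ a, D.φ₁ a ∈ gen D y := fun a => Subgroup.subset_closure (Or.inl (Or.inl ⟨a, rfl⟩))
  have m2 : ∀ a, D.φ₂ a ∈ gen D y := fun a => Subgroup.subset_closure (Or.inl (Or.inr ⟨a, rfl⟩))
  have m3 : ∀ a, y a ∈ gen D y := fun a => Subgroup.subset_closure (Or.inr ⟨a, rfl⟩)
  have m4 : ∀ a, y2 D y a ∈ gen D y := fun a => mul_mem (mul_mem (m2 _) (m3 _)) (inv_mem (m2 _))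
  have m5 : ∀ a, x2 D y a ∈ gen D y := fun a => mul_mem (mul_mem (m1 _) (m3 _)) (inv_mem (m1 _))
  have h1 : nt' D 1 ∈ gen D y := by
    rw [← h]; exact mul_mem (mul_mem (m4 _) (m5 _)) (m4 _)
  have h2 : D.w = (D.φ₁ (hx 1) * D.φ₂ (hx (-1⁻¹)))⁻¹ * nt' D 1 := by
    unfold nt'
    rw [inv_mul_cancel_left]
  rw [h2]
  exact mul_mem (inv_mem (mul_mem (m1 _) (m2 _))) h1

end Root

end

end Cfsg.Agent.SpFourOdd
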