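import Cfsg.Agent.SpFourOdd.Defs

/-!
# Facts about `SL₂(F)`, `F` finite of characteristic `≠ 2`

Square roots of `1` and of `-1`, conjugacy of the latter, existence of a quaternion pair.
-/

set_option autoImplicit false

namespace Cfsg.Agent.SpFourOdd.Closing

open Matrix

section

variable {F : Type*} [Field F]

/-- entries -/
def ent (a : SL2 F) (i j : Fin 2) : F := (a : Matrix (Fin 2) (Fin 2) F) i j

theorem ent_det (a : SL2 F) : ent a 0 0 * ent a 1 1 - ent a 0 1 * ent a 1 0 = 1 := by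
  have h := a.2
  rw [det_fin_two] at h
  exact h

theorem ent_ext {a b : SL2 F} (h00 : ent a 0 0 = ent b 0 0) (h01 : ent a 0 1 = ent b 0 1)
    (h10 : ent a 1 0 = ent b 1 0) (h11 : ent a 1 1 = ent b 1 1) : a = b := by
  apply Subtype.ext
  ext i j
  fin_cases i <;> fin_cases j
  · exact h00
  · exact h01
  · exact h10
  · exact h11

theorem ent_mul (a b : SL2 F) (i j : Fin 2) : ent (a * b) i j = ent a i 0 * ent b 0 j + ent a i 1 * ent b 1 j := by
  change ((a : Matrix (Fin 2) (Fin 2) F) * (b : Matrix (Fin 2) (Fin 2) F)) i j = _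
  rw [Matrix.mul_apply, Fin.sum_univ_two]
  rfl

theorem ent_neg (a : SL2 F) (i j : Fin 2) : ent (-a) i j = - ent a i j := by
  rfl

theorem one00 : ent (1 : SL2 F) 0 0 = 1 := rfl
theorem one01 : ent (1 : SL2 F) 0 1 = 0 := rfl
theorem one10 : ent (1 : SL2 F) 1 0 = 0 := rfl
theorem one11 : ent (1 : SL2 F) 1 1 = 1 := rfl

/-- matrices by entries -/
def mk (a b c d : F) (h : a * d - b * c = 1) : SL2 F := ⟨!![a, b; c, d], by rw [det_fin_two_of, h]⟩

section mk
variable {a b c d : F} (h : a * d - b * c = 1)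
theorem mk00 : ent (mk a b c d h) 0 0 = a := rfl
theorem mk01 : ent (mk a b c d h) 0 1 = b := rfl
theorem mk10 : ent (mk a b c d h) 1 0 = c := rfl
theorem mk11 : ent (mk a b c d h) 1 1 = d := rfl
end mk

theorem nx00 : ent (nx : SL2 F) 0 0 = 0 := rfl
theorem nx01 : ent (nx : SL2 F) 0 1 = 1 := rfl
theorem nx10 : ent (nx : SL2 F) 1 0 = -1 := rfl
theorem nx11 : ent (nx : SL2 F) 1 1 = 0 := rfl

theorem neg_one_ne_one (h2 : (2 : F) ≠ 0) : (-1 : SL2 F) ≠ 1 := by
  intro h
  have h0 := congrArg (fun A : SL2 F => ent A 0 0) h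
  simp only [ent_neg, one00] at h0
  apply h2
  linear_combination -h0

theorem sq_one (h2 : (2 : F) ≠ 0) {a : SL2 F} (ha : a * a = 1) : a = 1 ∨ a = -1 := by
  have hd := ent_det a
  have e00 := congrArg (fun A : SL2 F => ent A 0 0) ha
  have e01 := congrArg (fun A : SL2 F => ent A 0 1) ha
  have e10 := congrArg (fun A : SL2 F => ent A 1 0) ha
  have e11 := congrArg (fun A : SL2 F => ent A 1 1) ha
  simp only [ent_mul, one00, one01, one10, one11] at e00 e01 e10 e11
  obtain ⟨p, hp⟩ : ∃ p, ent a 0 0 = p := ⟨_, rfl⟩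
  obtain ⟨q, hq⟩ : ∃ p, ent a 0 1 = p := ⟨_, rfl⟩
  obtain ⟨r, hr⟩ : ∃ p, ent a 1 0 = p := ⟨_, rfl⟩
  obtain ⟨s, hs⟩ : ∃ p, ent a 1 1 = p := ⟨_, rfl⟩
  simp only [hp, hq, hr, hs] at hd e00 e01 e10 e11
  have h1 : (p + s) * p = 2 := by linear_combination e00 + hd
  have h3 : (p + s) * s = 2 := by linear_combination e11 + hd
  have hps : p + s ≠ 0 := fun h => h2 (by rw [← h1, h, zero_mul])
  have hq0 : q = 0 := by
    have : (p + s) * q = 0 := by linear_combination e01
    rcases mul_eq_zero.mp this with h | h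
    · exact absurd h hps
    · exact h
  have hr0 : r = 0 := by
    have : (p + s) * r = 0 := by linear_combination e10
    rcases mul_eq_zero.mp this with h | h
    · exact absurd h hps
    · exact h
  have hpp : p = s := by
    have : (p + s) * (p - s) = 0 := by linear_combination h1 - h3
    rcases mul_eq_zero.mp this with h | h
    · exact absurd h hps
    · exact sub_eq_zero.mp h
  have hp1 : (p - 1) * (p + 1) = 0 := by rw [hq0] at e00; linear_combination e00
  rcases mul_eq_zero.mp hp1 with h | h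
  · left
    have hp' : p = 1 := sub_eq_zero.mp h
    exact ent_ext (by rw [one00, hp, hp']) (by rw [one01, hq, hq0]) (by rw [one10, hr, hr0])
      (by rw [one11, hs, ← hpp, hp'])
  · right
    have hp' : p = -1 := by linear_combination h
    exact ent_ext (by rw [ent_neg, one00, hp, hp']) (by rw [ent_neg, one01, hq, hq0, neg_zero])
      (by rw [ent_neg, one10, hr, hr0, neg_zero]) (by rw [ent_neg, one11, hs, ← hpp, hp'])

/-- the trace of a square root of `-1` is zero -/
theorem trace_zero {a : SL2 F} (ha : a * a = -1) : ent a 1 1 = -(ent a 0 0) := by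
  have hd := ent_det a
  have e00 := congrArg (fun A : SL2 F => ent A 0 0) ha
  have e01 := congrArg (fun A : SL2 F => ent A 0 1) ha
  have e10 := congrArg (fun A : SL2 F => ent A 1 0) ha
  have e11 := congrArg (fun A : SL2 F => ent A 1 1) ha
  simp only [ent_mul, ent_neg, one00, one01, one10, one11] at e00 e01 e10 e11
  obtain ⟨p, hp⟩ : ∃ p, ent a 0 0 = p := ⟨_, rfl⟩
  obtain ⟨q, hq⟩ : ∃ p, ent a 0 1 = p := ⟨_, rfl⟩
  obtain ⟨r, hr⟩ : ∃ p, ent a 1 0 = p := ⟨_, rfl⟩
  obtain ⟨s, hs⟩ : ∃ p, ent a 1 1 = p := ⟨_, rfl⟩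
  simp only [hp, hq, hr, hs] at hd e00 e01 e10 e11
  rw [hp, hs]
  by_contra hne
  have hps : p + s ≠ 0 := fun h => hne (by linear_combination h)
  have h1 : (p + s) * p = 0 := by linear_combination e00 + hd
  have h3 : (p + s) * s = 0 := by linear_combination e11 + hd
  have hp0 : p = 0 := by
    rcases mul_eq_zero.mp h1 with h | h
    · exact absurd h hps
    · exact h
  have hs0 : s = 0 := by
    rcases mul_eq_zero.mp h3 with h | h
    · exact absurd h hps
    · exact h
  exact hps (by rw [hp0, hs0, add_zero])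

theorem exists_two_sq [Finite F] (h2 : (2 : F) ≠ 0) (c : F) : ∃ s t : F, s ^ 2 + t ^ 2 = c := by
  classical
  have := Fintype.ofFinite F
  have hF : ringChar F ≠ 2 := by
    intro h
    apply h2
    have := CharP.cast_eq_zero F (ringChar F)
    rw [h] at this
    exact_mod_cast this
  obtain ⟨a, b, hab⟩ :
      ∃ a b : F, (Polynomial.X ^ 2 : Polynomial F).eval a
        + (Polynomial.X ^ 2 - Polynomial.C c : Polynomial F).eval b = 0 :=
    FiniteField.exists_root_sum_quadratic (Polynomial.degree_X_pow 2)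
      (Polynomial.degree_X_pow_sub_C (by decide) _)
      (FiniteField.odd_card_of_char_ne_two hF)
  refine ⟨a, b, ?_⟩
  simp at hab
  linear_combination hab

theorem nx_sq : (nx : SL2 F) * nx = -1 := by
  apply ent_ext
  · rw [ent_mul, ent_neg, one00, nx00, nx01, nx10]; ring
  · rw [ent_mul, ent_neg, one01, nx00, nx01, nx11]; ring
  · rw [ent_mul, ent_neg, one10, nx00, nx11, nx10]; ring
  · rw [ent_mul, ent_neg, one11, nx11, nx01, nx10]; ring

/-- every square root of `-1` is conjugate to `nx` -/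
theorem conj_nx [Finite F] (h2 : (2 : F) ≠ 0) {a : SL2 F} (ha : a * a = -1) : ∃ c : SL2 F, c * a = nx * c := by
  have hd := ent_det a
  have ht := trace_zero ha
  have e00 := congrArg (fun A : SL2 F => ent A 0 0) ha
  have e01 := congrArg (fun A : SL2 F => ent A 0 1) ha
  have e10 := congrArg (fun A : SL2 F => ent A 1 0) ha
  have e11 := congrArg (fun A : SL2 F => ent A 1 1) ha
  simp only [ent_mul, ent_neg, one00, one01, one10, one11] at e00 e01 e10 e11
  obtain ⟨p, hp⟩ : ∃ p, ent a 0 0 = p := ⟨_, rfl⟩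
  obtain ⟨q, hq⟩ : ∃ p, ent a 0 1 = p := ⟨_, rfl⟩
  obtain ⟨r, hr⟩ : ∃ p, ent a 1 0 = p := ⟨_, rfl⟩
  obtain ⟨s, hs⟩ : ∃ p, ent a 1 1 = p := ⟨_, rfl⟩
  simp only [hp, hq, hr, hs] at hd e00 e01 e10 e11
  rw [hp, hs] at ht
  subst ht
  have key : ∃ x y : F, q * x ^ 2 - 2 * p * x * y - r * y ^ 2 = 1 := by
    by_cases hq : q = 0
    · rw [hq] at hd
      have hp : p ≠ 0 := by
        intro h
        rw [h] at hd
        simp at hd
      refine ⟨-(1 + r) / (2 * p), 1, ?_⟩
      rw [hq]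
      field_simp
      ring
    · obtain ⟨X, Y, hXY⟩ := exists_two_sq h2 q
      refine ⟨(X + p * Y) / q, Y, ?_⟩
      have : q * (q * ((X + p * Y) / q) ^ 2 - 2 * p * ((X + p * Y) / q) * Y - r * Y ^ 2) = q * 1 := by
        field_simp
        linear_combination hXY + Y ^ 2 * hd
      exact mul_left_cancel₀ hq this
  obtain ⟨x, y, hxy⟩ := key
  refine ⟨mk x y (x * p + y * r) (x * q + y * (-p)) (by linear_combination hxy), ?_⟩
  apply ent_ext
  · rw [ent_mul, ent_mul, mk00, mk01, mk10, nx00, nx01, hp, hr]; ring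
  · rw [ent_mul, ent_mul, mk00, mk01, mk11, nx00, nx01, hq, hs]; ring
  · rw [ent_mul, ent_mul, mk00, mk11, mk10, nx10, nx11, hp, hr]; linear_combination x * e00 + y * e10
  · rw [ent_mul, ent_mul, mk01, mk11, mk10, nx10, nx11, hq, hs]; linear_combination x * e01 + y * e11

/-- any two square roots of `-1` are conjugate -/
theorem conj_of_sq [Finite F] (h2 : (2 : F) ≠ 0) {a b : SL2 F} (ha : a * a = -1) (hb : b * b = -1) :
    ∃ c : SL2 F, c * a * c⁻¹ = b := by
  obtain ⟨c, hc⟩ := conj_nx h2 ha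
  obtain ⟨d, hd⟩ := conj_nx h2 hb
  refine ⟨d⁻¹ * c, ?_⟩
  have h1 : d⁻¹ * c * a * (d⁻¹ * c)⁻¹ = d⁻¹ * (c * a) * c⁻¹ * d := by group
  rw [h1, hc]
  have h3 : d⁻¹ * (nx * c) * c⁻¹ * d = d⁻¹ * (nx * d) := by group
  rw [h3, ← hd]
  group

/-- a quaternion pair -/
theorem exists_pair [Finite F] (h2 : (2 : F) ≠ 0) : ∃ i j : SL2 F, i * i = -1 ∧ j * j = -1 ∧ i * j = -(j * i) := by
  obtain ⟨s, t, hst⟩ := exists_two_sq h2 (-1 : F)
  refine ⟨nx, mk s t t (-s) (by linear_combination -hst), nx_sq, ?_, ?_⟩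
  · apply ent_ext
    · rw [ent_mul, mk00, mk01, mk10, ent_neg, one00]; linear_combination hst
    · rw [ent_mul, mk00, mk01, mk11, ent_neg, one01]; ring
    · rw [ent_mul, mk00, mk11, mk10, ent_neg, one10]; ring
    · rw [ent_mul, mk01, mk11, mk10, ent_neg, one11]; linear_combination hst
  · apply ent_ext
    · rw [ent_neg, ent_mul, ent_mul, mk00, mk01, mk10, nx00, nx01, nx10]; ring
    · rw [ent_neg, ent_mul, ent_mul, mk00, mk01, mk11, nx00, nx01, nx11]; ring
    · rw [ent_neg, ent_mul, ent_mul, mk00, mk11, mk10, nx00, nx10, nx11]; ring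
    · rw [ent_neg, ent_mul, ent_mul, mk01, mk11, mk10, nx01, nx10, nx11]; ring

end

end Cfsg.Agent.SpFourOdd.Closing
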